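import Cfsg.Agent.Lib.Thompson.ChevStep
import Cfsg.Agent.Lib.Chev.BNCore

/-!
Every nontrivial element of a Chevalley group has, for each point of the torus, a conjugate in the big cell with that
torus part.
-/

set_option autoImplicit false
set_option linter.unusedSectionVars false

namespace Cfsg.Agent.Thompson.Sides

open Cfsg.Lie Cfsg.Agent.Chev Cfsg.Agent.Chev.BNSetup
open Matrix (SpecialLinearGroup)

variable {F : Type*} [Field F] {D : ChevalleyDatum}

theorem upper_eq {s : F} (hs : s ≠ 0) :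
    upperSL s = lowerSL s⁻¹ * (upperSL s * lowerSL (-s⁻¹) * upperSL s) * lowerSL s⁻¹ := by
  apply Subtype.ext
  show (!![1, s; 0, 1] : Matrix (Fin 2) (Fin 2) F) =
    !![1, 0; s⁻¹, 1] * (!![1, s; 0, 1] * !![1, 0; -s⁻¹, 1] * !![1, s; 0, 1]) * !![1, 0; s⁻¹, 1]
  ext i j
  fin_cases i <;> fin_cases j <;> simp [Matrix.mul_apply, Fin.sum_univ_two, hs]

variable (hG : Good D) {tabs simps : List ℕ} (hf : Facts D tabs simps) {M : List (List ℤ)}
  (hc : CoefFacts D M tabs)
include hG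

theorem xe_eq_lnl {i : ℕ} (hi : i < D.rank) {s : F} (hs : s ≠ 0) :
    xe hG (D.simple i) s = xe hG (D.neg (D.simple i)) s⁻¹ * ne' hG (D.simple i) s *
      xe hG (D.neg (D.simple i)) s⁻¹ := by
  obtain ⟨φ, h1, h2⟩ := hG.exists_sl2_hom (F := F) (hG.simple_lt hi)
  have h1' : ∀ t, φ (upperSL t) = xe hG (D.simple i) t := fun t => (h1 t).trans (xg_eq hG _ t)
  have h2' : ∀ t, φ (lowerSL t) = xe hG (D.neg (D.simple i)) t := fun t => (h2 t).trans (xg_eq hG _ t)
  have h := congrArg φ (upper_eq hs)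
  simp only [map_mul, h1', h2'] at h
  simpa only [ne'] using h

include hf hc

theorem he_mul_conj_rad (b : Bool) {J : Set ℕ} {h : GL D.Idx F} (hh : h ∈ D.diagonalSubgroup F)
    {g : GL D.Idx F} (hg : g ∈ rad F hG b J) : h * g * h⁻¹ ∈ rad F hG b J := rootGen_H hG hh hg

theorem torus_mem_H (c : Fin D.rank → Fˣ) : torusHom F D c ∈ D.diagonalSubgroup F := by
  rw [diagonal_eq_range hG]
  exact ⟨c, rfl⟩

theorem exists_torus {h : GL D.Idx F} (hh : h ∈ D.diagonalSubgroup F) :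
    ∃ c : Fin D.rank → Fˣ, h = torusHom F D c := by
  rw [diagonal_eq_range hG] at hh
  obtain ⟨c, rfl⟩ := hh
  exact ⟨c, rfl⟩

theorem torus_mem_group (c : Fin D.rank → Fˣ) : torusHom F D c ∈ D.group F :=
  borel_le_group hG hf (Subgroup.mem_sup_right (torus_mem_H hG hf hc c))

theorem nn_conj_rad' (b : Bool) (i : Fin D.rank) {g : GL D.Idx F} (hg : g ∈ rad F hG b {i.val}) :
    (data hG F).nn i * g * ((data hG F).nn i)⁻¹ ∈ rad F hG b {i.val} := by
  have hi := hG.simple_lt i.2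
  have hp : ∀ (t : F) {g}, g ∈ rad F hG b {i.val} →
      xe hG (D.simple i.val) t * g * (xe hG (D.simple i.val) t)⁻¹ ∈ rad F hG b {i.val} := fun t _ hg =>
    rad_conj hG hf hc hi (Or.inr (inRootSub_simple hG hf hc i.2 (Set.mem_singleton i.val))) t hg
  have hn : ∀ (t : F) {g}, g ∈ rad F hG b {i.val} →
      xe hG (D.neg (D.simple i.val)) t * g * (xe hG (D.neg (D.simple i.val)) t)⁻¹ ∈ rad F hG b {i.val} :=
    fun t _ hg => rad_conj hG hf hc (hG.neg_lt hi)
      (Or.inr (inRootSub_neg hG hf hc (inRootSub_simple hG hf hc i.2 (Set.mem_singleton i.val)))) t hg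
  have key := hp 1 (hn (-1) (hp 1 hg))
  show ne' hG (D.simple i.val) 1 * g * (ne' hG (D.simple i.val) 1)⁻¹ ∈ _
  simp only [ne', inv_one]
  simpa only [mul_inv_rev, mul_assoc] using key

/-- One descent step. -/
theorem cell_step (hq : ∀ a : F, ∃ r : F, r ≠ 0 ∧ 1 + r * a ≠ 0) (i : Fin D.rank) (l : List (Fin D.rank))
    (hi : ¬ (data hG F).Pos (((data hG F).wl l)⁻¹ ((data hG F).simp i)))
    {v : GL D.Idx F} (hv : v ∈ uni F hG false) {n : GL D.Idx F} (hn : n ∈ (data hG F).N)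
    (hσ : (data hG F).Acts n ((data hG F).wl l)) {b : GL D.Idx F} (hb : b ∈ (data hG F).B) :
    ∃ v' ∈ uni F hG false, ∃ n' ∈ (data hG F).N, (data hG F).Acts n' ((data hG F).wl (i :: l)) ∧
      ∃ b' ∈ (data hG F).B, CG D (v * n * b) (v' * n' * b') := by
  have ax := axioms (F := F) hG hf
  have hil := hG.simple_lt i.2
  obtain ⟨a, v0, hv0, rfl⟩ := exists_coord hG hf hc false i.2 hv
  obtain ⟨r, hr, hra⟩ := hq a
  obtain ⟨lu, hlu⟩ : ∃ lu : Fˣ, (lu : F) = 1 + r * a := ⟨Units.mk0 _ hra, rfl⟩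
  obtain ⟨s, hsd⟩ : ∃ s : F, s = r / (lu : F) := ⟨_, rfl⟩
  have hs : s ≠ 0 := hsd ▸ div_ne_zero hr lu.ne_zero
  have e1 := sl2_move hG true i.2 r (-a) lu (by rw [hlu]; ring)
  simp only [sroot, Bool.not_true, if_true, Bool.false_eq_true, if_false, tu, neg_neg] at e1
  rw [xe_inv hG (hG.neg_lt hil), neg_neg, ← hsd] at e1
  have e2 := xe_eq_lnl hG i.2 hs
  have hh : he hG (D.simple i.val) (lu : F) ∈ D.diagonalSubgroup F := he_mem_H hG hil lu.ne_zero
  obtain ⟨h, hhd⟩ : ∃ h, h = he hG (D.simple i.val) (lu : F) := ⟨_, rfl⟩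
  rw [← hhd] at hh e1
  have hv0' : h * xe hG (D.simple i.val) s * v0 * (h * xe hG (D.simple i.val) s)⁻¹ ∈ rad F hG false {i.val} := by
    have h1 := he_mul_conj_rad hG hf hc false hh
      (rad_conj hG hf hc hil (Or.inr (inRootSub_simple hG hf hc i.2 (Set.mem_singleton i.val))) s hv0)
    simpa only [mul_inv_rev, mul_assoc] using h1
  have hlow' : xe hG (D.neg (D.simple i.val)) s⁻¹ ∈ rootGen hG F {r | SPos D false r.val} :=
    xe_mem_uni hG (spos_sroot hG hf hc false i.2) _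
  have hconjB : n⁻¹ * xe hG (D.neg (D.simple i.val)) s⁻¹ * n ∈ (data hG F).B := by
    obtain ⟨r', hr'⟩ : ∃ r', r' = ((data hG F).wl l)⁻¹ ((data hG F).opp ((data hG F).simp i)) := ⟨_, rfl⟩
    have hpos : (data hG F).Pos r' := by
      rw [hr', ← RootBN.Data.wl_reverse ax, RootBN.Data.wl_opp ax, RootBN.Data.wl_reverse ax]
      exact (ax.pos_opp _).2 hi
    have e3 : (data hG F).wl l r' = (data hG F).opp ((data hG F).simp i) := by
      rw [hr', Equiv.Perm.inv_def, Equiv.apply_symm_apply]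
    refine RootBN.Data.U_le_B (RootBN.Data.X_le_U hpos ((hσ r' _).1 ?_))
    rw [e3]
    have : n * (n⁻¹ * xe hG (D.neg (D.simple i.val)) s⁻¹ * n) * n⁻¹ = xe hG (D.neg (D.simple i.val)) s⁻¹ := by
      group
    rw [this]
    exact (mem_rootSubgroup hG (hG.neg_lt hil)).2 ⟨_, rfl⟩
  refine ⟨xe hG (D.neg (D.simple i.val)) (a / (lu : F)) *
      (h * xe hG (D.simple i.val) s * v0 * (h * xe hG (D.simple i.val) s)⁻¹) *
      (h * xe hG (D.neg (D.simple i.val)) s⁻¹ * h⁻¹), ?_,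
    h * ne' hG (D.simple i.val) s * n, ?_, ?_,
    n⁻¹ * xe hG (D.neg (D.simple i.val)) s⁻¹ * n * b * xe hG (D.simple i.val) (-r), ?_,
    xe hG (D.simple i.val) r, xe_mem_group hG hil r, ?_⟩
  · exact Subgroup.mul_mem _ (Subgroup.mul_mem _ (xe_mem_uni hG (spos_sroot hG hf hc false i.2) _)
      (rad_le_uni hG hf hc false _ hv0')) (rootGen_H hG hh hlow')
  · rw [ne'_eq_he_mul hG hil]
    exact Subgroup.mul_mem _ (Subgroup.mul_mem _ (RootBN.Data.H_le_N hh)
      (Subgroup.mul_mem _ (RootBN.Data.H_le_N (he_mem_H hG hil hs)) (RootBN.Data.nn_mem_N i))) hn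
  · have h1 := ((RootBN.Data.acts_H ax (show h ∈ (data hG F).H from hh)).mul
      ((RootBN.Data.acts_H ax (show he hG (D.simple i.val) s ∈ (data hG F).H from he_mem_H hG hil hs)).mul
        (RootBN.Data.acts_nn ax i))).mul hσ
    rw [one_mul, one_mul] at h1
    rw [RootBN.Data.wl_cons, ne'_eq_he_mul hG hil]
    exact h1
  · exact Subgroup.mul_mem _ (Subgroup.mul_mem _ hconjB hb)
      (RootBN.Data.X_simp_le_B ax i ((mem_rootSubgroup hG hil).2 ⟨_, rfl⟩))
  · show _ = xe hG (D.simple i.val) r * (xe hG (D.neg (D.simple i.val)) a * v0 * n * b) * _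
    rw [← xe_inv hG hil]
    simp only [← mul_assoc]
    rw [e1, e2]
    group

/-- Every element is conjugate into the big cell. -/
theorem conj_into_cell (hq : ∀ a : F, ∃ r : F, r ≠ 0 ∧ 1 + r * a ≠ 0) {g : GL D.Idx F} (hg : g ∈ D.group F) :
    ∃ g' c, CG D g g' ∧ St hG true g' c ∅ ∅ := by
  have ax := axioms (F := F) hG hf
  suffices key : ∀ k, ∀ l : List (Fin D.rank), (data hG F).inv ((data hG F).wl l) = k →
      ∀ v ∈ uni F hG false, ∀ n ∈ (data hG F).N, (data hG F).Acts n ((data hG F).wl l) →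
      ∀ b ∈ (data hG F).B, ∃ g' c, CG D (v * n * b) g' ∧ St hG true g' c ∅ ∅ by
    obtain ⟨l, hl⟩ := RootBN.Data.exists_cell ax ((data_grp hG).ge hg)
    obtain ⟨n, hn, hσ, b, hb, c, hc', rfl⟩ := hl
    obtain ⟨g', a, h1, h2⟩ := key _ l rfl 1 (Subgroup.one_mem _) n hn hσ (c * b) (Subgroup.mul_mem _ hc' hb)
    refine ⟨g', a, CG.trans ⟨b⁻¹, Subgroup.inv_mem _ (borel_le_group hG hf ((data_B hG hf).le hb)), by group⟩ h1, h2⟩
  intro k
  induction k using Nat.strong_induction_on with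
  | _ k ih =>
    intro l hk v hv n hn hσ b hb
    by_cases h1 : (data hG F).wl l = 1
    · have hnH : n ∈ (data hG F).H := by
        have := RootBN.Data.mul_inv_mem_H ax hn (Subgroup.one_mem _) hσ (h1 ▸ RootBN.Data.acts_one)
        simpa using this
      have hbB : n * b ∈ D.borelSubgroup F :=
        (data_B hG hf).le (Subgroup.mul_mem _ (RootBN.Data.H_le_B hnH) hb)
      obtain ⟨u, hu, h, hh, e⟩ := borel_decomp hG hf hbB
      obtain ⟨c, rfl⟩ := exists_torus hG hf hc hh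
      refine ⟨v * n * b, c, CG.refl _, v, hv, (torusHom F D c)⁻¹ * u * torusHom F D c, ?_, ?_,
        by simp, by simp⟩
      · have := rootGen_H hG (Subgroup.inv_mem _ (torus_mem_H hG hf hc c))
          (show u ∈ uni F hG true by rw [uni_true hG hf hc]; exact hu)
        rwa [inv_inv] at this
      · rw [mul_assoc v n b, e]; group
    obtain ⟨i, hi⟩ := RootBN.Data.exists_descent ax h1
    have hinv := RootBN.Data.inv_refl_mul_neg ax l hi
    obtain ⟨v', hv', n', hn', hσ', b', hb', hcg'⟩ := cell_step hG hf hc hq i l hi hv hn hσ hb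
    obtain ⟨g', c, hcg, hst⟩ := ih ((data hG F).inv ((data hG F).wl (i :: l)))
      (by rw [RootBN.Data.wl_cons]; omega) (i :: l) rfl v' hv' n' hn' hσ' b' hb'
    exact ⟨g', c, hcg'.trans hcg, hst⟩

/-- Some conjugate in the cell has a nonzero coordinate. -/
theorem exists_start (hn : NegTri D) {w0 : List ℕ} (hw : IsLongest D tabs w0)
    (hq : ∀ a : F, ∃ r : F, r ≠ 0 ∧ 1 + r * a ≠ 0) {g : GL D.Idx F} (hg : g ∈ D.group F) (hg1 : g ≠ 1) :
    ∃ g' c, ∃ i : Fin D.rank, CG D g g' ∧ (St hG true g' c {i} ∅ ∨ St hG true g' c ∅ {i}) := by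
  classical
  have ax := axioms (F := F) hG hf
  by_contra hno
  push Not at hno
  have hzero : ∀ g' c v u, CG D g g' → v ∈ uni F hG false → u ∈ uni F hG true →
      g' = v * torusHom F D c * u → ∀ i : Fin D.rank, v ∈ rad F hG false {i.val} ∧ u ∈ rad F hG true {i.val} := by
    intro g' c v u hcg hv hu e i
    refine ⟨?_, ?_⟩
    · by_contra hvi
      exact (hno g' c i hcg).2 ⟨v, hv, u, hu, e, by simp, by simpa using hvi⟩
    · by_contra hui
      exact (hno g' c i hcg).1 ⟨v, hv, u, hu, e, by simpa using hui, by simp⟩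
  obtain ⟨g0, c0, hcg0, v, hv, u, hu, e0, -, -⟩ := conj_into_cell hG hf hc hq hg
  have key : ∀ l : List (Fin D.rank), (data hG F).nw l * v * ((data hG F).nw l)⁻¹ ∈ uni F hG false ∧
      (data hG F).nw l * u * ((data hG F).nw l)⁻¹ ∈ uni F hG true := by
    intro l
    induction l with
    | nil => simpa using ⟨hv, hu⟩
    | cons i l ih =>
      obtain ⟨c, hc'⟩ := exists_torus hG hf hc (RootBN.Data.nw_H ax l (torus_mem_H hG hf hc c0))
      have hcg : CG D g ((data hG F).nw l * g0 * ((data hG F).nw l)⁻¹) := hcg0.trans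
        ⟨_, (data_grp hG).le (RootBN.Data.N_le_grp ax (RootBN.Data.nw_mem_N l)), rfl⟩
      obtain ⟨h1, h2⟩ := hzero _ c _ _ hcg ih.1 ih.2 (by rw [← hc', e0]; group) i
      have h3 := rad_le_uni hG hf hc false _ (nn_conj_rad' hG hf hc false i h1)
      have h4 := rad_le_uni hG hf hc true _ (nn_conj_rad' hG hf hc true i h2)
      simp only [RootBN.Data.nw_cons, mul_inv_rev]
      exact ⟨by simpa only [mul_assoc] using h3, by simpa only [mul_assoc] using h4⟩
  obtain ⟨n, hnN, hnU⟩ := exists_conj_U_eq_V (F := F) hG hf hw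
  obtain ⟨hh, hhH, l, rfl⟩ := RootBN.Data.exists_word ax ((data_N hG hf).ge hnN)
  have hin : ∀ z, z ∈ uni F hG true → z ∈ uni F hG false → z = 1 := fun z h1 h2 => by
    rw [uni_true hG hf hc] at h1
    rw [uni_false hG hf hc] at h2
    exact Subgroup.mem_bot.1 ((borel_inf_V (F := F) hG hf hn).le ⟨Subgroup.mem_sup_left h1, h2⟩)
  have hu1 : u = 1 := by
    have h1 : (data hG F).nw l * u * ((data hG F).nw l)⁻¹ ∈ uni F hG false := by
      have h2 : hh * (data hG F).nw l * u * (hh * (data hG F).nw l)⁻¹ ∈ uni F hG false := by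
        rw [uni_false hG hf hc, ← hnU]
        exact ⟨u, by rw [← uni_true hG hf hc]; exact hu, rfl⟩
      have h3 : hh⁻¹ * (hh * (data hG F).nw l * u * (hh * (data hG F).nw l)⁻¹) * hh⁻¹⁻¹ ∈ uni F hG false :=
        rootGen_H hG (Subgroup.inv_mem _ hhH) h2
      simpa [mul_assoc] using h3
    have h4 := hin _ (key l).2 h1
    rwa [mul_inv_eq_one, mul_eq_left] at h4
  have hv1 : v = 1 := by
    have h1 : (data hG F).nw l * v * ((data hG F).nw l)⁻¹ ∈ uni F hG false := (key l).1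
    have h2 : hh * ((data hG F).nw l * v * ((data hG F).nw l)⁻¹) * hh⁻¹ ∈ uni F hG false := rootGen_H hG hhH h1
    rw [uni_false hG hf hc, ← hnU, Subgroup.mem_map] at h2
    obtain ⟨z, hz, ez⟩ := h2
    rw [← uni_true hG hf hc] at hz
    obtain rfl : z = v := by
      apply (MulAut.conj (hh * (data hG F).nw l)).injective
      calc _ = hh * ((data hG F).nw l * v * ((data hG F).nw l)⁻¹) * hh⁻¹ := ez
        _ = _ := by simp [MulAut.conj_apply, mul_assoc]
    exact hin _ hz hv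
  subst hu1 hv1
  rw [one_mul, mul_one] at e0
  by_cases hker : ∀ j : Fin D.rank, torusChar D c0 (D.simple j.val) = 1
  · rw [← mem_ker_torusHom hG, MonoidHom.mem_ker] at hker
    obtain ⟨y, -, ey⟩ := hcg0
    rw [e0, hker] at ey
    exact hg1 (conj_eq_one_iff.1 ey.symm)
  push Not at hker
  obtain ⟨j, hj⟩ := hker
  set χ := torusChar D c0 (D.simple j.val)
  have hjl := hG.simple_lt j.2
  obtain ⟨-, h2⟩ := hzero (torusHom F D c0 * xe hG (D.simple j.val) (((χ⁻¹ : Fˣ) : F) - 1)) c0 1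
    (xe hG (D.simple j.val) (((χ⁻¹ : Fˣ) : F) - 1))
    (hcg0.trans ⟨xe hG (D.simple j.val) 1, xe_mem_group hG hjl 1, by
      rw [e0, xe_inv hG hjl]
      have h5 : torusHom F D c0 * xe hG (D.simple j.val) ((χ⁻¹ : Fˣ) : F) * (torusHom F D c0)⁻¹ =
          xe hG (D.simple j.val) 1 := by
        rw [torusHom_conj hG c0 _ hjl, ← Units.val_mul, mul_inv_cancel, Units.val_one]
      rw [sub_eq_add_neg, ← xe_add hG hjl, ← mul_assoc, ← h5]
      group⟩)
    (Subgroup.one_mem _) (xe_mem_uni hG (spos_sroot hG hf hc true j.2) _) (by group) j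
  have h3 := eq_zero_of_mem_rad hG hf hc true j.2 (v := 1) (Subgroup.one_mem _) (by simpa [sroot] using h2)
  rw [sub_eq_zero, inv_eq_one, Units.val_eq_one] at h3
  exact hj h3

omit hG hf hc in
/-- The only neighbour in `A`. -/
def Far (D : ChevalleyDatum) (A : Finset (Fin D.rank)) (α β : Fin D.rank) : Prop :=
  ∀ j ∈ A, j ≠ α → D.cartan β.val (D.simple j.val) = 0 ∧ D.cartan j.val (D.simple β.val) = 0

omit hG hf hc in
instance (D : ChevalleyDatum) (A : Finset (Fin D.rank)) (α β : Fin D.rank) : Decidable (Far D A α β) :=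
  inferInstanceAs (Decidable (∀ j ∈ A, _))

omit hG hf hc in
instance (D : ChevalleyDatum) (A : Finset (Fin D.rank)) : Decidable (Indep D A) :=
  inferInstanceAs (Decidable (∀ i ∈ A, _))

omit hG hf hc in
/-- Growing two independent sets along edges until they cover the diagram. -/
def growB (D : ChevalleyDatum) : List (Fin D.rank × Fin D.rank) → Finset (Fin D.rank) → Finset (Fin D.rank) → Bool
  | [], A, B => decide (Indep D A ∧ Indep D B ∧ (∀ i, i ∈ A → i ∉ B) ∧ ∀ i, i ∈ A ∨ i ∈ B)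
  | (α, β) :: L, A, B =>
    decide (Indep D A ∧ Indep D B ∧ β ∉ A ∧ β ∉ B ∧ D.cartan α.val (D.simple β.val) ≠ 0) &&
      ((decide (α ∈ A ∧ α ∉ B ∧ Far D A α β) && growB D L A (insert β B)) ||
        (decide (α ∈ B ∧ α ∉ A ∧ Far D B α β) && growB D L (insert β A) B))

omit hG hf hc in
/-- A growth order. -/
def bfs (D : ChevalleyDatum) : ℕ → List (Fin D.rank) → List (Fin D.rank × Fin D.rank)
  | 0, _ => []
  | k + 1, S =>
    match ((List.finRange D.rank).product (List.finRange D.rank)).find? (fun p => S.contains p.1 &&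
        !S.contains p.2 && decide (D.cartan p.1.val (D.simple p.2.val) ≠ 0)) with
    | some p => p :: bfs D k (p.2 :: S)
    | none => []

omit hG hf hc in
/-- The certificate for the diagram. -/
def TreeCert (D : ChevalleyDatum) : Prop :=
  (∀ i j : Fin D.rank, (D.cartan i.val (D.simple j.val)).natAbs ≤ 3) ∧
    ∀ i : Fin D.rank, growB D (bfs D D.rank [i]) {i} ∅ = true ∧ growB D (bfs D D.rank [i]) ∅ {i} = true

omit hG hf hc in
instance (D : ChevalleyDatum) : Decidable (TreeCert D) := inferInstanceAs (Decidable (_ ∧ _))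

theorem flipT {g : GL D.Idx F} {c : Fin D.rank → Fˣ} {A B : Finset (Fin D.rank)}
    (h : St hG true g c A B) : St hG false g⁻¹ c⁻¹ B A := by
  have h1 := St.flip hG hf hc h
  rwa [Bool.not_true] at h1

theorem flipF {g : GL D.Idx F} {c : Fin D.rank → Fˣ} {A B : Finset (Fin D.rank)}
    (h : St hG false g c A B) : St hG true g⁻¹ c⁻¹ B A := by
  have h1 := St.flip hG hf hc h
  rwa [Bool.not_false] at h1

theorem grow [Fintype F] (hq : 9 ≤ Fintype.card F)
    (hsmall : ∀ i j : Fin D.rank, (D.cartan i.val (D.simple j.val)).natAbs ≤ 3)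
    (L : List (Fin D.rank × Fin D.rank)) :
    ∀ (A B : Finset (Fin D.rank)), growB D L A B = true →
      ∀ (g : GL D.Idx F) (c : Fin D.rank → Fˣ), St hG true g c A B →
      ∃ A' B' g' c', (Indep D A' ∧ Indep D B' ∧ (∀ i, i ∈ A' → i ∉ B') ∧ ∀ i, i ∈ A' ∨ i ∈ B') ∧
        CG D g g' ∧ St hG true g' c' A' B' := by
  induction L with
  | nil => exact fun A B h g c hst => ⟨A, B, g, c, of_decide_eq_true h, CG.refl g, hst⟩
  | cons p L ih =>
    obtain ⟨α, β⟩ := p
    intro A B h g c hst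
    simp only [growB, Bool.and_eq_true, Bool.or_eq_true, decide_eq_true_eq] at h
    obtain ⟨⟨hA, hB, hβA, hβB, hadj⟩, ⟨⟨hα, hαB, hfar⟩, hL⟩ | ⟨⟨hα, hαA, hfar⟩, hL⟩⟩ := h
    · obtain ⟨g1, c1, h1, hst1⟩ := step_spread hG hf hc hq hsmall hA hα hαB hβA hβB hadj hfar hst
      obtain ⟨A', B', g', c', h', h2, hst'⟩ := ih A (insert β B) hL g1 c1 hst1
      exact ⟨A', B', g', c', h', h1.trans h2, hst'⟩
    · obtain ⟨g1, c1, h1, hst1⟩ := step_spread hG hf hc hq hsmall hB hα hαA hβB hβA hadj hfar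
        (flipT hG hf hc hst)
      obtain ⟨A', B', g', c', h', h2, hst'⟩ := ih (insert β A) B hL _ _ (flipF hG hf hc hst1)
      have h3 := h1.inv
      rw [inv_inv] at h3
      exact ⟨A', B', g', c', h', h3.trans h2, hst'⟩

theorem reach {A B : Finset (Fin D.rank)} (hA : Indep D A) (hB : Indep D B) (hdis : ∀ i, i ∈ A → i ∉ B)
    (hcov : ∀ i, i ∈ A ∨ i ∈ B) {g : GL D.Idx F} (d : Fin D.rank → Fˣ) :
    ∀ c, (∃ g', CG D g g' ∧ St hG true g' c A B) → ∃ g', CG D g g' ∧ St hG true g' (c * d) A B := by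
  rw [← Finset.univ_prod_mulSingle d]
  refine Finset.prod_induction _ (fun d : Fin D.rank → Fˣ => ∀ c, (∃ g', CG D g g' ∧ St hG true g' c A B) →
    ∃ g', CG D g g' ∧ St hG true g' (c * d) A B) ?_ ?_ fun i _ => ?_
  · intro a b ha hb c h
    rw [← mul_assoc]
    exact hb _ (ha c h)
  · intro c h
    rwa [mul_one]
  · intro c ⟨g', hcg, hst⟩
    rcases hcov i with hi | hi
    · obtain ⟨g'', h1, h2⟩ := step_torus hG hf hc hA hi (hdis i hi) hst (d i)
      exact ⟨g'', hcg.trans h1, by simpa [tu] using h2⟩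
    · obtain ⟨g'', h1, h2⟩ := step_torus hG hf hc hB hi (fun h => hdis i h hi) (flipT hG hf hc hst) (d i)
      have h3 := h1.inv
      rw [inv_inv] at h3
      have h4 := flipF hG hf hc h2
      refine ⟨g''⁻¹, hcg.trans h3, ?_⟩
      simpa [tu, Pi.mulSingle_inv, mul_comm] using h4

/-- Every nontrivial element has conjugates in the cell with any torus part. -/
theorem exists_conj_torus [Fintype F] (hq : 9 ≤ Fintype.card F) (hn : NegTri D) {w0 : List ℕ}
    (hw : IsLongest D tabs w0) (ht : TreeCert D) {g : GL D.Idx F} (hg : g ∈ D.group F) (hg1 : g ≠ 1)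
    (a : Fin D.rank → Fˣ) :
    ∃ y ∈ D.group F, ∃ v ∈ uni F hG false, ∃ u ∈ uni F hG true, y * g * y⁻¹ = v * torusHom F D a * u := by
  classical
  have hr : ∀ a : F, ∃ r : F, r ≠ 0 ∧ 1 + r * a ≠ 0 := by
    intro a
    obtain ⟨r, -, hr⟩ := Finset.exists_mem_notMem_of_card_lt_card (s := ({0, -a⁻¹} : Finset F))
      (t := Finset.univ) (by
        have := Finset.card_le_two (a := (0 : F)) (b := -a⁻¹)
        rw [Finset.card_univ]
        omega)
    simp only [Finset.mem_insert, Finset.mem_singleton, not_or] at hr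
    refine ⟨r, hr.1, fun h => ?_⟩
    have ha : a ≠ 0 := fun ha => by simp [ha] at h
    exact hr.2 (by field_simp; linear_combination h)
  obtain ⟨g1, c1, i, h1, hst⟩ := exists_start hG hf hc hn hw hr hg hg1
  obtain ⟨A, B, g2, c2, ⟨hA, hB, hdis, hcov⟩, h2, hst2⟩ : ∃ A B g' c',
      (Indep D A ∧ Indep D B ∧ (∀ i, i ∈ A → i ∉ B) ∧ ∀ i, i ∈ A ∨ i ∈ B) ∧
        CG D g1 g' ∧ St hG true g' c' A B := by
    rcases hst with hst | hst
    · exact grow hG hf hc hq ht.1 _ _ _ (ht.2 i).1 _ _ hst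
    · exact grow hG hf hc hq ht.1 _ _ _ (ht.2 i).2 _ _ hst
  obtain ⟨g3, ⟨y, hy, e⟩, v, hv, u, hu, e', -, -⟩ :=
    reach hG hf hc hA hB hdis hcov (c2⁻¹ * a) c2 ⟨g2, h1.trans h2, hst2⟩
  refine ⟨y, hy, v, hv, u, hu, ?_⟩
  rw [← e, e', mul_inv_cancel_left]

end Cfsg.Agent.Thompson.Sides
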