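import Cfsg.Agent.Lib.Thompson.ChevSquare
import Cfsg.Agent.Lib.Chev.CheckG2
import Cfsg.Agent.Lib.Chev.CheckF4
import Cfsg.Agent.Lib.Chev.CheckE6
import Cfsg.Agent.Lib.Chev.CheckE7
import Cfsg.Agent.Lib.Chev.CheckE8
import Cfsg.Agent.Lib.Chev.RootCoef
import Cfsg.Agent.Lib.Chev.Longest

/-!
Levi certificates for the five exceptional Chevalley groups.
-/

set_option autoImplicit false
set_option maxHeartbeats 4000000

namespace Cfsg.Agent.Thompson.Sides

open Cfsg.Lie Cfsg.Agent.Chev Cfsg.Agent.Chev.BNSetup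

/-- The Levi subgroup used for G2. -/
def leviG2 : LeviCert where
  y := [2, 3]
  chains := [[1]]
  b := [[1, 2]]
  w0 := [1, 0, 1, 0, 1, 0]

theorem leviG2_valid : leviG2.Valid chevG2 WeylTab.tabsG2 coefG2 where
  longest := isLongest_chevG2
  chains_ok := by decide +kernel
  kernel := by decide +kernel
  cover := by decide +kernel
  cross := by decide +kernel
  twist := by decide +kernel
  nodes := by decide +kernel
  opp := by decide +kernel

theorem treeG2 : TreeCert chevG2 := by decide +kernel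

/-- The Levi subgroup used for F4. -/
def leviF4 : LeviCert where
  y := [3, 6, 8, 4]
  chains := [[0], [2, 3]]
  b := [[2, 3, 4, 2], [2, 4, 6, 3]]
  w0 := [3, 2, 1, 2, 0, 1, 2, 3, 2, 1, 2, 0, 1, 2, 3, 2, 1, 2, 0, 1, 2, 0, 1, 0]

theorem leviF4_valid : leviF4.Valid chevF4 WeylTab.tabsF4 coefF4 where
  longest := isLongest_chevF4
  chains_ok := by decide +kernel
  kernel := by decide +kernel
  cover := by decide +kernel
  cross := by decide +kernel
  twist := by decide +kernel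
  nodes := by decide +kernel
  opp := by decide +kernel

theorem treeF4 : TreeCert chevF4 := by decide +kernel

/-- The Levi subgroup used for E6. -/
def leviE6 : LeviCert where
  y := [3, 4, 6, 8, 6, 3]
  chains := [[0], [1, 3], [5]]
  b := [[0, -1, -1, -2, -2, -1], [1, 2, 2, 3, 2, 1], [-1, -1, -2, -2, -1, 0]]
  w0 := [0, 2, 3, 4, 5, 1, 3, 4, 2, 3, 0, 2, 1, 3, 4, 5, 1, 3, 4, 2, 3, 0, 2, 1, 3, 4, 2, 3, 0, 2, 1, 3, 0, 2, 1, 0]

theorem leviE6_valid : leviE6.Valid chevE6 WeylTab.tabsE6 coefE6 where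
  longest := isLongest_chevE6
  chains_ok := by decide +kernel
  kernel := by decide +kernel
  cover := by decide +kernel
  cross := by decide +kernel
  twist := by decide +kernel
  nodes := by decide +kernel
  opp := by decide +kernel

theorem treeE6 : TreeCert chevE6 := by decide +kernel

/-- The Levi subgroup used for E7. -/
def leviE7 : LeviCert where
  y := [4, 7, 8, 12, 9, 6, 3]
  chains := [[0, 2, 3, 4, 5, 6]]
  b := [[2, 2, 3, 4, 3, 2, 1]]
  w0 := [6, 5, 4, 3, 2, 1, 3, 4, 5, 6, 0, 2, 3, 4, 5, 1, 3, 4, 2, 3, 0, 2, 1, 3, 4, 5, 6, 0, 2, 3, 4, 5, 1, 3, 4, 2, 3, 0, 2, 1, 3, 4, 5, 1, 3, 4, 2, 3, 0, 2, 1, 3, 4, 2, 3, 0, 2, 1, 3, 0, 2, 1, 0]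

theorem leviE7_valid : leviE7.Valid chevE7 WeylTab.tabsE7 coefE7 where
  longest := isLongest_chevE7
  chains_ok := by decide +kernel
  kernel := by decide +kernel
  cover := by decide +kernel
  cross := by decide +kernel
  twist := by decide +kernel
  nodes := by decide +kernel
  opp := by decide +kernel

theorem treeE7 : TreeCert chevE7 := by decide +kernel

/-- The Levi subgroup used for E8. -/
def leviE8 : LeviCert where
  y := [5, 8, 10, 15, 12, 9, 6, 3]
  chains := [[0, 2, 3, 4, 5, 6, 7]]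
  b := [[4, 5, 7, 10, 8, 6, 4, 2]]
  w0 := [7, 6, 5, 4, 3, 2, 1, 3, 4, 5, 6, 0, 2, 3, 4, 5, 1, 3, 4, 2, 3, 0, 2, 1, 3, 4, 5, 6, 7, 6, 5, 4, 3, 2, 1, 3, 4, 5, 6, 0, 2, 3, 4, 5, 1, 3, 4, 2, 3, 0, 2, 1, 3, 4, 5, 6, 7, 6, 5, 4, 3, 2, 1, 3, 4, 5, 6, 0, 2, 3, 4, 5, 1, 3, 4, 2, 3, 0, 2, 1, 3, 4, 5, 6, 0, 2, 3, 4, 5, 1, 3, 4, 2, 3, 0, 2, 1, 3, 4, 5, 1, 3, 4, 2, 3, 0, 2, 1, 3, 4, 2, 3, 0, 2, 1, 3, 0, 2, 1, 0]

theorem leviE8_valid : leviE8.Valid chevE8 WeylTab.tabsE8 coefE8 where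
  longest := isLongest_chevE8
  chains_ok := by decide +kernel
  kernel := by decide +kernel
  cover := by decide +kernel
  cross := by decide +kernel
  twist := by decide +kernel
  nodes := by decide +kernel
  opp := by decide +kernel

theorem treeE8 : TreeCert chevE8 := by decide +kernel

end Cfsg.Agent.Thompson.Sides
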