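import Cfsg.Agent.Lib.Thompson.ChevCell
import Cfsg.Agent.Lib.CurtisTits.Hom

/-!
A chain of fundamental roots of a Chevalley group gives a homomorphism out of `SL n`, from a decidable table of signed
roots.
-/

set_option autoImplicit false
set_option linter.unusedSectionVars false

namespace Cfsg.Agent.Thompson.Sides

open Cfsg.Lie Cfsg.Agent.Chev Cfsg.Agent.Chev.BNSetup
open Matrix (SpecialLinearGroup)

variable {D : ChevalleyDatum}

/-- The signed root of the product of two root elements. -/
def chainNext (D : ChevalleyDatum) (a b : ℕ × ℤ) : ℕ × ℤ :=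
  match D.commTerms a.1 b.1 with
  | x :: _ => (x.1, x.2.1 * a.2 * b.2)
  | [] => (0, 0)

/-- The roots `e_i - e_{i+d}`. -/
def chainUp (D : ChevalleyDatum) (C : List ℕ) (i : ℕ) : ℕ → ℕ × ℤ
  | 0 => (0, 0)
  | 1 => (D.simple (C.getD i 0), 1)
  | d + 2 => chainNext D (chainUp D C i (d + 1)) (D.simple (C.getD (i + d + 1) 0), 1)

/-- The roots `e_{j+d} - e_j`. -/
def chainDown (D : ChevalleyDatum) (C : List ℕ) (j : ℕ) : ℕ → ℕ × ℤ
  | 0 => (0, 0)
  | 1 => (D.neg (D.simple (C.getD j 0)), 1)
  | d + 2 => chainNext D (D.neg (D.simple (C.getD (j + d + 1) 0)), 1) (chainDown D C j (d + 1))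

/-- The signed root `e_i - e_j` of the chain `C`. -/
def chainRt (D : ChevalleyDatum) (C : List ℕ) (i j : ℕ) : ℕ × ℤ :=
  if i < j then chainUp D C i (j - i) else chainDown D C j (i - j)

theorem chainRt_succ (D : ChevalleyDatum) (C : List ℕ) (i : ℕ) :
    chainRt D C i (i + 1) = (D.simple (C.getD i 0), 1) := by
  simp [chainRt, chainUp]

/-- Two roots whose root groups commute. -/
def CommOK (D : ChevalleyDatum) (r s : ℕ) : Prop :=
  s ≠ r → s ≠ D.neg r ∧ D.commTerms r s = []

instance (D : ChevalleyDatum) (r s : ℕ) : Decidable (CommOK D r s) := inferInstanceAs (Decidable (_ → _))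

/-- A single commutator term with the given root and coefficient. -/
def termB (v : ℕ) (e3 e12 : ℤ) : List (ℕ × ℤ × ℕ × ℕ) → Bool
  | [x] => decide (x.1 = v ∧ x.2.2 = (1, 1) ∧ e3 = x.2.1 * e12)
  | _ => false

/-- The table of a chain satisfies the relations of `SL n`. -/
def ChainOK (D : ChevalleyDatum) (C : List ℕ) : Prop :=
  (∀ a ∈ C, a < D.rank) ∧
  (∀ i j : Fin (C.length + 1), i ≠ j → (chainRt D C i j).1 < D.nroots ∧
    ((chainRt D C i j).2 = 1 ∨ (chainRt D C i j).2 = -1)) ∧
  (∀ i j k l : Fin (C.length + 1), i ≠ j → k ≠ l → i ≠ l → j ≠ k →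
    CommOK D (chainRt D C i j).1 (chainRt D C k l).1) ∧
  ∀ i j l : Fin (C.length + 1), i ≠ j → j ≠ l → i ≠ l →
    (chainRt D C j l).1 ≠ (chainRt D C i j).1 ∧ (chainRt D C j l).1 ≠ D.neg (chainRt D C i j).1 ∧
    termB (chainRt D C i l).1 (chainRt D C i l).2 ((chainRt D C i j).2 * (chainRt D C j l).2)
      (D.commTerms (chainRt D C i j).1 (chainRt D C j l).1) = true

set_option synthInstance.maxSize 2000 in
set_option synthInstance.maxHeartbeats 400000 in
instance (D : ChevalleyDatum) (C : List ℕ) : Decidable (ChainOK D C) := inferInstanceAs (Decidable (_ ∧ _))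

variable {F : Type*} [Field F] (hG : Good D) {tabs simps : List ℕ} (hf : Facts D tabs simps)

/-- The root element of the signed root `e_i - e_j`. -/
def chainX (C : List ℕ) (i j : Fin (C.length + 1)) (t : F) : GL D.Idx F :=
  xe hG (chainRt D C i j).1 (((chainRt D C i j).2 : F) * t)

include hG hf

theorem commute_of_commOK {r s : ℕ} (hr : r < D.nroots) (hs : s < D.nroots) (h : CommOK D r s) (t u : F) :
    Commute (xe hG r t) (xe hG s u) := by
  by_cases hrs : s = r
  · subst hrs
    show _ = _
    rw [xe_add hG hr, xe_add hG hr, add_comm]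
  obtain ⟨h2, h3⟩ := h hrs
  refine Units.ext ?_
  have e := hG.comm_formula hr hs hrs h2 t u
  rw [ChevalleyDatum.commWord, h3, List.map_nil, show D.wordMat F [] = 1 by simp [ChevalleyDatum.wordMat],
    mul_one] at e
  simp only [Units.val_mul, coe_xe]
  exact e.symm

/-- The Steinberg relations of a chain. -/
theorem exists_chainRels {C : List ℕ} (h : ChainOK D C) :
    ∃ S : SL2Presentation.Rels F (C.length + 1) (GL D.Idx F), S.x = chainX hG C := by
  obtain ⟨-, hb, hcm, hch⟩ := h
  refine ⟨⟨chainX hG C, ?_, ?_, ?_⟩, rfl⟩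
  · intro i j hij t u
    simp only [chainX]
    rw [xe_add hG (hb i j hij).1, mul_add]
  · intro i j k l hij hkl hil hjk t u
    exact (commute_of_commOK hG hf (hb i j hij).1 (hb k l hkl).1 (hcm i j k l hij hkl hil hjk) _ _).eq
  · intro i j l hij hjl hil t u
    obtain ⟨hne, hneg, hm⟩ := hch i j l hij hjl hil
    simp only [chainX]
    generalize hrd : (chainRt D C i j).1 = r at *
    generalize hsd : (chainRt D C j l).1 = s at *
    generalize hvd : (chainRt D C i l).1 = v at *
    obtain ⟨x, hx, h1, h2, h3⟩ : ∃ x, D.commTerms r s = [x] ∧ x.1 = v ∧ x.2.2 = (1, 1) ∧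
        (chainRt D C i l).2 = x.2.1 * (chainRt D C i j).2 * (chainRt D C j l).2 := by
      rcases hct : D.commTerms r s with - | ⟨x, - | ⟨y, L⟩⟩
      · simp [hct, termB] at hm
      · rw [hct] at hm; exact ⟨x, rfl, by simpa [termB, ← mul_assoc] using hm⟩
      · simp [hct, termB] at hm
    have hrl : r < D.nroots := hrd ▸ (hb i j hij).1
    have hsl : s < D.nroots := hsd ▸ (hb j l hjl).1
    have hvl : v < D.nroots := hvd ▸ (hb i l hil).1
    set e1 := ((chainRt D C i j).2 : F)
    set e2 := ((chainRt D C j l).2 : F)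
    set e3 := ((chainRt D C i l).2 : F) with he3
    have he : e3 = (x.2.1 : F) * e1 * e2 := by rw [he3, h3]; push_cast; ring
    have e : xe hG s (e2 * u) * xe hG r (e1 * t) =
        xe hG r (e1 * t) * xe hG s (e2 * u) * xe hG v (-(e3 * (t * u))) := by
      refine Units.ext ?_
      have h := hG.comm_formula hrl hsl hne hneg (e1 * t) (e2 * u)
      rw [ChevalleyDatum.commWord, hx, List.map_cons, List.map_nil, h1, h2] at h
      simp only [Units.val_mul, coe_xe]
      rw [h, he]
      congr 1
      simp [ChevalleyDatum.wordMat]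
      congr 1
      ring
    have hc1 : Commute (xe hG v (e3 * (t * u))) (xe hG r (e1 * t)) := by
      refine commute_of_commOK hG hf hvl hrl ?_ _ _
      rw [← hvd, ← hrd]
      exact hcm i l i j hil hij hij hil.symm
    have hc2 : Commute (xe hG v (e3 * (t * u))) (xe hG s (e2 * u)) := by
      refine commute_of_commOK hG hf hvl hsl ?_ _ _
      rw [← hvd, ← hsd]
      exact hcm i l j l hil hjl hil hjl.symm
    rw [mul_assoc (xe hG v _), e, ← xe_inv hG hvl, ← mul_assoc, ← mul_assoc, hc1.eq, mul_assoc (xe hG r _), hc2.eq,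
      ← mul_assoc, mul_inv_cancel_right]

omit hf in
theorem chainX_succ (C : List ℕ) (k : ℕ) (hk : k < C.length) (t : F) :
    chainX hG C ⟨k, by omega⟩ ⟨k + 1, by omega⟩ t = xe hG (D.simple (C.getD k 0)) t := by
  show xe hG (chainRt D C k (k + 1)).1 (((chainRt D C k (k + 1)).2 : F) * t) = _
  rw [chainRt_succ]
  simp

/-- The homomorphism of a chain. -/
theorem exists_chainHom [Finite F] {C : List ℕ} (hC : C ≠ []) (h : ChainOK D C) :
    ∃ φ : SpecialLinearGroup (Fin (C.length + 1)) F →* GL D.Idx F,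
      ∀ i j (hij : i ≠ j) (t : F), φ (SpecialLinearGroup.transvection hij t) = chainX hG C i j t := by
  by_cases h3 : 3 ≤ C.length + 1
  · obtain ⟨S, hS⟩ := exists_chainRels hG hf (F := F) h
    obtain ⟨φ, hφ⟩ := CurtisTits.exists_hom h3 S
    exact ⟨φ, fun i j hij t => by rw [hφ i j hij t, hS]⟩
  obtain ⟨a, rfl⟩ : ∃ a, C = [a] := by
    rcases C with - | ⟨a, - | ⟨b, L⟩⟩
    · exact absurd rfl hC
    · exact ⟨a, rfl⟩
    · simp at h3
  have ha : a < D.rank := h.1 a (by simp)
  obtain ⟨φ, hu, hl⟩ := hG.exists_sl2_hom (F := F) (hG.simple_lt ha)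
  refine ⟨φ, ?_⟩
  change ∀ i j : Fin 2, ∀ hij : i ≠ j, ∀ t : F, _
  intro i j hij t
  fin_cases i <;> fin_cases j
  · exact absurd rfl hij
  · have e : (SpecialLinearGroup.transvection hij t : SpecialLinearGroup (Fin 2) F) = upperSL t := by
      apply Subtype.ext
      rw [SpecialLinearGroup.transvection_coe, coe_upperSL]
      ext p q
      fin_cases p <;> fin_cases q <;> simp [Matrix.single]
    refine (congrArg φ e).trans ((hu t).trans ((xg_eq hG _ _).trans ?_))
    simp [chainX, chainRt, chainUp]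
  · have e : (SpecialLinearGroup.transvection hij t : SpecialLinearGroup (Fin 2) F) = lowerSL t := by
      apply Subtype.ext
      rw [SpecialLinearGroup.transvection_coe, coe_lowerSL]
      ext p q
      fin_cases p <;> fin_cases q <;> simp [Matrix.single]
    refine (congrArg φ e).trans ((hl t).trans ((xg_eq hG _ _).trans ?_))
    simp [chainX, chainRt, chainDown]
  · exact absurd rfl hij

end Cfsg.Agent.Thompson.Sides
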