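import Cfsg.Agent.Lib.Thompson.ChevSides

/-!
The coordinate of an element of a unipotent side at a fundamental root, read off from a matrix entry, and its
polynomial behaviour under the opposite fundamental root groups.
-/

set_option autoImplicit false
set_option linter.unusedSectionVars false

namespace Cfsg.Agent.Thompson.Sides

open Cfsg.Lie Cfsg.Agent.Chev Cfsg.Agent.Chev.BNSetup
open Polynomial (natDegree)

variable {F : Type*} [Field F] {D : ChevalleyDatum}

/-- The weight of the side. -/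
noncomputable def sw (D : ChevalleyDatum) (M : List (List ℤ)) (J : Set ℕ) (b : Bool) (a : D.Idx) : ℕ :=
  if b then jw D M J a else
    2 * Finset.univ.sup (fun s : Fin D.nroots => (jlev D M J s.val).natAbs) - jw D M J a

variable (hG : Good D) {tabs simps : List ℕ} (hf : Facts D tabs simps) {M : List (List ℤ)}
  (hc : CoefFacts D M tabs)
include hG hf hc

theorem rad_le_unitri (b : Bool) (J : Set ℕ) : rad F hG b J ≤ unitri F (sw D M J b) 0 := by
  rw [rad, rootGen, Subgroup.closure_le]
  rintro _ ⟨r, ⟨hr, hrJ⟩, t, rfl⟩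
  rw [SetLike.mem_coe, mem_unitri]
  intro a c hlt
  rw [Matrix.sub_apply, sub_eq_zero]
  by_contra hne
  obtain ⟨k, hk⟩ := xe_entry hG hf hc J r.2 t a c hne
  have hjb : ∀ x : D.Idx, jw D M J x ≤ 2 * Finset.univ.sup (fun s : Fin D.nroots => (jlev D M J s.val).natAbs) := by
    rintro (i | s)
    · simp only [jw]; omega
    · have h1 := jw_inr (M := M) J s
      have h2 := Finset.le_sup (f := fun s : Fin D.nroots => (jlev D M J s.val).natAbs) (Finset.mem_univ s)
      omega
  cases b
  · have hn : D.IsPosRoot (D.neg r.val) := (pos_iff hf (hG.neg_lt r.2)).2 (by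
      have h1 := hr.2
      simp only [Bool.false_eq_true, if_false] at h1
      rw [neg_eq hf r.2]
      have := hf.1
      omega)
    have hpos := jlev_pos hG hf hc J hn fun h => hrJ (by
      have := inRootSub_neg hG hf hc h
      rwa [hG.neg_neg r.2] at this)
    have h3 : jlev D M J (D.neg r.val) = - jlev D M J r.val := by
      simp only [jlev, rc_neg hG r.2, Finset.sum_neg_distrib]
    have hneg : ((k + 1 : ℕ) : ℤ) * jlev D M J r.val < 0 := mul_neg_of_pos_of_neg (by positivity) (by omega)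
    simp only [sw, Bool.false_eq_true, if_false] at hlt
    have := hjb a
    have := hjb c
    omega
  · have hpos := jlev_pos hG hf hc J ((pos_iff hf r.2).2 hr.2) hrJ
    have : (0 : ℤ) < ((k + 1 : ℕ) : ℤ) * jlev D M J r.val := by positivity
    simp only [sw, if_true] at hlt
    omega

omit hf hc in
theorem x_inl_inl {r : ℕ} (hr : r < D.nroots) (t : F) (i j : Fin D.rank) :
    (xe hG r t : Matrix D.Idx D.Idx F) (Sum.inl i) (Sum.inl j) = if i = j then 1 else 0 := by
  rw [coe_xe, ChevalleyDatum.x, dif_pos hr]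
  simp [ChevalleyDatum.xMat]

/-- The coordinate at the node `i`. -/
def comp (b : Bool) {i : ℕ} (hi : i < D.rank) (g : GL D.Idx F) : F :=
  (g : Matrix D.Idx D.Idx F) (Sum.inl ⟨i, hi⟩) (Sum.inr ⟨sroot D (!b) i, sroot_lt hG hf hc (!b) hi⟩)

theorem rad_entries (b : Bool) {i : ℕ} (hi : i < D.rank) {u : GL D.Idx F} (hu : u ∈ rad F hG b {i}) :
    comp hG hf hc b hi u = 0 ∧ (u : Matrix D.Idx D.Idx F) (Sum.inr ⟨sroot D (!b) i, sroot_lt hG hf hc (!b) hi⟩)
      (Sum.inr ⟨sroot D (!b) i, sroot_lt hG hf hc (!b) hi⟩) = 1 := by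
  have h := rad_le_unitri hG hf hc b {i} hu
  rw [mem_unitri] at h
  set col : D.Idx := Sum.inr ⟨sroot D (!b) i, sroot_lt hG hf hc (!b) hi⟩
  have hlev : jw D M {i} (Sum.inl ⟨i, hi⟩ : D.Idx) = jw D M {i} col := by
    have h1 := jw_inr (M := M) ({i} : Set ℕ) (⟨sroot D (!b) i, sroot_lt hG hf hc (!b) hi⟩ : Fin D.nroots)
    rw [jlev_zero hG hf hc {i} (inRootSub_sroot hG hf hc (!b) hi rfl)] at h1
    have h2 : jw D M {i} (Sum.inl ⟨i, hi⟩ : D.Idx) =
        Finset.univ.sup (fun s : Fin D.nroots => (jlev D M {i} s.val).natAbs) := rfl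
    have h3 : (jw D M {i} col : ℤ) = (Finset.univ.sup (fun s : Fin D.nroots => (jlev D M {i} s.val).natAbs) : ℕ) + 0 := h1
    omega
  have hw : sw D M {i} b (Sum.inl ⟨i, hi⟩ : D.Idx) = sw D M {i} b col := by simp only [sw, hlev]
  constructor
  · have := h (Sum.inl ⟨i, hi⟩) col (by omega)
    rwa [Matrix.sub_apply, Matrix.one_apply_ne (by simp [col]), sub_zero] at this
  · have := h col col (by omega)
    rwa [Matrix.sub_apply, Matrix.one_apply_eq, sub_eq_zero] at this

theorem coroot_sroot (b : Bool) {i : ℕ} (hi : i < D.rank) :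
    (((D.coroot.getD (sroot D b i) #[]).getD i 0 : ℤ) : F) ≠ 0 := by
  obtain ⟨k, hk⟩ := exists_coroot_ne_zero (F := F) hf (sroot_lt hG hf hc b hi)
  by_cases hki : k.val = i
  · rwa [hki] at hk
  · rw [(inRootSub_sroot hG hf hc b (J := {i}) hi rfl).2 k k.2 hki, Int.cast_zero] at hk
    exact absurd rfl hk

theorem comp_mul (b : Bool) {i : ℕ} (hi : i < D.rank) (a : F) {v : GL D.Idx F} (hv : v ∈ rad F hG b {i}) :
    comp hG hf hc b hi (xe hG (sroot D b i) a * v) = (((D.coroot.getD (sroot D b i) #[]).getD i 0 : ℤ) : F) * a := by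
  obtain ⟨h0, h1⟩ := rad_entries hG hf hc b hi hv
  have hr := sroot_lt hG hf hc b hi
  set col : Fin D.nroots := ⟨sroot D (!b) i, sroot_lt hG hf hc (!b) hi⟩ with hcol
  unfold comp at h0 ⊢
  rw [Units.val_mul, Matrix.mul_apply, Fintype.sum_sum_type, Finset.sum_eq_single ⟨i, hi⟩,
    Finset.sum_eq_single col]
  · rw [x_inl_inl hG hr, if_pos rfl, h0, h1, coe_xe, x_entry_inl hr col.2, mul_zero, zero_add, mul_one]
    rw [if_neg, if_pos]
    · exact (neg_sroot hG hf hc b hi).symm
    · intro h
      exact (spos_sroot hG hf hc b hi).not_both ((show sroot D (!b) i = sroot D b i from h) ▸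
        spos_sroot hG hf hc (!b) hi)
  · intro s _ hs
    rw [coe_xe, x_entry_inl hr s.2]
    split_ifs with hs1 hs2
    · rw [zero_mul]
    · exact absurd (Fin.ext (hs2.trans (neg_sroot hG hf hc b hi))) hs
    · rw [zero_mul]
  · simp
  · intro j _ hj
    rw [x_inl_inl hG hr, if_neg (Ne.symm hj), zero_mul]
  · simp

theorem mem_rad_iff_comp (b : Bool) {i : ℕ} (hi : i < D.rank) {u : GL D.Idx F} (hu : u ∈ uni F hG b) :
    u ∈ rad F hG b {i} ↔ comp hG hf hc b hi u = 0 := by
  refine ⟨fun h => (rad_entries hG hf hc b hi h).1, fun h => ?_⟩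
  obtain ⟨a, v, hv, rfl⟩ := exists_coord hG hf hc b hi hu
  rw [comp_mul hG hf hc b hi a hv, mul_eq_zero] at h
  rw [h.resolve_left (coroot_sroot hG hf hc b hi), xe_zero hG (sroot_lt hG hf hc b hi), one_mul]
  exact hv

theorem eq_zero_of_mem_rad (b : Bool) {i : ℕ} (hi : i < D.rank) {a : F} {v : GL D.Idx F}
    (hv : v ∈ rad F hG b {i}) (h : xe hG (sroot D b i) a * v ∈ rad F hG b {i}) : a = 0 := by
  have h1 := (rad_entries hG hf hc b hi h).1
  rw [comp_mul hG hf hc b hi a hv, mul_eq_zero] at h1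
  exact h1.resolve_left (coroot_sroot hG hf hc b hi)

open Polynomial in
/-- Few opposite root elements destroy a nonzero coordinate. -/
theorem comp_conj_bad (b : Bool) {i j : ℕ} (hi : i < D.rank) (hj : j < D.rank) (hij : i ≠ j) {u : GL D.Idx F}
    (hu : comp hG hf hc b hi u ≠ 0) :
    ∃ S : Finset F, S.card ≤ 3 ∧ (0 : F) ∉ S ∧ ∀ r ∉ S,
      comp hG hf hc b hi (xe hG (sroot D (!b) j) r * u * (xe hG (sroot D (!b) j) r)⁻¹) ≠ 0 := by
  classical
  set ρ := sroot D (!b) j with hρd
  have hρ : ρ < D.nroots := sroot_lt hG hf hc (!b) hj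
  set col : Fin D.nroots := ⟨sroot D (!b) i, sroot_lt hG hf hc (!b) hi⟩ with hcol
  have hc1 : col.val ≠ ρ := fun h => by
    have h1 := rc_sroot_self hG hf hc (!b) hi
    rw [show sroot D (!b) i = sroot D (!b) j from h, rc_sroot_of_ne hG hf hc (!b) hj hi hij, mul_zero] at h1
    omega
  have hc2 : col.val ≠ D.neg ρ := fun h => by
    rw [hρd, neg_sroot hG hf hc (!b) hj, Bool.not_not] at h
    exact (spos_sroot hG hf hc b hj).not_both (h ▸ spos_sroot hG hf hc (!b) hi)
  let E : D.Idx → F[X] := fun m => match m with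
    | Sum.inl _ => 0
    | Sum.inr s => (if s = col then 1 else 0) +
        ((D.chainCoeff ρ col.val s.val).map fun km => Polynomial.C ((km.2 : ℤ) : F) * (-Polynomial.X) ^ km.1).sum
  have hE : ∀ (m : D.Idx) (r : F), (E m).eval r = (xe hG ρ (-r) : Matrix D.Idx D.Idx F) m (Sum.inr col) := by
    intro m r
    rw [coe_xe, ChevalleyDatum.x, dif_pos hρ]
    simp only [ChevalleyDatum.xMat, Matrix.of_apply]
    rw [if_neg (show col ≠ (⟨ρ, hρ⟩ : Fin D.nroots) from fun h => hc1 (congrArg Fin.val h)),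
      if_neg (show ¬ col.val = D.negIdx.getD ρ 0 from hc2)]
    rcases m with k | s
    · simp [E]
    · simp only [E, Polynomial.eval_add, apply_ite (Polynomial.eval r), Polynomial.eval_one, Polynomial.eval_zero,
        ← Polynomial.coe_evalRingHom (r := r), map_list_sum, List.map_map]
      congr 2
      refine List.map_congr_left fun km _ => ?_
      simp
  have hdeg : ∀ m, natDegree (E m) ≤ 3 := by
    rintro (k | s)
    · simp [E]
    · refine (Polynomial.natDegree_add_le _ _).trans (max_le (by split_ifs <;> simp) ?_)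
      obtain ⟨c, hV⟩ := id hG
      have hk : ∀ km ∈ D.chainCoeff ρ col.val s.val, km.1 ≤ 3 := by
        intro km hkm
        rw [hV.chainCoeff_eq hρ, List.mem_map] at hkm
        obtain ⟨q, hq, rfl⟩ := hkm
        have h1 := List.snd_lt_of_mem_zipIdx (List.mem_filter.1 hq).1
        have h2 := Valid.ent_length (c := c) ρ col.val
        show q.2 + 1 ≤ 3
        omega
      generalize D.chainCoeff ρ col.val s.val = L at hk
      induction L with
      | nil => simp
      | cons km L ih =>
        rw [List.map_cons, List.sum_cons]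
        refine (Polynomial.natDegree_add_le _ _).trans (max_le ?_ (ih fun x hx => hk x (List.mem_cons_of_mem _ hx)))
        refine (Polynomial.natDegree_C_mul_le _ _).trans ?_
        refine (Polynomial.natDegree_pow_le).trans ?_
        rw [Polynomial.natDegree_neg, Polynomial.natDegree_X, mul_one]
        exact hk km List.mem_cons_self
  set P : F[X] := ∑ m : D.Idx, Polynomial.C ((u : Matrix D.Idx D.Idx F) (Sum.inl ⟨i, hi⟩) m) * E m with hP
  have hPe : ∀ r : F, P.eval r = comp hG hf hc b hi (xe hG ρ r * u * (xe hG ρ r)⁻¹) := by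
    intro r
    have hrow : ∀ m : D.Idx, ((xe hG ρ r * u : GL D.Idx F) : Matrix D.Idx D.Idx F) (Sum.inl ⟨i, hi⟩) m =
        (u : Matrix D.Idx D.Idx F) (Sum.inl ⟨i, hi⟩) m := by
      intro m
      rw [Units.val_mul, Matrix.mul_apply, Fintype.sum_sum_type, Finset.sum_eq_single ⟨i, hi⟩, Finset.sum_eq_zero]
      · rw [x_inl_inl hG hρ, if_pos rfl, one_mul, add_zero]
      · intro s _
        rw [coe_xe, x_entry_inl hρ s.2]
        split_ifs with hs1 hs2
        · rw [zero_mul]
        · rw [(inRootSub_sroot hG hf hc (!b) (J := {j}) hj rfl).2 i hi hij]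
          simp
        · rw [zero_mul]
      · intro k _ hk
        rw [x_inl_inl hG hρ, if_neg (Ne.symm hk), zero_mul]
      · simp
    rw [comp, Units.val_mul, Matrix.mul_apply, hP, Polynomial.eval_finsetSum, xe_inv hG hρ]
    refine Finset.sum_congr rfl fun m _ => ?_
    rw [Polynomial.eval_mul, Polynomial.eval_C, hE, hrow]
  have h0 : P.eval 0 ≠ 0 := by
    rw [hPe, xe_zero hG hρ, one_mul, inv_one, mul_one]
    exact hu
  have hP0 : P ≠ 0 := fun h => h0 (by rw [h, Polynomial.eval_zero])
  refine ⟨P.roots.toFinset, ?_, ?_, fun r hr hr0 => hr ?_⟩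
  · refine (Multiset.toFinset_card_le _).trans ((Polynomial.card_roots' _).trans ?_)
    exact Polynomial.natDegree_sum_le_of_forall_le _ _ fun m _ => (Polynomial.natDegree_C_mul_le _ _).trans (hdeg m)
  · rw [Multiset.mem_toFinset, Polynomial.mem_roots hP0]
    exact h0
  · rw [Multiset.mem_toFinset, Polynomial.mem_roots hP0, Polynomial.IsRoot.def, hPe]
    exact hr0

end Cfsg.Agent.Thompson.Sides
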