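import Cfsg.Agent.Lib.Thompson.ChevCerts

/-!
The exceptional Chevalley groups over fields with at least nine elements are squares of classes.
-/

set_option autoImplicit false

namespace Cfsg.Agent.Thompson

open Cfsg.Lie Cfsg.Agent.Chev Cfsg.Agent.Chev.BNSetup Cfsg.Agent.Thompson.Sides

variable {F : Type*} [Field F] [Fintype F]

theorem square_of_cert {D : ChevalleyDatum} {tabs simps : List ℕ} {M : List (List ℤ)} {L : LeviCert}
    (hG : Good D) (hf : Facts D tabs simps) (hc : CoefFacts D M tabs) (hV : L.Valid D tabs M) (hn : NegTri D)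
    (ht : TreeCert D) (hq : 9 ≤ Fintype.card F) :
    ∃ c : ↥(D.group F), ∀ g : ↥(D.group F), ∃ x y : ↥(D.group F), g = x * c * x⁻¹ * (y * c * y⁻¹) := by
  obtain ⟨x, hx, h⟩ := exists_square hG hf hc hV hq hn ht
  refine ⟨⟨x, hx⟩, fun g => ?_⟩
  obtain ⟨p, hp, q, hq', e⟩ := h g g.2
  exact ⟨⟨p, hp⟩, ⟨q, hq'⟩, Subtype.ext e⟩

theorem chev_exceptional_square {D : ChevalleyDatum} (hD : D ∈ [chevG2, chevF4, chevE6, chevE7, chevE8])
    (hq : 9 ≤ Fintype.card F) :
    ∃ c : ↥(D.group F), ∀ g : ↥(D.group F), ∃ x y : ↥(D.group F), g = x * c * x⁻¹ * (y * c * y⁻¹) := by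
  simp only [List.mem_cons, List.not_mem_nil, or_false] at hD
  rcases hD with rfl | rfl | rfl | rfl | rfl
  · exact square_of_cert G2.good facts_chevG2 coefFacts_G2 leviG2_valid negTri_chevG2 treeG2 hq
  · exact square_of_cert F4.good facts_chevF4 coefFacts_F4 leviF4_valid negTri_chevF4 treeF4 hq
  · exact square_of_cert E6.good facts_chevE6 coefFacts_E6 leviE6_valid negTri_chevE6 treeE6 hq
  · exact square_of_cert E7.good facts_chevE7 coefFacts_E7 leviE7_valid negTri_chevE7 treeE7 hq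
  · exact square_of_cert E8.good facts_chevE8 coefFacts_E8 leviE8_valid negTri_chevE8 treeE8 hq

end Cfsg.Agent.Thompson
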