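import Cfsg.Agent.Lib.Thompson.ChevChain

/-!
A torus element with no root of a closed positive set in its kernel centralises no nontrivial element of the
corresponding group; the two radicals and the elements `z w`.
-/

set_option autoImplicit false
set_option linter.unusedSectionVars false

namespace Cfsg.Agent.Thompson.Sides

open Cfsg.Lie Cfsg.Agent.Chev Cfsg.Agent.Chev.BNSetup
open Matrix (SpecialLinearGroup)

variable {F : Type*} [Field F] {D : ChevalleyDatum}
variable (hG : Good D) {tabs simps : List ℕ} (hf : Facts D tabs simps) {M : List (List ℤ)}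
  (hc : CoefFacts D M tabs)
include hG hf hc

theorem torus_conj_prodFrom (c : Fin D.rank → Fˣ) (t : ℕ → F) :
    ∀ {k m : ℕ}, k + m = D.nroots →
      torusHom F D c * prodFrom hG F t k m * (torusHom F D c)⁻¹ =
        prodFrom hG F (fun r => (torusChar D c r : F) * t r) k m := by
  intro k m
  induction m generalizing k with
  | zero => intro _; simp [prodFrom]
  | succ m ih =>
    intro h
    rw [prodFrom, prodFrom, ← ih (k := k + 1) (by omega), ← torusHom_conj hG c k (by omega)]
    group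

theorem eq_one_of_commute {S : Set (Fin D.nroots)} (hS : ClosedPos D S) {c : Fin D.rank → Fˣ}
    (hχ : ∀ r ∈ S, torusChar D c r.val ≠ 1) {u : GL D.Idx F} (hu : u ∈ rootGen hG F S)
    (h : torusHom F D c * u = u * torusHom F D c) : u = 1 := by
  have hsum : D.nroots / 2 + (D.nroots - D.nroots / 2) = D.nroots := by omega
  obtain ⟨t, ht, rfl⟩ := exists_prodFrom_rootGen hG hf hS hsum le_rfl u
    (rootGen_mono hG (T := {r | r ∈ S ∧ D.nroots / 2 ≤ r.val}) (fun r hr => ⟨hr, hS.1 r hr⟩) hu)
  have h1 : torusHom F D c * prodFrom hG F t (D.nroots / 2) (D.nroots - D.nroots / 2) * (torusHom F D c)⁻¹ =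
      prodFrom hG F t (D.nroots / 2) (D.nroots - D.nroots / 2) := by
    rw [h, mul_inv_cancel_right]
  rw [torus_conj_prodFrom hG hf hc c t hsum] at h1
  have h0 : ∀ r, D.nroots / 2 ≤ r → r < D.nroots → t r = 0 := by
    intro r hr hr'
    by_contra hne
    obtain ⟨-, hj, hjS⟩ := ht r hne
    have h2 := prodFrom_inj hG hf hsum le_rfl h1 r hr hr'
    exact hχ _ hjS (Units.ext ((mul_eq_right₀ hne).1 h2))
  suffices key : ∀ k m, k + m = D.nroots → D.nroots / 2 ≤ k → prodFrom hG F t k m = 1 from key _ _ hsum le_rfl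
  intro k m
  induction m generalizing k with
  | zero => intros; rfl
  | succ m ih =>
    intro hk hk'
    rw [prodFrom, h0 k hk' (by omega), xe_zero hG (by omega), one_mul, ih (k + 1) (by omega) (by omega)]

theorem closedPos_rad (J : Set ℕ) :
    ClosedPos D {r : Fin D.nroots | SPos D true r.val ∧ ¬ D.InRootSub J r.val} := by
  refine ⟨fun r hr => by simpa using hr.1.2, ?_⟩
  rintro r ⟨hr, -⟩ s ⟨hs, hsJ⟩ x hx hlt
  obtain ⟨i, hi, hiJ, hp⟩ := exists_off hG hf hc hs hsJ
  obtain ⟨a, b, -, hb, e⟩ := rc_commTerms (M := M) hG r.2 s.2 hx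
  have hnn := sg_nonneg hG hf hc hr hi
  have hpx : 0 < sg true * rc D M i x.1 := by
    rw [e i, mul_add, mul_left_comm, mul_left_comm (sg true)]
    have : (0 : ℤ) < (b : ℤ) * (sg true * rc D M i s.val) := mul_pos (by exact_mod_cast hb) hp
    positivity
  refine ⟨(spos_iff hG hf hc).2 ⟨hlt, i, hi, hpx⟩, fun hxJ => ?_⟩
  rw [((inRootSub_iff (M := M) hc).1 hxJ).2 i hi hiJ, mul_zero] at hpx
  omega

/-- The torus element fixes nothing in the positive radical. -/
theorem eq_one_true (J : Set ℕ) {c : Fin D.rank → Fˣ}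
    (hχ : ∀ r, r < D.nroots → ¬ D.InRootSub J r → torusChar D c r ≠ 1) {u : GL D.Idx F}
    (hu : u ∈ rad F hG true J) (h : torusHom F D c * u = u * torusHom F D c) : u = 1 :=
  eq_one_of_commute hG hf hc (closedPos_rad hG hf hc J) (fun r hr => hχ r.val r.2 hr.2) hu h

/-- The torus element fixes nothing in the negative radical if the longest element stabilises `J`. -/
theorem eq_one_false {w0 : List ℕ} (hw : IsLongest D tabs w0) (J : Set ℕ)
    (hJ : ∀ r, r < D.nroots → (D.InRootSub J (RootBN.evWord tabs w0 r) ↔ D.InRootSub J r))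
    {c : Fin D.rank → Fˣ}
    (hχ : ∀ r, r < D.nroots → ¬ D.InRootSub J r → torusChar D c r ≠ 1) {u : GL D.Idx F}
    (hu : u ∈ rad F hG false J) (h : torusHom F D c * u = u * torusHom F D c) : u = 1 := by
  have ax := axioms (F := F) hG hf
  obtain ⟨l, hl⟩ : ∃ l : List (Fin D.rank), l = RootBN.Data.toFin w0 := ⟨_, rfl⟩
  have hev : ∀ r : Fin D.nroots, ((data hG F).wl l r).val = RootBN.evWord tabs w0 r.val := fun r => by
    rw [hl, ← RootBN.Data.evWord_eq (tabs := tabs) (fun i s => ((hf.2.2.2.2.1 i.val i.2).2.2.2.1 s.val s.2).1),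
      RootBN.Data.map_val_toFin hw.1]
  set n := (data hG F).nw l with hn
  obtain ⟨c', hc'⟩ := exists_torus hG hf hc (RootBN.Data.nw_H ax l (torus_mem_H hG hf hc c))
  rw [← hn] at hc'
  have hmap : n * u * n⁻¹ ∈ rad F hG true J := by
    refine (show rad F hG false J ≤ (rad F hG true J).comap (MulAut.conj n).toMonoidHom from ?_) hu
    rw [rad, rootGen, Subgroup.closure_le]
    rintro _ ⟨s, ⟨hs, hsJ⟩, t, rfl⟩
    show n * xe hG s.val t * n⁻¹ ∈ rad F hG true J
    obtain ⟨t', ht'⟩ := (mem_rootSubgroup hG ((data hG F).wl l s).2).1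
      ((RootBN.Data.acts_nw ax l s _).2 ((mem_rootSubgroup hG s.2).2 ⟨t, rfl⟩))
    rw [ht']
    refine xe_mem_rootGen hG (S := {r : Fin D.nroots | SPos D true r.val ∧ ¬ D.InRootSub J r.val})
      ⟨⟨((data hG F).wl l s).2, ?_⟩, fun hin => hsJ ((hJ _ s.2).1 (by rwa [← hev]))⟩ t'
    simp only [if_true]
    rw [hev]
    by_contra hlt
    have hneg : D.nroots / 2 ≤ D.neg s.val := by
      have := hs.2
      simp only [Bool.false_eq_true, if_false] at this
      rw [neg_eq hf s.2]
      have := hf.1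
      omega
    have h1 := hw.2 _ (hG.neg_lt s.2) hneg
    rw [show RootBN.evWord tabs w0 (D.neg s.val) = D.neg (RootBN.evWord tabs w0 s.val) by
      rw [← hev s]
      have e := congrArg Fin.val (RootBN.Data.wl_opp ax l s)
      rw [hev] at e
      exact e, neg_eq hf (by rw [← hev s]; exact ((data hG F).wl l s).2)] at h1
    have := hf.1
    omega
  have hχ' : ∀ r : Fin D.nroots, r ∈ {r : Fin D.nroots | SPos D true r.val ∧ ¬ D.InRootSub J r.val} →
      torusChar D c' r.val ≠ 1 := by
    rintro r ⟨-, hr⟩ hone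
    obtain ⟨s, rfl⟩ : ∃ s, (data hG F).wl l s = r := ⟨_, Equiv.apply_symm_apply _ r⟩
    have hsJ : ¬ D.InRootSub J s.val := fun hin => hr (by rw [hev]; exact (hJ _ s.2).2 hin)
    refine hχ s.val s.2 hsJ ?_
    obtain ⟨t', ht'⟩ := (mem_rootSubgroup hG ((data hG F).wl l s).2).1
      ((RootBN.Data.acts_nw ax l s _).2 ((mem_rootSubgroup hG s.2).2 ⟨(1 : F), rfl⟩))
    have h1 := torusHom_conj hG c' _ ((data hG F).wl l s).2 t'
    rw [hone, Units.val_one, one_mul, ← hc', ← ht'] at h1
    have h2 : torusHom F D c * xe hG s.val 1 * (torusHom F D c)⁻¹ = xe hG s.val 1 := by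
      apply (MulAut.conj n).injective
      simp only [MulAut.conj_apply]
      calc _ = n * torusHom F D c * n⁻¹ * (n * xe hG s.val 1 * n⁻¹) * (n * torusHom F D c * n⁻¹)⁻¹ := by group
        _ = _ := h1
    rw [torusHom_conj hG c _ s.2] at h2
    by_contra hne
    refine xe_ne_one hG hf s.2 (t := (torusChar D c s.val : F) * 1 + -1) ?_ ?_
    · rw [mul_one, ← sub_eq_add_neg]
      exact sub_ne_zero.2 fun e => hne (Units.ext e)
    · rw [← xe_add hG s.2, h2, ← xe_inv hG s.2, mul_inv_cancel]
  have hres := eq_one_of_commute hG hf hc (closedPos_rad hG hf hc J) hχ' hmap (by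
    rw [← hc']
    calc _ = n * (torusHom F D c * u) * n⁻¹ := by group
      _ = _ := by rw [h]; group)
  exact conj_eq_one_iff.1 hres

end Cfsg.Agent.Thompson.Sides
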