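import Cfsg.Agent.Lib.Thompson.UnipMatrix
import Cfsg.Agent.Lib.CurtisTits.Hom

/-!
The two unitriangular subgroups of `SL n` with their additive coordinates next to the diagonal, and the conjugacy of
regular unipotent elements up to a diagonal twist.
-/

set_option autoImplicit false
set_option linter.unusedSectionVars false

namespace Cfsg.Agent.Thompson.LeviMat

open Matrix
open Cfsg.Agent.Thompson.UnipMatrix

universe u

variable {F : Type u} [Field F] {n : ℕ}

/-- The matrix read from the side `b`. -/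
def orient (b : Bool) (M : Matrix (Fin n) (Fin n) F) : Matrix (Fin n) (Fin n) F := if b then M else Mᵀ

theorem upperU_mul {A B : Matrix (Fin n) (Fin n) F} (hA : UpperU A) (hB : UpperU B) : UpperU (A * B) := by
  refine ⟨fun i j hij => ?_, fun i => ?_⟩
  · rw [Matrix.mul_apply]
    refine Finset.sum_eq_zero fun k _ => ?_
    rcases lt_or_ge k i with h | h
    · rw [hA.1 i k h, zero_mul]
    · rw [hB.1 k j (lt_of_lt_of_le hij h), mul_zero]
  · rw [Matrix.mul_apply, Finset.sum_eq_single i]
    · rw [hA.2, hB.2, mul_one]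
    · intro k _ hk
      rcases lt_or_gt_of_ne hk with h | h
      · rw [hA.1 i k h, zero_mul]
      · rw [hB.1 k i h, mul_zero]
    · simp

theorem upperU_one : UpperU (1 : Matrix (Fin n) (Fin n) F) :=
  ⟨fun _ _ h => Matrix.one_apply_ne h.ne', fun i => Matrix.one_apply_eq i⟩

/-- The entries next to the diagonal add. -/
theorem upperU_mul_super {A B : Matrix (Fin n) (Fin n) F} (hA : UpperU A) (hB : UpperU B) {p q : Fin n}
    (h : p.val + 1 = q.val) : (A * B) p q = A p q + B p q := by
  have hpq : p ≠ q := fun e => by rw [e] at h; omega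
  rw [Matrix.mul_apply, Finset.sum_eq_add (a := q) (b := p) hpq.symm]
  · rw [hA.2, hB.2, mul_one, one_mul]
  · intro k _ hk
    rcases lt_or_ge k p with h1 | h1
    · rw [hA.1 p k h1, zero_mul]
    · rw [hB.1 k q (Fin.lt_def.2 (by
        have := Fin.le_def.1 h1
        have : k.val ≠ p.val := fun e => hk.2 (Fin.ext e)
        have : k.val ≠ q.val := fun e => hk.1 (Fin.ext e)
        omega)), mul_zero]
  · simp
  · simp

theorem upperU_orient_mul {b : Bool} {A B : Matrix (Fin n) (Fin n) F} (hA : UpperU (orient b A))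
    (hB : UpperU (orient b B)) : UpperU (orient b (A * B)) := by
  cases b
  · simp only [orient, Bool.false_eq_true, if_false, Matrix.transpose_mul] at *
    exact upperU_mul hB hA
  · exact upperU_mul hA hB

theorem orient_mul_super {b : Bool} {A B : Matrix (Fin n) (Fin n) F} (hA : UpperU (orient b A))
    (hB : UpperU (orient b B)) {p q : Fin n} (h : p.val + 1 = q.val) :
    orient b (A * B) p q = orient b A p q + orient b B p q := by
  cases b
  · simp only [orient, Bool.false_eq_true, if_false] at *
    rw [Matrix.transpose_mul, upperU_mul_super hB hA h, add_comm]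
  · exact upperU_mul_super hA hB h

variable (F n)

/-- The unitriangular group of a side, as a submonoid. -/
def triM (b : Bool) : Submonoid (SpecialLinearGroup (Fin n) F) where
  carrier := {M | UpperU (orient b (M : Matrix (Fin n) (Fin n) F))}
  mul_mem' {A B} hA hB := by
    show UpperU (orient b ((A : Matrix (Fin n) (Fin n) F) * (B : Matrix (Fin n) (Fin n) F)))
    exact upperU_orient_mul hA hB
  one_mem' := by
    show UpperU (orient b (1 : Matrix (Fin n) (Fin n) F))
    cases b
    · simpa [orient] using upperU_one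
    · exact upperU_one

/-- The unitriangular group of a side. -/
def tri [Finite F] (b : Bool) : Subgroup (SpecialLinearGroup (Fin n) F) :=
  { triM F n b with
    inv_mem' := fun {x} hx => by
      obtain ⟨k, hk, e⟩ := isOfFinOrder_iff_pow_eq_one.1 (isOfFinOrder_of_finite x)
      rw [show x⁻¹ = x ^ (k - 1) from inv_eq_of_mul_eq_one_right (by
        rw [← pow_succ', Nat.sub_add_cancel hk, e])]
      exact pow_mem (show x ∈ triM F n b from hx) _ }

variable {F n}

theorem mem_tri [Finite F] {b : Bool} {M : SpecialLinearGroup (Fin n) F} :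
    M ∈ tri F n b ↔ UpperU (orient b (M : Matrix (Fin n) (Fin n) F)) := Iff.rfl

/-- The coordinate next to the diagonal. -/
def ent (b : Bool) (p q : Fin n) (M : SpecialLinearGroup (Fin n) F) : F := orient b (M : Matrix (Fin n) (Fin n) F) p q

theorem ent_mul [Finite F] {b : Bool} {p q : Fin n} (h : p.val + 1 = q.val) {A B : SpecialLinearGroup (Fin n) F}
    (hA : A ∈ tri F n b) (hB : B ∈ tri F n b) : ent b p q (A * B) = ent b p q A + ent b p q B :=
  orient_mul_super hA hB h

theorem ent_one (b : Bool) {p q : Fin n} (h : p.val + 1 = q.val) :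
    ent b p q (1 : SpecialLinearGroup (Fin n) F) = 0 := by
  have hpq : p ≠ q := fun e => by rw [e] at h; omega
  show orient b (1 : Matrix (Fin n) (Fin n) F) p q = 0
  cases b <;> simp [orient, hpq, hpq.symm]

theorem ent_inv [Finite F] {b : Bool} {p q : Fin n} (h : p.val + 1 = q.val) {A : SpecialLinearGroup (Fin n) F}
    (hA : A ∈ tri F n b) : ent b p q A⁻¹ = -ent b p q A := by
  have := ent_mul h (Subgroup.inv_mem _ hA) hA
  rw [inv_mul_cancel, ent_one b h] at this
  exact eq_neg_of_add_eq_zero_left this.symm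

theorem transvection_mem_tri [Finite F] {b : Bool} {i j : Fin n} (hij : i ≠ j) (h : if b then i < j else j < i)
    (t : F) : SpecialLinearGroup.transvection hij t ∈ tri F n b := by
  rw [mem_tri, SpecialLinearGroup.transvection_coe]
  cases b
  · simp only [Bool.false_eq_true, if_false] at h
    refine ⟨fun p q hqp => ?_, fun p => ?_⟩
    · simp only [orient, Bool.false_eq_true, if_false, Matrix.transpose_apply, Matrix.add_apply,
        Matrix.one_apply_ne hqp.ne, zero_add, Matrix.single_apply]
      rw [if_neg]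
      rintro ⟨rfl, rfl⟩
      exact absurd h hqp.asymm
    · simp only [orient, Bool.false_eq_true, if_false, Matrix.transpose_apply, Matrix.add_apply,
        Matrix.one_apply_eq, Matrix.single_apply]
      rw [if_neg, add_zero]
      rintro ⟨rfl, e⟩
      exact hij e.symm
  · simp only [if_true] at h
    refine ⟨fun p q hqp => ?_, fun p => ?_⟩
    · simp only [orient, if_true, Matrix.add_apply, Matrix.one_apply_ne hqp.ne', zero_add, Matrix.single_apply]
      rw [if_neg]
      rintro ⟨rfl, rfl⟩
      exact absurd h hqp.asymm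
    · simp only [orient, if_true, Matrix.add_apply, Matrix.one_apply_eq, Matrix.single_apply]
      rw [if_neg, add_zero]
      rintro ⟨rfl, e⟩
      exact hij e.symm

theorem ent_transvection (b : Bool) {i j : Fin n} (hij : i ≠ j) (t : F) {p q : Fin n} (h : p.val + 1 = q.val) :
    ent b p q (SpecialLinearGroup.transvection hij t) =
      if (if b then i = p ∧ j = q else i = q ∧ j = p) then t else 0 := by
  have hpq : p ≠ q := fun e => by rw [e] at h; omega
  rw [ent, SpecialLinearGroup.transvection_coe]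
  cases b <;> simp [orient, hpq, hpq.symm, Matrix.single_apply]

/-- Regular unipotent from the coordinates. -/
theorem mru_of_ent [Finite F] {b : Bool} {M : SpecialLinearGroup (Fin n) F} (hM : M ∈ tri F n b)
    (h : ∀ p q : Fin n, p.val + 1 = q.val → ent b p q M ≠ 0) : MRU (M : Matrix (Fin n) (Fin n) F) := by
  cases b
  · exact mru_of_lower hM h
  · exact mru_of_upper hM h

theorem top_left {A B : SpecialLinearGroup (Fin n) F} (hA : UpperU (orient false (A : Matrix (Fin n) (Fin n) F)))
    (hB : UpperU (orient true (B : Matrix (Fin n) (Fin n) F))) (hn : 0 < n) :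
    ((A * B : SpecialLinearGroup (Fin n) F) : Matrix (Fin n) (Fin n) F) ⟨0, hn⟩ ⟨0, hn⟩ = 1 := by
  show ((A : Matrix (Fin n) (Fin n) F) * (B : Matrix (Fin n) (Fin n) F)) ⟨0, hn⟩ ⟨0, hn⟩ = 1
  rw [Matrix.mul_apply, Finset.sum_eq_single ⟨0, hn⟩]
  · have h1 := hA.2 ⟨0, hn⟩
    have h2 := hB.2 ⟨0, hn⟩
    simp only [orient, Bool.false_eq_true, if_false, if_true, Matrix.transpose_apply] at h1 h2
    rw [h1, h2, mul_one]
  · intro k _ hk
    have h1 := hA.1 k ⟨0, hn⟩ (Fin.lt_def.2 (Nat.pos_of_ne_zero fun e => hk (Fin.ext e)))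
    simp only [orient, Bool.false_eq_true, if_false, Matrix.transpose_apply] at h1
    rw [h1, zero_mul]
  · simp

/-- The twisting diagonal. -/
def dg (d : Fˣ) (i : Fin n) : F := if i.val = 0 then (d : F) else 1

theorem dg_ne_zero (d : Fˣ) (i : Fin n) : dg d i ≠ 0 := by
  rw [dg]; split_ifs <;> simp

/-- Conjugation by `diag(d, 1, ..., 1)`. -/
def conjD (d : Fˣ) : SpecialLinearGroup (Fin n) F →* SpecialLinearGroup (Fin n) F where
  toFun M := ⟨Matrix.diagonal (dg d) * (M : Matrix (Fin n) (Fin n) F) * Matrix.diagonal (fun i => (dg d i)⁻¹), by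
    rw [Matrix.det_mul_right_comm, Matrix.diagonal_mul_diagonal, Matrix.det_mul, M.2, mul_one, Matrix.det_diagonal]
    exact Finset.prod_eq_one fun i _ => mul_inv_cancel₀ (dg_ne_zero d i)⟩
  map_one' := by
    apply Subtype.ext
    show Matrix.diagonal (dg d) * (1 : Matrix (Fin n) (Fin n) F) * Matrix.diagonal (fun i => (dg d i)⁻¹) = 1
    rw [mul_one, Matrix.diagonal_mul_diagonal, ← Matrix.diagonal_one]
    congr 1
    funext i
    exact mul_inv_cancel₀ (dg_ne_zero d i)
  map_mul' A B := by
    apply Subtype.ext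
    show Matrix.diagonal (dg d) * ((A : Matrix (Fin n) (Fin n) F) * (B : Matrix (Fin n) (Fin n) F)) *
        Matrix.diagonal (fun i => (dg d i)⁻¹) =
      Matrix.diagonal (dg d) * (A : Matrix (Fin n) (Fin n) F) * Matrix.diagonal (fun i => (dg d i)⁻¹) *
        (Matrix.diagonal (dg d) * (B : Matrix (Fin n) (Fin n) F) * Matrix.diagonal (fun i => (dg d i)⁻¹))
    have h : Matrix.diagonal (fun i => (dg d i)⁻¹) * Matrix.diagonal (dg d) = (1 : Matrix (Fin n) (Fin n) F) := by
      rw [Matrix.diagonal_mul_diagonal, ← Matrix.diagonal_one]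
      congr 1
      funext i
      exact inv_mul_cancel₀ (dg_ne_zero d i)
    simp only [Matrix.mul_assoc]
    rw [← Matrix.mul_assoc (Matrix.diagonal fun i => (dg d i)⁻¹) (Matrix.diagonal (dg d)), h, Matrix.one_mul]

theorem conjD_transvection (d : Fˣ) {i j : Fin n} (hij : i ≠ j) (t : F) :
    conjD d (SpecialLinearGroup.transvection hij t) =
      SpecialLinearGroup.transvection hij (dg d i * t * (dg d j)⁻¹) := by
  apply Subtype.ext
  show Matrix.diagonal (dg d) * (SpecialLinearGroup.transvection hij t : Matrix (Fin n) (Fin n) F) *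
      Matrix.diagonal (fun i => (dg d i)⁻¹) = _
  rw [SpecialLinearGroup.transvection_coe, SpecialLinearGroup.transvection_coe, Matrix.mul_add, Matrix.add_mul,
    Matrix.mul_one, Matrix.diagonal_mul_diagonal]
  congr 1
  · rw [← Matrix.diagonal_one]
    congr 1
    funext k
    exact mul_inv_cancel₀ (dg_ne_zero d k)
  · ext p q
    simp only [Matrix.diagonal_mul, Matrix.mul_diagonal, Matrix.single_apply]
    split_ifs with h
    · obtain ⟨rfl, rfl⟩ := h; rfl
    · simp

/-- The Jordan block in `SL n`. -/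
def jordanSL (n : ℕ) (F : Type u) [Field F] : SpecialLinearGroup (Fin n) F :=
  ⟨jordan n F, upperU_jordan.det_eq_one⟩

theorem exists_twist {M : SpecialLinearGroup (Fin n) F} (h : MRU (M : Matrix (Fin n) (Fin n) F)) :
    ∃ (S : SpecialLinearGroup (Fin n) F) (d : Fˣ), M = S * conjD d (jordanSL n F) * S⁻¹ := by
  obtain ⟨S, hS, e⟩ := exists_conj h
  rcases Nat.eq_zero_or_pos n with rfl | hn
  · refine ⟨1, 1, Subtype.ext ?_⟩
    ext i
    exact i.elim0
  set d : Fˣ := hS.unit with hd
  have hdet : Matrix.det (S * Matrix.diagonal (fun i => (dg d i)⁻¹)) = 1 := by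
    rw [Matrix.det_mul, Matrix.det_diagonal, Finset.prod_eq_single ⟨0, hn⟩]
    · rw [dg, if_pos rfl, hd, IsUnit.unit_spec, mul_inv_cancel₀ hS.ne_zero]
    · intro k _ hk
      rw [dg, if_neg fun e => hk (Fin.ext e), inv_one]
    · simp
  obtain ⟨S', hS'⟩ : ∃ S' : SpecialLinearGroup (Fin n) F,
      (S' : Matrix (Fin n) (Fin n) F) = S * Matrix.diagonal (fun i => (dg d i)⁻¹) := ⟨⟨_, hdet⟩, rfl⟩
  refine ⟨S', d, eq_mul_inv_of_mul_eq ?_⟩
  apply Subtype.ext
  show (M : Matrix (Fin n) (Fin n) F) * (S' : Matrix (Fin n) (Fin n) F) = (S' : Matrix (Fin n) (Fin n) F) *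
      (Matrix.diagonal (dg d) * jordan n F * Matrix.diagonal fun i => (dg d i)⁻¹)
  rw [hS']
  have h1 : Matrix.diagonal (fun i => (dg d i)⁻¹) * Matrix.diagonal (dg d) = (1 : Matrix (Fin n) (Fin n) F) := by
    rw [Matrix.diagonal_mul_diagonal, ← Matrix.diagonal_one]
    congr 1
    funext i
    exact inv_mul_cancel₀ (dg_ne_zero d i)
  simp only [Matrix.mul_assoc]
  rw [← Matrix.mul_assoc (Matrix.diagonal fun i => (dg d i)⁻¹) (Matrix.diagonal (dg d)), h1, Matrix.one_mul, e]
  simp only [Matrix.mul_assoc]
  rw [← Matrix.mul_assoc S⁻¹ S, Matrix.nonsing_inv_mul _ hS, Matrix.one_mul]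

theorem det_eq_one_of_mru {M : Matrix (Fin n) (Fin n) F} (h : MRU M) : M.det = 1 := by
  obtain ⟨S, hS, rfl⟩ := exists_conj h
  rw [Matrix.det_mul_right_comm, Matrix.mul_nonsing_inv _ hS, Matrix.one_mul, upperU_jordan.det_eq_one]

end Cfsg.Agent.Thompson.LeviMat
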