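import Cfsg.Agent.Lib.Thompson.ChevFix
import Cfsg.Agent.Lib.Thompson.ChevLeviMat
import Mathlib.GroupTheory.NoncommPiCoprod

/-!
A Levi subgroup made of chains: the homomorphism out of the product of the special linear groups, and the lifts of the
two unipotent parts.
-/

set_option autoImplicit false
set_option linter.unusedSectionVars false

namespace Cfsg.Agent.Thompson.Sides

open Cfsg.Lie Cfsg.Agent.Chev Cfsg.Agent.Chev.BNSetup
open Matrix (SpecialLinearGroup)
open Cfsg.Agent.Thompson.UnipMatrix Cfsg.Agent.Thompson.LeviMat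

/-- The data of a Levi subgroup made of chains. -/
structure LeviCert where
  /-- exponents of the central torus element -/
  y : List ℤ
  /-- the chains -/
  chains : List (List ℕ)
  /-- exponents of the twisting torus elements -/
  b : List (List ℤ)
  /-- the longest word -/
  w0 : List ℕ

namespace LeviCert

variable (L : LeviCert)

/-- The nodes. -/
def J : Set ℕ := {i | i ∈ L.chains.flatten}

/-- A chain. -/
def ch (k : Fin L.chains.length) : List ℕ := L.chains.get k

/-- The exponent of the central element at a root. -/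
def lf (D : ChevalleyDatum) (r : ℕ) : ℤ := ∑ i : Fin D.rank, L.y.getD i.val 0 * D.cartan i.val r

/-- The exponent of a twisting element at a root. -/
def bw (D : ChevalleyDatum) (k r : ℕ) : ℤ := ∑ i : Fin D.rank, (L.b.getD k []).getD i.val 0 * D.cartan i.val r

variable (D : ChevalleyDatum) (tabs : List ℕ) (M : List (List ℤ))

/-- The chains are chains. -/
def ChainsOK : Prop := ∀ k, L.ch k ≠ [] ∧ ChainOK D (L.ch k)

/-- The central element. -/
def KernelOK : Prop :=
  ∀ r < D.nroots, ((∀ i < D.rank, i ∉ L.chains.flatten → rc D M i r = 0) ↔ L.lf D r = 0) ∧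
    (D.nroots / 2 ≤ r → 0 ≤ L.lf D r ∧ L.lf D r ≤ 7) ∧ L.lf D (RootBN.evWord tabs L.w0 r) = -L.lf D r

/-- The roots of the Levi subgroup are in the chains. -/
def CoverOK : Prop :=
  ∀ r < D.nroots, L.lf D r = 0 → ∃ k, ∃ i j : Fin ((L.ch k).length + 1),
    i ≠ j ∧ (chainRt D (L.ch k) i j).1 = r ∧ (D.nroots / 2 ≤ r ↔ i < j)

/-- Different chains commute. -/
def CrossOK : Prop :=
  ∀ k k', k ≠ k' → ∀ i j : Fin ((L.ch k).length + 1), i ≠ j → ∀ i' j' : Fin ((L.ch k').length + 1), i' ≠ j' →
    CommOK D (chainRt D (L.ch k) i j).1 (chainRt D (L.ch k') i' j').1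

/-- The twists. -/
def TwistOK : Prop :=
  ∀ k k', ∀ i j : Fin ((L.ch k').length + 1), i ≠ j →
    L.lf D (chainRt D (L.ch k') i j).1 = 0 ∧
    L.bw D k.val (chainRt D (L.ch k') i j).1 =
      if k = k' then (if i.val = 0 then 1 else 0) - (if j.val = 0 then 1 else 0) else 0

/-- The nodes are distinct. -/
def NodesOK : Prop :=
  L.chains.flatten.Nodup ∧ (∀ j ∈ L.chains.flatten, j < D.rank) ∧
    ∀ k, ∀ a : Fin (L.ch k).length, ∀ k', ∀ a' : Fin (L.ch k').length,
      (L.ch k).getD a 0 = (L.ch k').getD a' 0 → k.val = k'.val ∧ a.val = a'.val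

/-- The opposition stabilises the nodes. -/
def OppOK : Prop :=
  ∀ j ∈ L.chains.flatten, ∃ j' ∈ L.chains.flatten,
    RootBN.evWord tabs L.w0 (D.simple j') = D.neg (D.simple j)

instance : Decidable (L.ChainsOK D) := inferInstanceAs (Decidable (∀ _, _))
instance : Decidable (L.KernelOK D tabs M) := inferInstanceAs (Decidable (∀ _, _))
instance : Decidable (L.CoverOK D) := inferInstanceAs (Decidable (∀ _, _))
instance : Decidable (L.CrossOK D) := inferInstanceAs (Decidable (∀ _, _))
instance : Decidable (L.TwistOK D) := inferInstanceAs (Decidable (∀ _, _))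
instance : Decidable (L.NodesOK D) := inferInstanceAs (Decidable (_ ∧ _))
instance : Decidable (L.OppOK D tabs) := inferInstanceAs (Decidable (∀ _, _))

/-- The certificate is valid. -/
structure Valid : Prop where
  longest : IsLongest D tabs L.w0
  chains_ok : L.ChainsOK D
  kernel : L.KernelOK D tabs M
  cover : L.CoverOK D
  cross : L.CrossOK D
  twist : L.TwistOK D
  nodes : L.NodesOK D
  opp : L.OppOK D tabs

end LeviCert

variable {F : Type*} [Field F] {D : ChevalleyDatum}
variable (hG : Good D) {tabs simps : List ℕ} (hf : Facts D tabs simps) {M : List (List ℤ)}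
  (hc : CoefFacts D M tabs) {L : LeviCert} (hV : L.Valid D tabs M)

/-- The product of the special linear groups of the chains. -/
abbrev LProd (F : Type*) [Field F] (L : LeviCert) : Type _ :=
  (k : Fin L.chains.length) → SpecialLinearGroup (Fin ((L.ch k).length + 1)) F

omit [Field F] in
theorem node_mem (L : LeviCert) (k : Fin L.chains.length) (a : Fin (L.ch k).length) :
    (L.ch k).getD a 0 ∈ L.chains.flatten := by
  refine List.mem_flatten.2 ⟨L.ch k, List.get_mem _ _, ?_⟩
  rw [List.getD_eq_getElem _ _ a.2]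
  exact List.getElem_mem _

theorem sl_hom_mem {n : ℕ} {G : Type*} [Group G] (φ : SpecialLinearGroup (Fin n) F →* G) (K : Subgroup G)
    (h : ∀ i j (hij : i ≠ j) (t : F), φ (SpecialLinearGroup.transvection hij t) ∈ K)
    (x : SpecialLinearGroup (Fin n) F) : φ x ∈ K := by
  have hx : x ∈ Subgroup.closure (GL.elementaryTransvections (Fin n) F) := by
    rw [GL.closure_elementaryTransvections]; trivial
  refine (show Subgroup.closure (GL.elementaryTransvections (Fin n) F) ≤ K.comap φ from ?_) hx
  rw [Subgroup.closure_le]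
  rintro _ ⟨i, j, hij, t, rfl⟩
  exact h i j hij t

include hG hf hc hV

theorem inRootSub_iff_lf {r : ℕ} (hr : r < D.nroots) : D.InRootSub L.J r ↔ L.lf D r = 0 := by
  rw [inRootSub_iff (M := M) hc, ← (hV.kernel r hr).1]
  exact ⟨fun h => h.2, fun h => ⟨hr, h⟩⟩

/-- The homomorphism of the Levi subgroup. -/
theorem exists_Phi [Finite F] : ∃ Φ : LProd F L →* GL D.Idx F,
    ∀ k i j (hij : i ≠ j) (t : F),
      Φ (Pi.mulSingle k (SpecialLinearGroup.transvection hij t)) = chainX hG (L.ch k) i j t := by
  classical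
  choose φ hφ using fun k => exists_chainHom hG hf (F := F) (hV.chains_ok k).1 (hV.chains_ok k).2
  have hcomm : Pairwise fun k k' => ∀ x y, Commute (φ k x) (φ k' y) := by
    intro k k' hkk x y
    have key : ∀ i j (hij : i ≠ j) (t : F), φ k x * φ k' (SpecialLinearGroup.transvection hij t) =
        φ k' (SpecialLinearGroup.transvection hij t) * φ k x := by
      intro i j hij t
      refine Subgroup.mem_centralizer_singleton_iff.1 (sl_hom_mem (φ k) _ ?_ x)
      intro p q hpq s
      rw [Subgroup.mem_centralizer_singleton_iff, hφ k, hφ k']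
      exact (commute_of_commOK hG hf ((hV.chains_ok k).2.2.1 p q hpq).1 ((hV.chains_ok k').2.2.1 i j hij).1
        (hV.cross k k' hkk p q hpq i j hij) _ _).eq
    refine (Subgroup.mem_centralizer_singleton_iff.1 (sl_hom_mem (φ k') (Subgroup.centralizer {φ k x}) ?_ y)).symm
    intro i j hij t
    exact Subgroup.mem_centralizer_singleton_iff.2 (key i j hij t).symm
  refine ⟨MonoidHom.noncommPiCoprod φ hcomm, fun k i j hij t => ?_⟩
  rw [MonoidHom.noncommPiCoprod_mulSingle, hφ k]

/-- The lifts of a unipotent part, with coordinates. -/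
theorem exists_lift [Finite F] {Φ : LProd F L →* GL D.Idx F}
    (hΦ : ∀ k i j (hij : i ≠ j) (t : F),
      Φ (Pi.mulSingle k (SpecialLinearGroup.transvection hij t)) = chainX hG (L.ch k) i j t)
    (b : Bool) {u : GL D.Idx F} (hu : u ∈ lev F hG b L.J) :
    ∃ p : LProd F L, (∀ k, p k ∈ tri F _ b) ∧ Φ p = u ∧ ∀ k (a : Fin (L.ch k).length),
      ∃ v ∈ rad F hG b {(L.ch k).getD a 0},
        u = xe hG (sroot D b ((L.ch k).getD a 0))
          (ent b ⟨a.val, by omega⟩ ⟨a.val + 1, by omega⟩ (p k)) * v := by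
  classical
  have hnode : ∀ k (a : Fin (L.ch k).length), (L.ch k).getD a 0 < D.rank := fun k a =>
    hV.nodes.2.1 _ (node_mem L k a)
  refine Subgroup.closure_induction (p := fun g _ => ∃ p : LProd F L, (∀ k, p k ∈ tri F _ b) ∧ Φ p = g ∧
    ∀ k (a : Fin (L.ch k).length), ∃ v ∈ rad F hG b {(L.ch k).getD a 0},
      g = xe hG (sroot D b ((L.ch k).getD a 0)) (ent b ⟨a.val, by omega⟩ ⟨a.val + 1, by omega⟩ (p k)) * v)
    ?_ ?_ ?_ ?_ hu
  · rintro _ ⟨r, ⟨hr, hrJ⟩, t, rfl⟩
    have hlf := (inRootSub_iff_lf hG hf hc hV r.2).1 hrJ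
    have hside : ∀ {m : ℕ} (i j : Fin m), i ≠ j → (D.nroots / 2 ≤ r.val ↔ i < j) → if b then i < j else j < i := by
      intro m i j hij h
      have h2 := hr.2
      cases b
      · simp only [Bool.false_eq_true, if_false] at h2 ⊢
        exact lt_of_le_of_ne (not_lt.1 fun hlt => by have := h.2 hlt; omega) hij.symm
      · simp only [if_true] at h2 ⊢
        exact h.1 h2
    obtain ⟨k0, i, j, hij, t', hs, hval, hhit⟩ : ∃ k0, ∃ i j : Fin ((L.ch k0).length + 1), ∃ hij : i ≠ j, ∃ t' : F,
        (if b then i < j else j < i) ∧ chainX hG (L.ch k0) i j t' = xe hG r.val t ∧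
        ((∃ a : Fin (L.ch k0).length, r.val = sroot D b ((L.ch k0).getD a 0) ∧ t' = t ∧
            if b then i.val = a.val ∧ j.val = a.val + 1 else i.val = a.val + 1 ∧ j.val = a.val) ∨
          ((chainRt D (L.ch k0) i j).1 = r.val ∧
            ∀ k (a : Fin (L.ch k).length), r.val ≠ sroot D b ((L.ch k).getD a 0))) := by
      by_cases hex : ∃ k0, ∃ a : Fin (L.ch k0).length, r.val = sroot D b ((L.ch k0).getD a 0)
      · obtain ⟨k0, a, ha⟩ := hex
        cases b
        · refine ⟨k0, ⟨a.val + 1, by omega⟩, ⟨a.val, by omega⟩, by simp, t, by simp, ?_,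
            Or.inl ⟨a, ha, rfl, by simp⟩⟩
          rw [ha]
          simp [chainX, chainRt, chainDown, sroot]
        · refine ⟨k0, ⟨a.val, by omega⟩, ⟨a.val + 1, by omega⟩, by simp, t, by simp, ?_,
            Or.inl ⟨a, ha, rfl, by simp⟩⟩
          rw [ha, chainX_succ hG _ _ a.2]
          rfl
      · push Not at hex
        obtain ⟨k0, i, j, hij, hrt, hiff⟩ := hV.cover r.val r.2 hlf
        refine ⟨k0, i, j, hij, ((chainRt D (L.ch k0) i j).2 : F) * t, hside i j hij hiff, ?_, Or.inr ⟨hrt, hex⟩⟩
        have he := ((hV.chains_ok k0).2.2.1 i j hij).2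
        have h1 : ((chainRt D (L.ch k0) i j).2 : F) * ((chainRt D (L.ch k0) i j).2 : F) = 1 := by
          rcases he with e | e <;> simp [e]
        rw [chainX, hrt, ← mul_assoc, h1, one_mul]
    refine ⟨Pi.mulSingle k0 (SpecialLinearGroup.transvection hij t'), fun k => ?_, by rw [hΦ, hval],
      fun k a => ?_⟩
    · by_cases hk : k = k0
      · subst hk; rw [Pi.mulSingle_eq_same]; exact transvection_mem_tri hij hs t'
      · rw [Pi.mulSingle_eq_of_ne hk]; exact Subgroup.one_mem _
    · by_cases hra : r.val = sroot D b ((L.ch k).getD a 0)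
      · rcases hhit with ⟨a0, ha0, rfl, hpos⟩ | ⟨-, hne⟩
        swap
        · exact absurd hra (hne k a)
        have hnodes : (L.ch k).getD a 0 = (L.ch k0).getD a0 0 := by
          by_contra hne
          have h1 := rc_sroot_self hG hf hc b (hnode k a)
          rw [← hra, ha0, rc_sroot_of_ne hG hf hc b (hnode k0 a0) (hnode k a) hne, mul_zero] at h1
          omega
        obtain ⟨hk, haa⟩ := hV.nodes.2.2 k a k0 a0 hnodes
        obtain rfl : k = k0 := Fin.ext hk
        obtain rfl : a = a0 := Fin.ext haa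
        refine ⟨1, Subgroup.one_mem _, ?_⟩
        rw [Pi.mulSingle_eq_same, ent_transvection b hij _ rfl, if_pos, mul_one, ← hra]
        cases b <;> simpa [Fin.ext_iff] using hpos
      · refine ⟨xe hG r.val t, ?_, ?_⟩
        · refine xe_mem_rootGen hG (S := {s : Fin D.nroots | SPos D b s.val ∧ ¬ D.InRootSub {(L.ch k).getD a 0} s.val})
            ⟨hr, fun hin => ?_⟩ t
          obtain ⟨p, hp, hpn, e⟩ := root_orth hG hf hc (J := {(L.ch k).getD a 0})
            (fun p hp q hq _ _ hpq => absurd (hp.trans hq.symm) hpq) hr hin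
          rw [Set.mem_singleton_iff] at hpn
          exact hra (hpn ▸ e)
        · suffices h0 : ent b ⟨a.val, by omega⟩ ⟨a.val + 1, by omega⟩
              ((Pi.mulSingle k0 (SpecialLinearGroup.transvection hij t') : LProd F L) k) = 0 by
            rw [h0, xe_zero hG (sroot_lt hG hf hc b (hnode k a)), one_mul]
          by_cases hk : k = k0
          · subst hk
            rw [Pi.mulSingle_eq_same, ent_transvection b hij _ rfl, if_neg]
            intro hpos
            rcases hhit with ⟨a0, ha0, -, hpos0⟩ | ⟨hrt, -⟩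
            · obtain rfl : a = a0 := by
                refine Fin.ext ?_
                cases b <;> simp [Fin.ext_iff] at hpos hpos0 <;> omega
              exact hra ha0
            · -- the root of an adjacent position is fundamental
              refine hra ?_
              have hfirst : (chainRt D (L.ch k) i j).1 = sroot D b ((L.ch k).getD a 0) := by
                cases b
                · simp only [Bool.false_eq_true, if_false, Fin.ext_iff] at hpos
                  rw [hpos.1, hpos.2]
                  simp [chainRt, chainDown, sroot]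
                · simp only [if_true, Fin.ext_iff] at hpos
                  rw [hpos.1, hpos.2, chainRt_succ]
                  rfl
              rw [← hrt, hfirst]
          · rw [Pi.mulSingle_eq_of_ne hk, ent_one b rfl]
  · exact ⟨1, fun k => Subgroup.one_mem _, map_one _, fun k a => ⟨1, Subgroup.one_mem _, by
      rw [show (1 : LProd F L) k = 1 from rfl, ent_one b rfl,
        xe_zero hG (sroot_lt hG hf hc b (hnode k a)), one_mul]⟩⟩
  · rintro x y _ _ ⟨p, hp, hpx, hpc⟩ ⟨p', hp', hpy, hpc'⟩
    refine ⟨p * p', fun k => Subgroup.mul_mem _ (hp k) (hp' k), by rw [map_mul, hpx, hpy], fun k a => ?_⟩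
    obtain ⟨v, hv, e⟩ := hpc k a
    obtain ⟨v', hv', e'⟩ := hpc' k a
    set s := sroot D b ((L.ch k).getD a 0)
    have hs := sroot_lt hG hf hc b (hnode k a)
    set α := ent b (⟨a.val, by omega⟩ : Fin ((L.ch k).length + 1)) ⟨a.val + 1, by omega⟩ (p' k)
    refine ⟨xe hG s (-α) * v * (xe hG s (-α))⁻¹ * v', Subgroup.mul_mem _
      (rad_conj hG hf hc hs (Or.inl (spos_sroot hG hf hc b (hnode k a))) _ hv) hv', ?_⟩
    rw [show (p * p') k = p k * p' k from rfl, ent_mul rfl (hp k) (hp' k), e, e', ← xe_add hG hs, ← xe_inv hG hs]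
    simp only [s, α, mul_assoc, mul_inv_rev, inv_inv, inv_mul_cancel_left, mul_inv_cancel_left]
  · rintro x _ ⟨p, hp, hpx, hpc⟩
    refine ⟨p⁻¹, fun k => Subgroup.inv_mem _ (hp k), by rw [map_inv, hpx], fun k a => ?_⟩
    obtain ⟨v, hv, e⟩ := hpc k a
    set s := sroot D b ((L.ch k).getD a 0)
    have hs := sroot_lt hG hf hc b (hnode k a)
    set α := ent b (⟨a.val, by omega⟩ : Fin ((L.ch k).length + 1)) ⟨a.val + 1, by omega⟩ (p k)
    refine ⟨xe hG s α * v⁻¹ * (xe hG s α)⁻¹, rad_conj hG hf hc hs (Or.inl (spos_sroot hG hf hc b (hnode k a))) _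
      (Subgroup.inv_mem _ hv), ?_⟩
    rw [show p⁻¹ k = (p k)⁻¹ from rfl, ent_inv rfl (hp k), e, ← xe_inv hG hs]
    simp only [s, α, mul_assoc, mul_inv_rev, inv_inv, inv_mul_cancel_left, mul_inv_cancel_left]

end Cfsg.Agent.Thompson.Sides
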