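import Cfsg.Agent.Lib.Chev.ParabolicLevi
import Cfsg.Agent.Lib.Chev.BNCore
import Cfsg.Agent.Lib.Chev.RootProducts

/-!
The two opposite unipotent groups of a Chevalley group with their parabolic radicals and the coordinates at the
fundamental roots, uniformly in the sign.
-/

set_option autoImplicit false
set_option linter.unusedSectionVars false

namespace Cfsg.Agent.Thompson.Sides

open Cfsg.Lie Cfsg.Agent.Chev Cfsg.Agent.Chev.BNSetup

variable {F : Type*} [Field F] {D : ChevalleyDatum}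

/-- The sign. -/
def sg (b : Bool) : ℤ := if b then 1 else -1

/-- Roots of the side `b`. -/
def SPos (D : ChevalleyDatum) (b : Bool) (r : ℕ) : Prop :=
  r < D.nroots ∧ if b then D.nroots / 2 ≤ r else r < D.nroots / 2

/-- The fundamental root of the side `b` at the node `i`. -/
def sroot (D : ChevalleyDatum) (b : Bool) (i : ℕ) : ℕ := if b then D.simple i else D.neg (D.simple i)

theorem SPos.not_both {b : Bool} {r : ℕ} (h : SPos D b r) : ¬ SPos D (!b) r := by
  intro h'
  cases b <;> simp [SPos] at h h' <;> omega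

section groups

variable (hG : Good D) (F) (b : Bool) (J : Set ℕ)

/-- The unipotent group of the side. -/
def uni : Subgroup (GL D.Idx F) := rootGen hG F {r | SPos D b r.val}

/-- The radical. -/
def rad : Subgroup (GL D.Idx F) := rootGen hG F {r | SPos D b r.val ∧ ¬ D.InRootSub J r.val}

/-- The Levi part of the unipotent group. -/
def lev : Subgroup (GL D.Idx F) := rootGen hG F {r | SPos D b r.val ∧ D.InRootSub J r.val}

end groups

variable (hG : Good D) {tabs simps : List ℕ} (hf : Facts D tabs simps) {M : List (List ℤ)}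
  (hc : CoefFacts D M tabs)
include hG hf hc

theorem spos_iff {b : Bool} {r : ℕ} :
    SPos D b r ↔ r < D.nroots ∧ ∃ i < D.rank, 0 < sg b * rc D M i r := by
  have key : ∀ r, r < D.nroots → (D.nroots / 2 ≤ r ↔ ∃ i < D.rank, 0 < rc D M i r) := by
    intro r hr
    refine ⟨fun h => ?_, fun ⟨i, hi, hp⟩ => (pos_iff hf hr).1 (isPosRoot_of_rc_pos hf hc hr hi hp)⟩
    obtain ⟨i, hi, hci, -⟩ := hc.2 r hr h
    exact ⟨i, hi, (hc.1 i hi r hr).1.2 hci⟩
  cases b
  · simp only [SPos, sg, Bool.false_eq_true, if_false]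
    refine and_congr_right fun hr => ?_
    have h1 := key (D.neg r) (hG.neg_lt hr)
    have h2 : D.nroots / 2 ≤ D.neg r ↔ r < D.nroots / 2 := by
      rw [neg_eq hf hr]; have := hf.1; omega
    rw [← h2, h1]
    simp only [rc_neg hG hr, neg_mul, one_mul]
  · simp only [SPos, sg, if_true, one_mul]
    exact and_congr_right fun hr => key r hr

theorem sg_nonneg {b : Bool} {r i : ℕ} (h : SPos D b r) (hi : i < D.rank) : 0 ≤ sg b * rc D M i r := by
  cases b
  · simp only [SPos, Bool.false_eq_true, if_false] at h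
    have := rc_nonpos hf hc h.1 (fun hp => by have := (pos_iff hf h.1).1 hp; omega) hi
    simp only [sg, Bool.false_eq_true, if_false, neg_mul, one_mul]
    omega
  · simp only [SPos, if_true] at h
    simpa [sg] using rc_nonneg hf hc ((pos_iff hf h.1).2 h.2) hi

theorem exists_off {b : Bool} {J : Set ℕ} {r : ℕ} (h : SPos D b r) (hJ : ¬ D.InRootSub J r) :
    ∃ i < D.rank, i ∉ J ∧ 0 < sg b * rc D M i r := by
  by_contra hno
  push Not at hno
  refine hJ ((inRootSub_iff (M := M) hc).2 ⟨h.1, fun i hi hiJ => ?_⟩)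
  have h1 := sg_nonneg hG hf hc h hi
  have h2 := hno i hi hiJ
  cases b <;> simp [sg] at h1 h2 <;> omega

theorem spos_sroot (b : Bool) {i : ℕ} (hi : i < D.rank) : SPos D b (sroot D b i) := by
  have h1 := (hf.2.2.2.2.1 i hi).2.1
  cases b
  · simp only [SPos, sroot, Bool.false_eq_true, if_false]
    refine ⟨hG.neg_lt (hG.simple_lt hi), ?_⟩
    rw [neg_eq hf (hG.simple_lt hi)]
    have := hf.1
    have := hG.simple_lt hi
    omega
  · exact ⟨hG.simple_lt hi, h1⟩

theorem sroot_lt (b : Bool) {i : ℕ} (hi : i < D.rank) : sroot D b i < D.nroots :=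
  (spos_sroot hG hf hc b hi).1

theorem neg_sroot (b : Bool) {i : ℕ} (hi : i < D.rank) : D.neg (sroot D b i) = sroot D (!b) i := by
  cases b
  · exact hG.neg_neg (hG.simple_lt hi)
  · rfl

theorem inRootSub_sroot (b : Bool) {J : Set ℕ} {i : ℕ} (hi : i < D.rank) (hJ : i ∈ J) :
    D.InRootSub J (sroot D b i) := by
  cases b
  · exact inRootSub_neg hG hf hc (inRootSub_simple hG hf hc hi hJ)
  · exact inRootSub_simple hG hf hc hi hJ

theorem rc_sroot_self (b : Bool) {i : ℕ} (hi : i < D.rank) : 0 < sg b * rc D M i (sroot D b i) := by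
  obtain ⟨-, k, hk, hpos⟩ := (spos_iff hG hf hc).1 (spos_sroot hG hf hc b hi)
  by_cases hki : k = i
  · exact hki ▸ hpos
  · have := ((inRootSub_iff (M := M) hc).1 (inRootSub_sroot hG hf hc b (J := {i}) hi rfl)).2 k hk hki
    rw [this, mul_zero] at hpos
    omega

theorem rc_sroot_of_ne (b : Bool) {i j : ℕ} (hi : i < D.rank) (hj : j < D.rank) (h : j ≠ i) :
    rc D M j (sroot D b i) = 0 :=
  ((inRootSub_iff (M := M) hc).1 (inRootSub_sroot hG hf hc b (J := {i}) hi rfl)).2 j hj h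

/-- Root subgroups supported on pairwise orthogonal nodes are fundamental. -/
theorem root_orth {J : Set ℕ} (hJ : ∀ i ∈ J, ∀ j ∈ J, i < D.rank → j < D.rank → i ≠ j → D.cartan i (D.simple j) = 0)
    {b : Bool} {r : ℕ} (hr : SPos D b r) (h : D.InRootSub J r) :
    ∃ i, i < D.rank ∧ i ∈ J ∧ r = sroot D b i := by
  let P : ℕ → Prop := fun r => ∃ i, i < D.rank ∧ i ∈ J ∧ (r = D.simple i ∨ r = D.neg (D.simple i))
  have hd : ∀ r, D.IsPosRoot r → D.InRootSub J r → P r := by
    refine descent hG hf hc (P := P) (fun j hj hjJ => ⟨j, hj, hjJ, Or.inl rfl⟩) ?_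
    rintro i hi hiJ s - ⟨j, hj, hjJ, hs⟩
    by_cases hij : i = j
    · subst hij
      refine ⟨i, hi, hiJ, ?_⟩
      rcases hs with rfl | rfl
      · exact Or.inr (hf.2.2.2.2.1 i hi).2.2.2.2
      · refine Or.inl ?_
        rw [hG.reflectRoot_neg hi (hG.simple_lt hi), (hf.2.2.2.2.1 i hi).2.2.2.2, hG.neg_neg (hG.simple_lt hi)]
    refine ⟨j, hj, hjJ, ?_⟩
    have hsl : D.simple j < D.nroots := hG.simple_lt hj
    have key : D.reflectRoot i (D.simple j) = D.simple j := by
      have h0 := hJ i hiJ j hjJ hi hj hij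
      have h1 : D.simple j ≠ D.simple i := fun h => hij ((hf.2.2.2.2.1 i hi).2.2.1 j hj h.symm)
      have h2 : D.simple j ≠ D.neg (D.simple i) := fun h => by
        have h3 := spos_sroot hG hf hc true hj
        have h4 := spos_sroot hG hf hc false hi
        simp only [sroot, if_true, Bool.false_eq_true, if_false] at h3 h4
        exact h3.not_both (by rwa [h])
      simp [ChevalleyDatum.reflectRoot, h0, h1, h2]
    rcases hs with rfl | rfl
    · exact Or.inl key
    · exact Or.inr (by rw [hG.reflectRoot_neg hi hsl, key])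
  cases b
  · have hn : D.IsPosRoot (D.neg r) := (pos_iff hf (hG.neg_lt hr.1)).2 (by
      have := hr.2
      simp only [Bool.false_eq_true, if_false] at this
      rw [neg_eq hf hr.1]
      have := hf.1
      omega)
    obtain ⟨i, hi, hiJ, he | he⟩ := hd _ hn (inRootSub_neg hG hf hc h)
    · exact ⟨i, hi, hiJ, by rw [sroot, if_neg (by simp), ← he, hG.neg_neg hr.1]⟩
    · exfalso
      have := spos_sroot hG hf hc false hi
      rw [sroot, if_neg (by simp), ← he] at this
      exact ((show SPos D true (D.neg r) from ⟨hG.neg_lt hr.1, (pos_iff hf (hG.neg_lt hr.1)).1 hn⟩)).not_both this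
  · obtain ⟨i, hi, hiJ, he | he⟩ := hd r ((pos_iff hf hr.1).2 hr.2) h
    · exact ⟨i, hi, hiJ, he⟩
    · exfalso
      exact hr.not_both (he ▸ spos_sroot hG hf hc false hi)

omit hc in
theorem xe_comm_terms {r s : ℕ} (hr : r < D.nroots) (hs : s < D.nroots) (h1 : s ≠ r) (h2 : s ≠ D.neg r) (t u : F)
    {K : Subgroup (GL D.Idx F)} (hK : ∀ x ∈ D.commTerms r s, ∀ v : F, xe hG x.1 v ∈ K) :
    ∃ g ∈ K, xe hG s u * xe hG r t = xe hG r t * xe hG s u * g := by
  have hw : ∀ wd : List (ℕ × F), (∀ l ∈ wd, ∀ v : F, xe hG l.1 v ∈ K) →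
      ∃ g : GL D.Idx F, g ∈ K ∧ (g : Matrix D.Idx D.Idx F) = D.wordMat F wd := by
    intro wd
    induction wd with
    | nil => intro _; exact ⟨1, K.one_mem, by simp [ChevalleyDatum.wordMat]⟩
    | cons l wd ih =>
      intro hl
      obtain ⟨g, hg, he⟩ := ih fun x hx => hl x (List.mem_cons_of_mem _ hx)
      exact ⟨xe hG l.1 l.2 * g, K.mul_mem (hl l List.mem_cons_self _) hg, by
        simp [ChevalleyDatum.wordMat, coe_xe, he]⟩
  obtain ⟨g, hg, hge⟩ := hw (D.commWord F r s t u) (fun l hl => by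
    simp only [ChevalleyDatum.commWord, List.mem_map] at hl
    obtain ⟨x, hx, rfl⟩ := hl
    exact hK x hx)
  exact ⟨g, hg, Units.ext (by simp [coe_xe, hG.comm_formula hr hs h1 h2 t u, hge])⟩

theorem sroot_commute (b : Bool) {i j : ℕ} (hi : i < D.rank) (hj : j < D.rank) (hij : i ≠ j) (t u : F) :
    Commute (xe hG (sroot D b i) t) (xe hG (sroot D (!b) j) u) := by
  have h1 : sroot D (!b) j ≠ sroot D b i := fun h =>
    (spos_sroot hG hf hc b hi).not_both (h ▸ spos_sroot hG hf hc (!b) hj)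
  have h2 : sroot D (!b) j ≠ D.neg (sroot D b i) := by
    rw [neg_sroot hG hf hc b hi]
    intro h
    have h3 := rc_sroot_self hG hf hc (!b) hj
    rw [h, rc_sroot_of_ne hG hf hc (!b) hi hj hij.symm, mul_zero] at h3
    omega
  obtain ⟨g, hg, e⟩ := xe_comm_terms hG hf (K := ⊥) (sroot_lt hG hf hc b hi) (sroot_lt hG hf hc (!b) hj) h1 h2 t u
    (fun x hx => by
      exfalso
      obtain ⟨a, c, ha, hc', e⟩ := rc_commTerms (M := M) hG (sroot_lt hG hf hc b hi) (sroot_lt hG hf hc (!b) hj) hx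
      have hx1 : SPos D b x.1 := (spos_iff hG hf hc).2 ⟨hG.commTerms_lt (sroot_lt hG hf hc b hi)
        (sroot_lt hG hf hc (!b) hj) hx, i, hi, by
          rw [e i, rc_sroot_of_ne hG hf hc (!b) hj hi hij, mul_zero, add_zero, ← mul_assoc, mul_comm (sg b), mul_assoc]
          exact mul_pos (by exact_mod_cast ha) (rc_sroot_self hG hf hc b hi)⟩
      have hx2 : SPos D (!b) x.1 := (spos_iff hG hf hc).2 ⟨hx1.1, j, hj, by
          rw [e j, rc_sroot_of_ne hG hf hc b hi hj hij.symm, mul_zero, zero_add, ← mul_assoc, mul_comm (sg (!b)),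
            mul_assoc]
          exact mul_pos (by exact_mod_cast hc') (rc_sroot_self hG hf hc (!b) hj)⟩
      exact hx1.not_both hx2)
  rw [Subgroup.mem_bot] at hg
  rw [hg, mul_one] at e
  exact e.symm

theorem sroot_commute_orth (b : Bool) {i j : ℕ} (hi : i < D.rank) (hj : j < D.rank) (hij : i ≠ j)
    (h0 : D.cartan i (D.simple j) = 0) (h0' : D.cartan j (D.simple i) = 0) (t u : F) :
    Commute (xe hG (sroot D b i) t) (xe hG (sroot D b j) u) := by
  have h1 : sroot D b j ≠ sroot D b i := fun h => by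
    have h3 := rc_sroot_self hG hf hc b hj
    rw [h, rc_sroot_of_ne hG hf hc b hi hj hij.symm, mul_zero] at h3
    omega
  have h2 : sroot D b j ≠ D.neg (sroot D b i) := by
    rw [neg_sroot hG hf hc b hi]
    intro h
    exact (spos_sroot hG hf hc b hj).not_both (h ▸ spos_sroot hG hf hc (!b) hi)
  obtain ⟨g, hg, e⟩ := xe_comm_terms hG hf (K := ⊥) (sroot_lt hG hf hc b hi) (sroot_lt hG hf hc b hj) h1 h2 t u
    (fun x hx => by
      exfalso
      have hrl := sroot_lt hG hf hc b hi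
      have hsl := sroot_lt hG hf hc b hj
      obtain ⟨a, c, ha, hc', e⟩ := rc_commTerms (M := M) hG hrl hsl hx
      have ei : 0 < sg b * rc D M i x.1 := by
        rw [e i, rc_sroot_of_ne hG hf hc b hj hi hij, mul_zero, add_zero, ← mul_assoc, mul_comm (sg b), mul_assoc]
        exact mul_pos (by exact_mod_cast ha) (rc_sroot_self hG hf hc b hi)
      have ej : 0 < sg b * rc D M j x.1 := by
        rw [e j, rc_sroot_of_ne hG hf hc b hi hj hij.symm, mul_zero, zero_add, ← mul_assoc, mul_comm (sg b), mul_assoc]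
        exact mul_pos (by exact_mod_cast hc') (rc_sroot_self hG hf hc b hj)
      have hx1 : SPos D b x.1 := (spos_iff hG hf hc).2 ⟨hG.commTerms_lt hrl hsl hx, i, hi, ei⟩
      obtain ⟨k, hk, hkJ, hxk⟩ := root_orth hG hf hc (J := {i, j}) (fun p hp q hq _ _ hpq => by
          rcases hp with rfl | rfl <;> rcases hq with rfl | rfl
          · exact absurd rfl hpq
          · exact h0
          · exact h0'
          · exact absurd rfl hpq) hx1 ((inRootSub_iff (M := M) hc).2 ⟨hx1.1, fun k hk hkJ => by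
            simp only [Set.mem_insert_iff, Set.mem_singleton_iff, not_or] at hkJ
            rw [e k, rc_sroot_of_ne hG hf hc b hi hk hkJ.1, rc_sroot_of_ne hG hf hc b hj hk hkJ.2]
            ring⟩)
      rw [hxk] at ei ej
      rcases hkJ with rfl | rfl
      · rw [rc_sroot_of_ne hG hf hc b hk hj hij.symm, mul_zero] at ej
        omega
      · rw [rc_sroot_of_ne hG hf hc b hk hi hij, mul_zero] at ei
        omega)
  rw [Subgroup.mem_bot] at hg
  rw [hg, mul_one] at e
  exact e.symm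

omit hf hc in
theorem xe_mem_uni {b : Bool} {r : ℕ} (hr : SPos D b r) (t : F) : xe hG r t ∈ uni F hG b :=
  xe_mem_rootGen hG (r := ⟨r, hr.1⟩) hr t

theorem uni_true : uni F hG true = D.posUnipotent F := by
  refine le_antisymm ?_ ?_
  · rw [uni, rootGen, Subgroup.closure_le]
    rintro _ ⟨r, hr, t, rfl⟩
    exact Subgroup.subset_closure ⟨r, t, (pos_iff hf r.2).2 hr.2, rfl⟩
  · rw [ChevalleyDatum.posUnipotent, Subgroup.closure_le]
    rintro g ⟨r, t, hr, hg⟩
    rw [eq_xe hG hg]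
    exact xe_mem_uni hG (b := true) ⟨hr.1, (pos_iff hf hr.1).1 hr⟩ t

theorem uni_false : uni F hG false = D.negUnipotent F := by
  refine le_antisymm ?_ ?_
  · rw [uni, rootGen, Subgroup.closure_le]
    rintro _ ⟨r, hr, t, rfl⟩
    exact Subgroup.subset_closure ⟨r, t, ((hf.2.2.1 r r.2).2.2.1).2 hr.2, rfl⟩
  · rw [ChevalleyDatum.negUnipotent, Subgroup.closure_le]
    rintro g ⟨r, t, hr, hg⟩
    rw [eq_xe hG hg]
    exact xe_mem_uni hG (b := false) ⟨hr.1, ((hf.2.2.1 r hr.1).2.2.1).1 hr⟩ t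

theorem uni_le_group (b : Bool) : uni F hG b ≤ D.group F := by
  rw [uni, rootGen, Subgroup.closure_le]
  rintro _ ⟨r, -, t, rfl⟩
  exact xe_mem_group hG r.2 t

omit hf hc in
theorem rootGen_H {S : Set (Fin D.nroots)} {h g : GL D.Idx F} (hh : h ∈ D.diagonalSubgroup F)
    (hg : g ∈ rootGen hG F S) : h * g * h⁻¹ ∈ rootGen hG F S := by
  refine (show rootGen hG F S ≤ (rootGen hG F S).comap (MulAut.conj h).toMonoidHom from ?_) hg
  conv_lhs => rw [rootGen]
  rw [Subgroup.closure_le]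
  rintro _ ⟨r, hr, t, rfl⟩
  obtain ⟨v, hv⟩ := (mem_rootSubgroup hG r.2).1
    (normalisesAll_H hG hh r r.2 _ ((mem_rootSubgroup hG r.2).2 ⟨t, rfl⟩))
  show h * xe hG r.val t * h⁻¹ ∈ rootGen hG F S
  rw [hv]
  exact xe_mem_rootGen hG hr v

omit hc in
/-- A root element normalises a set of roots closed under its commutator terms. -/
theorem rootGen_conj {r : ℕ} (hr : r < D.nroots) {S : Set (Fin D.nroots)} (hn : ∀ s ∈ S, s.val ≠ D.neg r)
    (hS : ∀ s ∈ S, ∀ x ∈ D.commTerms r s.val, ∀ h : x.1 < D.nroots, (⟨x.1, h⟩ : Fin D.nroots) ∈ S) (t : F)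
    {g : GL D.Idx F} (hg : g ∈ rootGen hG F S) : xe hG r t * g * (xe hG r t)⁻¹ ∈ rootGen hG F S := by
  refine (show rootGen hG F S ≤ (rootGen hG F S).comap (MulAut.conj (xe hG r t)).toMonoidHom from ?_) hg
  conv_lhs => rw [rootGen]
  rw [Subgroup.closure_le]
  rintro _ ⟨s, hs, u, rfl⟩
  show xe hG r t * xe hG s.val u * (xe hG r t)⁻¹ ∈ rootGen hG F S
  by_cases hrs : s.val = r
  · rw [← hrs, xe_add hG s.2, add_comm, ← xe_add hG s.2, mul_inv_cancel_right]
    exact xe_mem_rootGen hG hs u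
  obtain ⟨z, hz, e⟩ := xe_comm_terms hG hf (K := rootGen hG F S) hr s.2 hrs (hn s hs) (-t) u (fun x hx v =>
    xe_mem_rootGen hG (hS s hs x hx (hG.commTerms_lt hr s.2 hx)) v)
  rw [xe_inv hG hr, mul_assoc, e, mul_assoc, ← mul_assoc (xe hG r t), xe_add hG hr, add_neg_cancel, xe_zero hG hr,
    one_mul]
  exact Subgroup.mul_mem _ (xe_mem_rootGen hG hs u) hz

/-- The roots of `J` and those of the side normalise the radical. -/
theorem rad_conj {b : Bool} {J : Set ℕ} {r : ℕ} (hr : r < D.nroots) (h : SPos D b r ∨ D.InRootSub J r) (t : F)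
    {g : GL D.Idx F} (hg : g ∈ rad F hG b J) : xe hG r t * g * (xe hG r t)⁻¹ ∈ rad F hG b J := by
  refine rootGen_conj hG hf hr ?_ ?_ t hg
  · rintro s ⟨hs, hsJ⟩ hsr
    obtain ⟨i, hi, hiJ, hp⟩ := exists_off hG hf hc hs hsJ
    rw [hsr, rc_neg hG hr] at hp
    rcases h with h | h
    · have := sg_nonneg hG hf hc h hi
      rw [mul_neg] at hp
      omega
    · rw [((inRootSub_iff (M := M) hc).1 h).2 i hi hiJ] at hp
      simp at hp
  · rintro s ⟨hs, hsJ⟩ x hx hlt
    obtain ⟨i, hi, hiJ, hp⟩ := exists_off hG hf hc hs hsJ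
    obtain ⟨a, c, -, hc', e⟩ := rc_commTerms (M := M) hG hr s.2 hx
    have hnn : 0 ≤ sg b * rc D M i r := by
      rcases h with h | h
      · exact sg_nonneg hG hf hc h hi
      · rw [((inRootSub_iff (M := M) hc).1 h).2 i hi hiJ, mul_zero]
    have hpx : 0 < sg b * rc D M i x.1 := by
      rw [e i, mul_add, mul_left_comm, mul_left_comm (sg b)]
      have : (0 : ℤ) < (c : ℤ) * (sg b * rc D M i s.val) := mul_pos (by exact_mod_cast hc') hp
      positivity
    refine ⟨(spos_iff hG hf hc).2 ⟨hlt, i, hi, hpx⟩, fun hxJ => ?_⟩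
    rw [((inRootSub_iff (M := M) hc).1 hxJ).2 i hi hiJ, mul_zero] at hpx
    omega

theorem rad_le_uni (b : Bool) (J : Set ℕ) : rad F hG b J ≤ uni F hG b := rootGen_mono hG fun _ h => h.1

theorem lev_le_uni (b : Bool) (J : Set ℕ) : lev F hG b J ≤ uni F hG b := rootGen_mono hG fun _ h => h.1

theorem uni_le_normalizer (b : Bool) (J : Set ℕ) :
    uni F hG b ≤ Subgroup.normalizer (rad F hG b J : Set (GL D.Idx F)) := by
  rw [uni, rootGen, Subgroup.closure_le]
  rintro _ ⟨r, hr, t, rfl⟩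
  refine Subgroup.mem_normalizer_iff.2 fun v => ⟨fun hv => rad_conj hG hf hc r.2 (Or.inl hr) t hv, fun hv => ?_⟩
  have := rad_conj hG hf hc (J := J) r.2 (Or.inl hr) (-t) hv
  rw [← xe_inv hG r.2] at this
  simpa [mul_assoc] using this

/-- The decomposition of the side. -/
theorem exists_split (b : Bool) (J : Set ℕ) {u : GL D.Idx F} (hu : u ∈ uni F hG b) :
    ∃ l ∈ lev F hG b J, ∃ v ∈ rad F hG b J, u = l * v := by
  classical
  have hle : uni F hG b ≤ lev F hG b J ⊔ rad F hG b J := by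
    rw [uni, rootGen, Subgroup.closure_le]
    rintro _ ⟨r, hr, t, rfl⟩
    by_cases hJ : D.InRootSub J r.val
    · exact Subgroup.mem_sup_left (xe_mem_rootGen hG (S := {s : Fin D.nroots | SPos D b s.val ∧ D.InRootSub J s.val}) ⟨hr, hJ⟩ t)
    · exact Subgroup.mem_sup_right (xe_mem_rootGen hG (S := {s : Fin D.nroots | SPos D b s.val ∧ ¬ D.InRootSub J s.val}) ⟨hr, hJ⟩ t)
  have hn : lev F hG b J ≤ Subgroup.normalizer (rad F hG b J : Set (GL D.Idx F)) :=
    (lev_le_uni hG hf hc b J).trans (uni_le_normalizer hG hf hc b J)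
  have h1 := hle hu
  rw [← SetLike.mem_coe, Subgroup.coe_mul_of_left_le_normalizer_right _ _ hn, Set.mem_mul] at h1
  obtain ⟨l, hl, v, hv, e⟩ := h1
  exact ⟨l, hl, v, hv, e.symm⟩

theorem lev_singleton (b : Bool) {i : ℕ} (hi : i < D.rank) {g : GL D.Idx F} (hg : g ∈ lev F hG b {i}) :
    ∃ a : F, g = xe hG (sroot D b i) a := by
  have : lev F hG b {i} ≤ D.rootSubgroup F (sroot D b i) := by
    rw [lev, rootGen, Subgroup.closure_le]
    rintro _ ⟨r, ⟨hr, hJ⟩, t, rfl⟩
    obtain ⟨k, hk, hki, e⟩ := root_orth hG hf hc (J := {i}) (fun p hp q hq _ _ hpq =>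
      absurd (hp.trans hq.symm) hpq) hr hJ
    rw [Set.mem_singleton_iff] at hki
    subst hki
    exact (mem_rootSubgroup hG (sroot_lt hG hf hc b hk)).2 ⟨t, by rw [e]⟩
  exact (mem_rootSubgroup hG (sroot_lt hG hf hc b hi)).1 (this hg)

theorem exists_coord (b : Bool) {i : ℕ} (hi : i < D.rank) {u : GL D.Idx F} (hu : u ∈ uni F hG b) :
    ∃ a : F, ∃ v ∈ rad F hG b {i}, u = xe hG (sroot D b i) a * v := by
  obtain ⟨l, hl, v, hv, e⟩ := exists_split hG hf hc b {i} hu
  obtain ⟨a, rfl⟩ := lev_singleton hG hf hc b hi hl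
  exact ⟨a, v, hv, e⟩

theorem sroot_mem_rad (b : Bool) {i j : ℕ} (hi : i < D.rank) (hij : i ≠ j) (a : F) :
    xe hG (sroot D b i) a ∈ rad F hG b {j} := by
  refine xe_mem_rootGen hG (S := {s : Fin D.nroots | SPos D b s.val ∧ ¬ D.InRootSub {j} s.val})
    (r := ⟨sroot D b i, sroot_lt hG hf hc b hi⟩) ⟨spos_sroot hG hf hc b hi, fun h => ?_⟩ a
  have h1 := rc_sroot_self hG hf hc b hi
  rw [((inRootSub_iff (M := M) hc).1 h).2 i hi hij, mul_zero] at h1
  omega

end Cfsg.Agent.Thompson.Sides
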