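import Mathlib

/-!
The parabolic product trick: if `x` normalises a finite subgroup `V` and centralises no nontrivial element of it, all of
`V x` is conjugate to `x`; so `v l u` is a product of a conjugate of `x` and one of `y` as soon as the Levi part `l` is.
-/

set_option autoImplicit false

namespace Cfsg.Agent.Thompson

variable {G : Type*} [Group G]

/-- `x` normalises `V` and fixes no nontrivial element of it. -/
structure FixFree (V : Subgroup G) (x : G) : Prop where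
  norm_mem : ∀ v ∈ V, x * v * x⁻¹ ∈ V
  eq_one : ∀ v ∈ V, x * v = v * x → v = 1

/-- `V x` is contained in the class of `x`. -/
theorem FixFree.exists_conj_left {V : Subgroup G} [Finite V] {x : G} (h : FixFree V x) {v : G} (hv : v ∈ V) :
    ∃ w : G, v * x = w * x * w⁻¹ := by
  let f : V → V := fun w => ⟨(w : G) * (x * (w : G)⁻¹ * x⁻¹), V.mul_mem w.2 (h.norm_mem _ (V.inv_mem w.2))⟩
  have hf : Function.Injective f := by
    intro a b hab
    have hab' : (a : G) * (x * (a : G)⁻¹ * x⁻¹) = b * (x * (b : G)⁻¹ * x⁻¹) := congrArg Subtype.val hab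
    have h1 : x * ((b : G)⁻¹ * a) = (b : G)⁻¹ * a * x := by
      calc x * ((b : G)⁻¹ * a) = (b : G)⁻¹ * ((b : G) * (x * (b : G)⁻¹ * x⁻¹)) * (x * a) := by group
        _ = (b : G)⁻¹ * ((a : G) * (x * (a : G)⁻¹ * x⁻¹)) * (x * a) := by rw [hab']
        _ = _ := by group
    exact Subtype.ext (inv_mul_eq_one.1 (h.eq_one _ (V.mul_mem (V.inv_mem b.2) a.2) h1)).symm
  obtain ⟨w, hw⟩ := (Finite.injective_iff_surjective.1 hf) ⟨v, hv⟩
  refine ⟨w, ?_⟩
  have hw' : (w : G) * (x * (w : G)⁻¹ * x⁻¹) = v := congrArg Subtype.val hw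
  rw [← hw']
  group

theorem FixFree.inv {V : Subgroup G} [Finite V] {x : G} (h : FixFree V x) : FixFree V x⁻¹ where
  norm_mem := by
    intro v hv
    let f : V → V := fun w => ⟨x * (w : G) * x⁻¹, h.norm_mem _ w.2⟩
    have hf : Function.Injective f := fun a b hab =>
      Subtype.ext (mul_left_cancel (mul_right_cancel (congrArg Subtype.val hab)))
    obtain ⟨w, hw⟩ := (Finite.injective_iff_surjective.1 hf) ⟨v, hv⟩
    have hw' : x * (w : G) * x⁻¹ = v := congrArg Subtype.val hw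
    have : x⁻¹ * v * x⁻¹⁻¹ = w := by rw [← hw']; group
    exact this ▸ w.2
  eq_one v hv hc := h.eq_one v hv (by
    calc x * v = x * (v * x⁻¹) * x := by group
      _ = x * (x⁻¹ * v) * x := by rw [hc]
      _ = v * x := by group)

/-- `x U` is contained in the class of `x`. -/
theorem FixFree.exists_conj_right {V : Subgroup G} [Finite V] {x : G} (h : FixFree V x) {v : G} (hv : v ∈ V) :
    ∃ w : G, x * v = w * x * w⁻¹ := by
  obtain ⟨w, hw⟩ := h.exists_conj_left (h.norm_mem v hv)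
  exact ⟨w, by rw [← hw]; group⟩

theorem FixFree.conj {V : Subgroup G} {x a : G} (h : FixFree V x) (ha : ∀ v, v ∈ V ↔ a * v * a⁻¹ ∈ V) :
    FixFree V (a * x * a⁻¹) where
  norm_mem v hv := by
    have h1 : a⁻¹ * v * a ∈ V := (ha _).2 (by rwa [show a * (a⁻¹ * v * a) * a⁻¹ = v by group])
    rw [show a * x * a⁻¹ * v * (a * x * a⁻¹)⁻¹ = a * (x * (a⁻¹ * v * a) * x⁻¹) * a⁻¹ by group]
    exact (ha _).1 (h.norm_mem _ h1)
  eq_one v hv hc := by
    have h1 : a⁻¹ * v * a ∈ V := (ha _).2 (by rwa [show a * (a⁻¹ * v * a) * a⁻¹ = v by group])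
    have h2 : x * (a⁻¹ * v * a) = a⁻¹ * v * a * x := by
      calc x * (a⁻¹ * v * a) = a⁻¹ * (a * x * a⁻¹ * v) * a := by group
        _ = a⁻¹ * (v * (a * x * a⁻¹)) * a := by rw [hc]
        _ = _ := by group
    have h3 : a⁻¹ * v * a = 1 := h.eq_one _ h1 h2
    calc v = a * (a⁻¹ * v * a) * a⁻¹ := by group
      _ = 1 := by rw [h3]; group

/-- **The trick**: `v l u ∈ x^G y^G` whenever `l ∈ x^{N(V)} y^{N(U)}`. -/
theorem mem_product {V U : Subgroup G} [Finite V] [Finite U] {x y : G} (hx : FixFree V x) (hy : FixFree U y)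
    {v l u a b : G} (hv : v ∈ V) (hu : u ∈ U) (ha : ∀ z, z ∈ V ↔ a * z * a⁻¹ ∈ V)
    (hb : ∀ z, z ∈ U ↔ b * z * b⁻¹ ∈ U) (hl : l = a * x * a⁻¹ * (b * y * b⁻¹)) :
    ∃ p q : G, v * l * u = p * x * p⁻¹ * (q * y * q⁻¹) := by
  obtain ⟨w, hw⟩ := (hx.conj ha).exists_conj_left hv
  obtain ⟨z, hz⟩ := (hy.conj hb).exists_conj_right hu
  refine ⟨w * a, z * b, ?_⟩
  calc v * l * u = (v * (a * x * a⁻¹)) * ((b * y * b⁻¹) * u) := by rw [hl]; group
    _ = _ := by rw [hw, hz]; group

end Cfsg.Agent.Thompson
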