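import Cfsg.Agent.Lib.Thompson.ChevLevi
import Cfsg.Agent.Lib.Thompson.Trick

/-!
A Chevalley group over a field with at least nine elements with a Levi certificate is the square of a class.
-/

set_option autoImplicit false
set_option linter.unusedSectionVars false

namespace Cfsg.Agent.Thompson.Sides

open Cfsg.Lie Cfsg.Agent.Chev Cfsg.Agent.Chev.BNSetup
open Matrix (SpecialLinearGroup)
open Cfsg.Agent.Thompson.UnipMatrix Cfsg.Agent.Thompson.LeviMat

variable {F : Type*} [Field F] {D : ChevalleyDatum}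

theorem torusChar_zpow (t : Fˣ) (g : Fin D.rank → ℤ) (r : ℕ) :
    torusChar D (fun i => t ^ g i) r = t ^ (∑ i, g i * D.cartan i.val r) := by
  rw [torusChar, zpow_finset_sum]
  exact Finset.prod_congr rfl fun i _ => (zpow_mul _ _ _).symm

variable (hG : Good D) {tabs simps : List ℕ} (hf : Facts D tabs simps) {M : List (List ℤ)}
  (hc : CoefFacts D M tabs) {L : LeviCert} (hV : L.Valid D tabs M)

/-- The group in which the product is solved. -/
def LN (F : Type*) [Field F] (J : Set ℕ) (z : GL D.Idx F) : Subgroup (GL D.Idx F) :=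
  D.group F ⊓ Subgroup.normalizer (rad F hG true J : Set (GL D.Idx F)) ⊓
    Subgroup.normalizer (rad F hG false J : Set (GL D.Idx F)) ⊓ Subgroup.centralizer {z}

include hG hf hc

theorem LN.mem {J : Set ℕ} {z g : GL D.Idx F} (h : g ∈ LN hG F J z) :
    g ∈ D.group F ∧ (∀ b v, v ∈ rad F hG b J ↔ g * v * g⁻¹ ∈ rad F hG b J) ∧ g * z = z * g := by
  simp only [LN, Subgroup.mem_inf] at h
  refine ⟨h.1.1.1, fun b v => ?_, Subgroup.mem_centralizer_singleton_iff.1 h.2⟩
  cases b
  · exact Subgroup.mem_normalizer_iff.1 h.1.2 v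
  · exact Subgroup.mem_normalizer_iff.1 h.1.1.2 v

theorem LN.of {J : Set ℕ} {z g : GL D.Idx F} (h1 : g ∈ D.group F)
    (h2 : ∀ b v, v ∈ rad F hG b J ↔ g * v * g⁻¹ ∈ rad F hG b J) (h3 : g * z = z * g) : g ∈ LN hG F J z := by
  simp only [LN, Subgroup.mem_inf]
  exact ⟨⟨⟨h1, Subgroup.mem_normalizer_iff.2 (h2 true)⟩, Subgroup.mem_normalizer_iff.2 (h2 false)⟩,
    Subgroup.mem_centralizer_singleton_iff.2 h3⟩

theorem LN.root {J : Set ℕ} (c : Fin D.rank → Fˣ) {r : ℕ} (hr : r < D.nroots) (hJ : D.InRootSub J r)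
    (hχ : torusChar D c r = 1) (t : F) : xe hG r t ∈ LN hG F J (torusHom F D c) := by
  refine LN.of hG hf hc (xe_mem_group hG hr t) (fun b v => ⟨fun hv => rad_conj hG hf hc hr (Or.inr hJ) t hv,
    fun hv => ?_⟩) ?_
  · have := rad_conj hG hf hc (b := b) (J := J) hr (Or.inr hJ) (-t) hv
    rw [← xe_inv hG hr] at this
    simpa [mul_assoc] using this
  · have h := torusHom_conj hG c r hr t
    rw [hχ, Units.val_one, one_mul, mul_inv_eq_iff_eq_mul] at h
    exact h.symm

theorem LN.torus {J : Set ℕ} (c c' : Fin D.rank → Fˣ) : torusHom F D c' ∈ LN hG F J (torusHom F D c) := by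
  refine LN.of hG hf hc (torus_mem_group hG hf hc c') (fun b v => ⟨fun hv => rootGen_H hG (torus_mem_H hG hf hc c') hv,
    fun hv => ?_⟩) (by rw [← map_mul, ← map_mul, mul_comm])
  have h : (torusHom F D c')⁻¹ * (torusHom F D c' * v * (torusHom F D c')⁻¹) * (torusHom F D c')⁻¹⁻¹ ∈
      rad F hG b J := rootGen_H hG (Subgroup.inv_mem _ (torus_mem_H hG hf hc c')) hv
  simpa [mul_assoc] using h

/-- A product of fundamental root elements with parameter one. -/
theorem list_coord : ∀ l : List ℕ, (∀ j ∈ l, j < D.rank) → l.Nodup →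
    (l.map fun j => xe hG (D.simple j) (1 : F)).prod ∈ uni F hG true ∧
      ∀ i < D.rank, ∃ v ∈ rad F hG true {i},
        (l.map fun j => xe hG (D.simple j) (1 : F)).prod =
          xe hG (sroot D true i) (if i ∈ l then (1 : F) else 0) * v
  | [], _, _ => ⟨Subgroup.one_mem _, fun i hi => ⟨1, Subgroup.one_mem _, by
      simp [xe_zero hG (sroot_lt hG hf hc true hi)]⟩⟩
  | j :: l, hl, hnd => by
    obtain ⟨hu, hcd⟩ := list_coord l (fun x hx => hl x (List.mem_cons_of_mem _ hx)) (List.nodup_cons.1 hnd).2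
    have hj := hl j List.mem_cons_self
    simp only [List.map_cons, List.prod_cons]
    refine ⟨Subgroup.mul_mem _ (xe_mem_uni hG (spos_sroot hG hf hc true hj) _) hu, fun i hi => ?_⟩
    obtain ⟨v, hv, e⟩ := hcd i hi
    by_cases hij : i = j
    · subst hij
      rw [if_neg (List.nodup_cons.1 hnd).1, xe_zero hG (sroot_lt hG hf hc true hi), one_mul] at e
      exact ⟨v, hv, by rw [e, if_pos List.mem_cons_self]; rfl⟩
    · have hmem : (i ∈ j :: l) ↔ i ∈ l := by simp [hij]
      rw [if_congr hmem rfl rfl]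
      set s := sroot D true i
      set α : F := if i ∈ l then (1 : F) else 0
      have hy : xe hG (sroot D true j) 1 ∈ rad F hG true {i} := sroot_mem_rad hG hf hc true hj (Ne.symm hij) 1
      refine ⟨(xe hG s α)⁻¹ * xe hG (sroot D true j) 1 * xe hG s α * v, Subgroup.mul_mem _ ?_ hv, ?_⟩
      · have := rad_conj hG hf hc (sroot_lt hG hf hc true hi) (Or.inl (spos_sroot hG hf hc true hi)) (-α) hy
        rwa [← xe_inv hG (sroot_lt hG hf hc true hi), inv_inv] at this
      · rw [e]
        show xe hG (sroot D true j) 1 * _ = _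
        group

theorem nw_conj_linear (l : List (Fin D.rank)) (s : Fin D.nroots) :
    ∃ e : F, e ≠ 0 ∧ ∀ t : F, (data hG F).nw l * xe hG s.val t * ((data hG F).nw l)⁻¹ =
      xe hG ((data hG F).wl l s).val (e * t) := by
  induction l with
  | nil => exact ⟨1, one_ne_zero, fun t => by simp⟩
  | cons i l ih =>
    obtain ⟨e, he, h⟩ := ih
    obtain ⟨e', he', h', -⟩ := exists_conj hG (F := F) i.2 ((data hG F).wl l s).2
    refine ⟨e' * e, mul_ne_zero (left_ne_zero_of_mul_eq_one he') he, fun t => ?_⟩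
    rw [RootBN.Data.nw_cons, RootBN.Data.wl_cons, Equiv.Perm.mul_apply]
    show ne' hG (D.simple i.val) 1 * (data hG F).nw l * xe hG s.val t *
        (ne' hG (D.simple i.val) 1 * (data hG F).nw l)⁻¹ =
      xe hG (D.reflectRoot i.val ((data hG F).wl l s).val) (e' * e * t)
    rw [mul_assoc e' e t, ← h' (e * t), ← h t]
    group

include hV

theorem exists_square [Fintype F] (hq : 9 ≤ Fintype.card F) (hn : NegTri D) (ht : TreeCert D) :
    ∃ x ∈ D.group F, ∀ g ∈ D.group F, ∃ p ∈ D.group F, ∃ q ∈ D.group F,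
      g = p * x * p⁻¹ * (q * x * q⁻¹) := by
  classical
  have ax := axioms (F := F) hG hf
  obtain ⟨ζ, hζ⟩ := IsCyclic.exists_generator (α := Fˣ)
  have hord : orderOf ζ = Fintype.card F - 1 := by
    rw [orderOf_eq_card_of_forall_mem_zpowers hζ, Nat.card_eq_fintype_card, Fintype.card_units]
  set c : Fin D.rank → Fˣ := fun i => ζ ^ L.y.getD i.val 0 with hcd
  have hχ : ∀ r, torusChar D c r = ζ ^ L.lf D r := fun r => torusChar_zpow ζ _ r
  set z := torusHom F D c with hz
  set J := L.J with hJd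
  have hlf : ∀ r, r < D.nroots → (D.InRootSub J r ↔ L.lf D r = 0) := fun r hr =>
    inRootSub_iff_lf hG hf hc hV hr
  have hlneg : ∀ r, r < D.nroots → L.lf D (D.neg r) = -L.lf D r := fun r hr => by
    simp only [LeviCert.lf, cartan_neg_out hG (Fin.is_lt _) hr, mul_neg, Finset.sum_neg_distrib]
  have hne : ∀ r, r < D.nroots → ¬ D.InRootSub J r → torusChar D c r ≠ 1 := by
    intro r hr hrJ h1
    rw [hχ, ← orderOf_dvd_iff_zpow_eq_one, hord] at h1
    have h0 : L.lf D r ≠ 0 := fun h => hrJ ((hlf r hr).2 h)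
    have h7 : (L.lf D r).natAbs ≤ 7 := by
      rcases Nat.lt_or_ge r (D.nroots / 2) with h | h
      · have hh : D.nroots / 2 ≤ D.neg r := by rw [neg_eq hf hr]; have := hf.1; omega
        have := (hV.kernel _ (hG.neg_lt hr)).2.1 hh
        rw [hlneg r hr] at this
        omega
      · have := (hV.kernel r hr).2.1 h
        omega
    have := Nat.le_of_dvd (Int.natAbs_pos.2 h0) (Int.natCast_dvd.1 h1)
    omega
  obtain ⟨Φ, hΦ⟩ := exists_Phi hG hf hc hV (F := F)
  have hTw := hV.twist
  have hrt : ∀ k (i j : Fin ((L.ch k).length + 1)), i ≠ j → ∀ t : F,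
      chainX hG (L.ch k) i j t ∈ LN hG F J z := by
    intro k i j hij t
    have hr := ((hV.chains_ok k).2.2.1 i j hij).1
    have h0 := (hTw k k i j hij).1
    exact LN.root hG hf hc c hr ((hlf _ hr).2 h0) (by rw [hχ, h0, zpow_zero]) _
  have hΦmem : ∀ p : LProd F L, Φ p ∈ LN hG F J z := by
    intro p
    rw [← Finset.noncommProd_mulSingle p]
    show _ ∈ (LN hG F J z).comap Φ
    refine Subgroup.noncommProd_mem _ _ fun k _ => ?_
    exact sl_hom_mem (Φ.comp (MonoidHom.mulSingle (fun k : Fin L.chains.length =>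
      SpecialLinearGroup (Fin ((L.ch k).length + 1)) F) k)) _ (fun i j hij t => by
        show Φ (Pi.mulSingle k _) ∈ _
        rw [hΦ]; exact hrt k i j hij t) _
  -- the twists
  have htw : ∀ d : Fin L.chains.length → Fˣ, ∃ T : Fin D.rank → Fˣ, ∀ p : LProd F L,
      Φ (fun k => conjD (d k) (p k)) = torusHom F D T * Φ p * (torusHom F D T)⁻¹ := by
    intro d
    set T : Fin D.rank → Fˣ := fun i => ∏ k : Fin L.chains.length, d k ^ (L.b.getD k.val []).getD i.val 0 with hT
    have hTχ : ∀ r, torusChar D T r = ∏ k : Fin L.chains.length, d k ^ L.bw D k.val r := by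
      intro r
      simp only [torusChar, hT, ← Finset.prod_zpow, ← zpow_mul]
      rw [Finset.prod_comm]
      refine Finset.prod_congr rfl fun k _ => ?_
      rw [LeviCert.bw, zpow_finset_sum]
    refine ⟨T, fun p => ?_⟩
    have key : Φ.comp (MonoidHom.mk' (fun p : LProd F L => fun k => conjD (d k) (p k))
        (fun a b => funext fun k => map_mul _ _ _)) =
        ((MulAut.conj (torusHom F D T)).toMonoidHom).comp Φ := by
      refine MonoidHom.pi_ext fun k x => ?_
      have e1 : (fun k' => conjD (d k') ((Pi.mulSingle k x : LProd F L) k')) =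
          (Pi.mulSingle k (conjD (d k) x) : LProd F L) := by
        funext k'
        by_cases h : k' = k
        · subst h; simp
        · simp [Pi.mulSingle_eq_of_ne h]
      show Φ (fun k' => conjD (d k') ((Pi.mulSingle k x : LProd F L) k')) = _
      rw [e1]
      let φ1 : SpecialLinearGroup (Fin ((L.ch k).length + 1)) F →* GL D.Idx F :=
        (Φ.comp (MonoidHom.mulSingle (fun k : Fin L.chains.length =>
          SpecialLinearGroup (Fin ((L.ch k).length + 1)) F) k)).comp (conjD (d k))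
      let φ2 : SpecialLinearGroup (Fin ((L.ch k).length + 1)) F →* GL D.Idx F :=
        (((MulAut.conj (torusHom F D T)).toMonoidHom).comp Φ).comp (MonoidHom.mulSingle
          (fun k : Fin L.chains.length => SpecialLinearGroup (Fin ((L.ch k).length + 1)) F) k)
      show φ1 x = φ2 x
      have hall := sl_hom_mem ((φ1.prod φ2)) ((MonoidHom.fst _ _).eqLocus (MonoidHom.snd _ _))
        (fun i j hij t => ?_) x
      · exact hall
      show Φ (Pi.mulSingle k (conjD (d k) (SpecialLinearGroup.transvection hij t))) =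
        torusHom F D T * Φ (Pi.mulSingle k (SpecialLinearGroup.transvection hij t)) * (torusHom F D T)⁻¹
      rw [conjD_transvection, hΦ, hΦ, chainX, chainX,
        torusHom_conj hG T _ ((hV.chains_ok k).2.2.1 i j hij).1]
      congr 1
      rw [hTχ, Finset.prod_eq_single k]
      · rw [(hTw k k i j hij).2, if_pos rfl, dg, dg]
        split_ifs with hi hj hj
        · exact absurd (Fin.ext (hi.trans hj.symm)) hij
        all_goals simp <;> ring
      · intro k' _ hk'
        rw [(hTw k' k i j hij).2, if_neg hk', zpow_zero]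
      · simp
    exact DFunLike.congr_fun key p
  set J0 : LProd F L := fun k => jordanSL _ F with hJ0
  have hall : ∀ p : LProd F L, (∀ k, MRU (p k : Matrix (Fin ((L.ch k).length + 1)) (Fin ((L.ch k).length + 1)) F)) →
      ∃ a ∈ LN hG F J z, Φ p = a * Φ J0 * a⁻¹ := by
    intro p hp
    choose S d hSd using fun k => exists_twist (hp k)
    obtain ⟨T, hT⟩ := htw d
    refine ⟨Φ S * torusHom F D T, Subgroup.mul_mem _ (hΦmem S) (LN.torus hG hf hc c T), ?_⟩
    rw [show p = S * (fun k => conjD (d k) (J0 k)) * S⁻¹ from funext hSd, map_mul, map_mul, map_inv, hT J0]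
    group
  -- the class
  set w := (L.chains.flatten.map fun j => xe hG (D.simple j) (1 : F)).prod with hw
  obtain ⟨hwu, hwc⟩ := list_coord hG hf hc (F := F) _ hV.nodes.2.1 hV.nodes.1
  rw [← hw] at hwu hwc
  have hwlev : w ∈ lev F hG true J := by
    refine Subgroup.list_prod_mem _ fun x hx => ?_
    obtain ⟨j, hj, rfl⟩ := List.mem_map.1 hx
    have hjr := hV.nodes.2.1 j hj
    exact xe_mem_rootGen hG (S := {s : Fin D.nroots | SPos D true s.val ∧ D.InRootSub J s.val})
      (r := ⟨D.simple j, hG.simple_lt hjr⟩)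
      ⟨spos_sroot hG hf hc true hjr, inRootSub_simple hG hf hc hjr hj⟩ 1
  obtain ⟨p0, hp0, hp0w, hp0c⟩ := exists_lift hG hf hc hV hΦ true hwlev
  obtain ⟨a0, ha0, ea0⟩ := hall p0 (fun k => mru_of_ent (hp0 k) (by
    intro p q hpq h0
    have hpl : p.val < (L.ch k).length := by omega
    obtain rfl : q = ⟨p.val + 1, Nat.succ_lt_succ hpl⟩ := Fin.ext hpq.symm
    obtain ⟨v, hv, e⟩ := hp0c k ⟨p.val, hpl⟩
    have hnode := hV.nodes.2.1 _ (node_mem L k ⟨p.val, hpl⟩)
    obtain ⟨v', hv', e'⟩ := hwc _ hnode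
    rw [if_pos (node_mem L k ⟨p.val, hpl⟩)] at e'
    rw [show (⟨p.val, by omega⟩ : Fin ((L.ch k).length + 1)) = p from rfl, h0,
      xe_zero hG (sroot_lt hG hf hc true hnode), one_mul] at e
    exact one_ne_zero (eq_zero_of_mem_rad hG hf hc true hnode hv' (e' ▸ e ▸ hv))))
  have hwLN : w ∈ LN hG F J z := hp0w ▸ hΦmem p0
  set x := z * w with hx
  have hzLN : z ∈ LN hG F J z := LN.torus hG hf hc c c
  have hxLN : x ∈ LN hG F J z := Subgroup.mul_mem _ hzLN hwLN
  have hzw : z * w = w * z := ((LN.mem hG hf hc hwLN).2.2).symm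
  -- the central part is a power of `x`
  have hpow : ∃ N : ℕ, x ^ N = z := by
    refine ⟨Fintype.card F ^ (D.nroots / 2), ?_⟩
    rw [hx, (show Commute z w from hzw).mul_pow]
    have h1 : w ^ (Fintype.card F ^ (D.nroots / 2)) = 1 := by
      rw [← card_U hf hG]
      exact congrArg Subtype.val (pow_card_eq_one' (x := (⟨w, by rwa [← uni_true hG hf hc]⟩ : D.posUnipotent F)))
    rw [h1, mul_one, hz, ← map_pow]
    congr 1
    funext i
    simp only [Pi.pow_apply]
    refine Units.ext ?_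
    rw [Units.val_pow_eq_pow_val, FiniteField.pow_card_pow]
  have hfix : ∀ (b : Bool) (v : GL D.Idx F), v ∈ rad F hG b J → x * v = v * x → v = 1 := by
    intro b v hv hcomm
    obtain ⟨N, hN⟩ := hpow
    have h1 : z * v = v * z := hN ▸ ((show Commute x v from hcomm).pow_left N).eq
    cases b
    · refine eq_one_false hG hf hc hV.longest J (fun r hr => ?_) hne hv h1
      have hev : RootBN.evWord tabs L.w0 r < D.nroots := by
        rw [← RootBN.Data.map_val_toFin (l := D.rank) hV.longest.1,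
          RootBN.Data.evWord_eq (D := data hG F) (tabs := tabs)
            (fun i s => ((hf.2.2.2.2.1 i.val i.2).2.2.2.1 s.val s.2).1) _ ⟨r, hr⟩]
        exact Fin.is_lt _
      rw [hlf _ hev, hlf r hr, (hV.kernel r hr).2.2, neg_eq_zero]
    · exact eq_one_true hG hf hc J hne hv h1
  -- reality
  obtain ⟨y0, hy0, hreal⟩ : ∃ y ∈ D.group F, x⁻¹ = y * x * y⁻¹ := by
    obtain ⟨l, hl⟩ : ∃ l : List (Fin D.rank), l = RootBN.Data.toFin L.w0 := ⟨_, rfl⟩
    have hev : ∀ r : Fin D.nroots, ((data hG F).wl l r).val = RootBN.evWord tabs L.w0 r.val := fun r => by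
      rw [hl, ← RootBN.Data.evWord_eq (tabs := tabs) (fun i s => ((hf.2.2.2.2.1 i.val i.2).2.2.2.1 s.val s.2).1),
        RootBN.Data.map_val_toFin hV.longest.1]
    set n := (data hG F).nw l with hnd
    have hng : n ∈ D.group F := (data_grp hG).le (RootBN.Data.N_le_grp ax (RootBN.Data.nw_mem_N l))
    have hnz : n * z⁻¹ * n⁻¹ = z := by
      obtain ⟨c', hc'⟩ := exists_torus hG hf hc (RootBN.Data.nw_H ax l (torus_mem_H hG hf hc c))
      rw [← hnd, ← hz] at hc'
      have hker : c' * c ∈ (torusHom F D).ker := by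
        refine (mem_ker_torusHom hG).2 fun j => ?_
        rw [torusChar_mul]
        obtain ⟨s, hs⟩ : ∃ s, (data hG F).wl l s = ⟨D.simple j.val, hG.simple_lt j.2⟩ :=
          ⟨_, Equiv.apply_symm_apply _ _⟩
        obtain ⟨e, he, h⟩ := nw_conj_linear hG hf hc (F := F) l s
        rw [← hnd, hs] at h
        have h1 : torusHom F D c' * xe hG (D.simple j.val) (e * 1) * (torusHom F D c')⁻¹ =
            xe hG (D.simple j.val) (e * (torusChar D c s.val : F)) := by
          rw [← hc', ← h 1, ← h, show (torusChar D c s.val : F) = (torusChar D c s.val : F) * 1 from (mul_one _).symm,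
            ← torusHom_conj hG c _ s.2, hz]
          group
        rw [torusHom_conj hG c' _ (hG.simple_lt j.2)] at h1
        have h2 : (torusChar D c' (D.simple j.val) : F) * (e * 1) = e * (torusChar D c s.val : F) := by
          by_contra hne'
          refine xe_ne_one hG hf (hG.simple_lt j.2) (sub_ne_zero.2 hne') ?_
          rw [sub_eq_add_neg, ← xe_add hG (hG.simple_lt j.2), h1, ← xe_inv hG (hG.simple_lt j.2), mul_inv_cancel]
        have h3 : torusChar D c' (D.simple j.val) = torusChar D c s.val :=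
          Units.ext (mul_left_cancel₀ he (by linear_combination h2))
        have h4 : L.lf D (D.simple j.val) = -L.lf D s.val := by
          rw [← (hV.kernel s.val s.2).2.2, ← hev, hs]
        rw [h3, hχ, hχ, h4, ← zpow_add, add_neg_cancel, zpow_zero]
      rw [MonoidHom.mem_ker, map_mul, ← hc', ← hz] at hker
      have := eq_inv_of_mul_eq_one_left hker
      calc n * z⁻¹ * n⁻¹ = (n * z * n⁻¹)⁻¹ := by group
        _ = z := by rw [this, inv_inv]
    have hlev : n * w⁻¹ * n⁻¹ ∈ lev F hG false J := by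
      refine conj_mem_rootGen hG (RootBN.Data.acts_nw ax l) ?_ (Subgroup.inv_mem _ hwlev)
      rintro r ⟨hr, hrJ⟩
      have h1 := hV.longest.2 r.val r.2 (by simpa using hr.2)
      refine ⟨⟨((data hG F).wl l r).2, ?_⟩, ?_⟩
      · simp only [Bool.false_eq_true, if_false]; rw [hev]; exact h1
      · rw [hlf _ ((data hG F).wl l r).2, hev, (hV.kernel r.val r.2).2.2, (hlf r.val r.2).1 hrJ, neg_zero]
    obtain ⟨p, hp, hpw, hpc⟩ := exists_lift hG hf hc hV hΦ false hlev
    obtain ⟨a, ha, ea⟩ := hall p (fun k => mru_of_ent (hp k) (by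
      intro i q hiq h0
      have hil : i.val < (L.ch k).length := by omega
      obtain rfl : q = ⟨i.val + 1, Nat.succ_lt_succ hil⟩ := Fin.ext hiq.symm
      obtain ⟨v, hv, e⟩ := hpc k ⟨i.val, hil⟩
      set j := (L.ch k).getD i.val 0
      have hjm : j ∈ L.chains.flatten := node_mem L k ⟨i.val, hil⟩
      have hj : j < D.rank := hV.nodes.2.1 _ hjm
      obtain ⟨j', hj'm, hj'⟩ := hV.opp j hjm
      have hj'r : j' < D.rank := hV.nodes.2.1 _ hj'm
      rw [show (⟨i.val, by omega⟩ : Fin ((L.ch k).length + 1)) = i from rfl, h0,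
        xe_zero hG (sroot_lt hG hf hc false hj), one_mul] at e
      have hmem : w⁻¹ ∈ rad F hG true {j'} := by
        have h1 := conj_mem_rootGen hG (RootBN.Data.acts_nw ax l).inv
          (T := {s : Fin D.nroots | SPos D true s.val ∧ ¬ D.InRootSub {j'} s.val}) ?_ (e.symm ▸ hv :
            n * w⁻¹ * n⁻¹ ∈ rad F hG false {j})
        · have e3 : n⁻¹ * (n * w⁻¹ * n⁻¹) * n⁻¹⁻¹ = w⁻¹ := by group
          rw [show ((data hG F).nw l)⁻¹ = n⁻¹ from rfl, e3] at h1
          exact h1
        rintro s ⟨hs, hsj⟩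
        set s' := ((data hG F).wl l)⁻¹ s
        have hs' : RootBN.evWord tabs L.w0 s'.val = s.val := by
          rw [← hev]; exact congrArg Fin.val (Equiv.apply_symm_apply _ _)
        have hpos : D.nroots / 2 ≤ s'.val := by
          by_contra hlt
          have hneg : D.nroots / 2 ≤ D.neg s'.val := by rw [neg_eq hf s'.2]; have := hf.1; omega
          have h1 := hV.longest.2 _ (hG.neg_lt s'.2) hneg
          have h2 : RootBN.evWord tabs L.w0 (D.neg s'.val) = D.neg s.val := by
            rw [← hs', ← hev s']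
            have e := congrArg Fin.val (RootBN.Data.wl_opp ax l s')
            rw [hev] at e
            exact e
          rw [h2, neg_eq hf s.2] at h1
          have h3 := hs.2
          simp only [Bool.false_eq_true, if_false] at h3
          have := hf.1
          omega
        refine ⟨⟨s'.2, by simpa using hpos⟩, fun hin => hsj ?_⟩
        obtain ⟨m, hm, hmj, e'⟩ := root_orth hG hf hc (J := {j'}) (fun p hp q hq _ _ hpq =>
          absurd (hp.trans hq.symm) hpq) (b := true) ⟨s'.2, by simpa using hpos⟩ hin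
        rw [Set.mem_singleton_iff] at hmj
        subst hmj
        rw [show s'.val = D.simple m from e', hj'] at hs'
        rw [← hs']
        exact inRootSub_sroot hG hf hc false hj rfl
      obtain ⟨v', hv', e'⟩ := hwc j' hj'r
      rw [if_pos hj'm] at e'
      exact one_ne_zero (eq_zero_of_mem_rad hG hf hc true hj'r hv' (e' ▸ inv_mem_iff.1 hmem))))
    refine ⟨n⁻¹ * (a * a0⁻¹), Subgroup.mul_mem _ (Subgroup.inv_mem _ hng)
      (Subgroup.mul_mem _ (LN.mem hG hf hc ha).1 (Subgroup.inv_mem _ (LN.mem hG hf hc ha0).1)), ?_⟩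
    have hb := (LN.mem hG hf hc (Subgroup.mul_mem _ ha (Subgroup.inv_mem _ ha0))).2.2
    have h5 : n * w⁻¹ * n⁻¹ = (a * a0⁻¹) * w * (a * a0⁻¹)⁻¹ := by
      rw [← hpw, ea, ← hp0w, ea0]; group
    calc x⁻¹ = n⁻¹ * ((n * z⁻¹ * n⁻¹) * (n * w⁻¹ * n⁻¹)) * n := by rw [hx, hzw]; group
      _ = n⁻¹ * (z * ((a * a0⁻¹) * w * (a * a0⁻¹)⁻¹)) * n := by rw [hnz, h5]
      _ = n⁻¹ * ((a * a0⁻¹) * z * w * (a * a0⁻¹)⁻¹) * n := by rw [hb]; group
      _ = _ := by rw [hx]; group
  refine ⟨x, (LN.mem hG hf hc hxLN).1, fun g hg => ?_⟩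
  by_cases hg1 : g = 1
  · exact ⟨y0, hy0, 1, Subgroup.one_mem _, by rw [hg1, ← hreal]; group⟩
  obtain ⟨y, hy, v, hv, u, hu, e⟩ := exists_conj_torus hG hf hc hq hn hV.longest ht hg hg1 (c * c)
  obtain ⟨l1, hl1, v', hv', rfl⟩ := exists_split hG hf hc false J hv
  obtain ⟨l2, hl2, u1, hu1, rfl⟩ := exists_split hG hf hc true J hu
  obtain ⟨p1, hp1, hp1l, -⟩ := exists_lift hG hf hc hV hΦ false hl1
  obtain ⟨p2, hp2, hp2l, -⟩ := exists_lift hG hf hc hV hΦ true hl2
  have hpair : ∀ k, ∃ P R : SpecialLinearGroup (Fin ((L.ch k).length + 1)) F,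
      p1 k * p2 k = P * R ∧ MRU (P : Matrix (Fin ((L.ch k).length + 1)) (Fin ((L.ch k).length + 1)) F) ∧
        MRU (R : Matrix (Fin ((L.ch k).length + 1)) (Fin ((L.ch k).length + 1)) F) := by
    intro k
    have hlen : 1 ≤ (L.ch k).length := List.length_pos_of_ne_nil (hV.chains_ok k).1
    obtain ⟨P, R, ePR, hP, hR⟩ := exists_pair (by omega) (by omega)
      ((p1 k * p2 k : SpecialLinearGroup (Fin ((L.ch k).length + 1)) F) :
        Matrix (Fin ((L.ch k).length + 1)) (Fin ((L.ch k).length + 1)) F) (p1 k * p2 k).2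
      (top_left (hp1 k) (hp2 k) (by omega))
    exact ⟨⟨P, det_eq_one_of_mru hP⟩, ⟨R, det_eq_one_of_mru hR⟩, Subtype.ext ePR, hP, hR⟩
  choose P R hPR hP hR using hpair
  obtain ⟨a, ha, ea⟩ := hall P hP
  obtain ⟨b, hb, eb⟩ := hall R hR
  have hA : a * a0⁻¹ ∈ LN hG F J z := Subgroup.mul_mem _ ha (Subgroup.inv_mem _ ha0)
  have hB : b * a0⁻¹ ∈ LN hG F J z := Subgroup.mul_mem _ hb (Subgroup.inv_mem _ ha0)
  set A := a * a0⁻¹ with hAd
  set B := b * a0⁻¹ with hBd
  have hlL : l1 * l2 = (A * w * A⁻¹) * (B * w * B⁻¹) := by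
    rw [← hp1l, ← hp2l, ← map_mul, show p1 * p2 = P * R from funext hPR, map_mul, ea, eb, hAd, hBd, ← hp0w, ea0]
    group
  have hl1LN : l1 ∈ LN hG F J z := hp1l ▸ hΦmem p1
  have hl : l1 * (z * z) * l2 = A * x * A⁻¹ * (B * x * B⁻¹) := by
    have c1 := (LN.mem hG hf hc hl1LN).2.2
    have cA := (LN.mem hG hf hc hA).2.2
    have cB := (LN.mem hG hf hc hB).2.2
    have cw : (A * w * A⁻¹) * z = z * (A * w * A⁻¹) :=
      (LN.mem hG hf hc (Subgroup.mul_mem _ (Subgroup.mul_mem _ hA hwLN) (Subgroup.inv_mem _ hA))).2.2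
    calc l1 * (z * z) * l2 = (l1 * z) * z * l2 := by group
      _ = z * (l1 * z) * l2 := by rw [show l1 * z * z = z * l1 * z by rw [c1]]; group
      _ = z * z * (l1 * l2) := by rw [c1]; group
      _ = z * (z * (A * w * A⁻¹)) * (B * w * B⁻¹) := by rw [hlL]; group
      _ = (z * A) * w * A⁻¹ * ((z * B) * w * B⁻¹) := by rw [← cw]; group
      _ = _ := by rw [← cA, ← cB, hx]; group
  -- the trick inside the group
  have hsub : ∀ (b : Bool) (p : GL D.Idx F) (hp : p ∈ LN hG F J z) (s : D.group F),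
      s ∈ (rad F hG b J).subgroupOf (D.group F) ↔
        (⟨p, (LN.mem hG hf hc hp).1⟩ : D.group F) * s * (⟨p, (LN.mem hG hf hc hp).1⟩ : D.group F)⁻¹ ∈
          (rad F hG b J).subgroupOf (D.group F) := fun b p hp s => by
    simp only [Subgroup.mem_subgroupOf, Subgroup.coe_mul, Subgroup.coe_inv]
    exact (LN.mem hG hf hc hp).2.1 b s
  have hff : ∀ b : Bool, FixFree ((rad F hG b J).subgroupOf (D.group F))
      (⟨x, (LN.mem hG hf hc hxLN).1⟩ : D.group F) := fun b =>
    ⟨fun s hs => (hsub b x hxLN s).1 hs, fun s hs h => Subtype.ext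
      (hfix b s (Subgroup.mem_subgroupOf.1 hs) (congrArg Subtype.val h))⟩
  have hv1 : l1 * v' * l1⁻¹ ∈ rad F hG false J := ((LN.mem hG hf hc hl1LN).2.1 false v').1 hv'
  have hrg : ∀ (b : Bool) {r : GL D.Idx F}, r ∈ rad F hG b J → r ∈ D.group F := fun b _ h =>
    uni_le_group hG hf hc b (rad_le_uni hG hf hc b J h)
  obtain ⟨⟨p, hp⟩, ⟨q, hq'⟩, e'⟩ := mem_product (hff false) (hff true)
    (v := ⟨_, hrg false hv1⟩) (l := ⟨_, Subgroup.mul_mem _ (Subgroup.mul_mem _ (LN.mem hG hf hc hl1LN).1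
      (Subgroup.mul_mem _ (LN.mem hG hf hc hzLN).1 (LN.mem hG hf hc hzLN).1))
      (LN.mem hG hf hc (hp2l ▸ hΦmem p2)).1⟩) (u := ⟨_, hrg true hu1⟩)
    (a := ⟨A, (LN.mem hG hf hc hA).1⟩) (b := ⟨B, (LN.mem hG hf hc hB).1⟩)
    (Subgroup.mem_subgroupOf.2 hv1) (Subgroup.mem_subgroupOf.2 hu1)
    (fun s => hsub false A hA s) (fun s => hsub true B hB s) (Subtype.ext hl)
  have e'' : l1 * v' * l1⁻¹ * (l1 * (z * z) * l2) * u1 = p * x * p⁻¹ * (q * x * q⁻¹) := congrArg Subtype.val e'
  refine ⟨y⁻¹ * p, Subgroup.mul_mem _ (Subgroup.inv_mem _ hy) hp, y⁻¹ * q,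
    Subgroup.mul_mem _ (Subgroup.inv_mem _ hy) hq', ?_⟩
  rw [map_mul] at e
  calc g = y⁻¹ * (y * g * y⁻¹) * y := by group
    _ = y⁻¹ * (p * x * p⁻¹ * (q * x * q⁻¹)) * y := by
      rw [e, ← e'', ← hz]; group
    _ = _ := by group

end Cfsg.Agent.Thompson.Sides
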