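import Cfsg.Agent.Lib.Thompson.ChevCoord
import Cfsg.Agent.Lib.Chev.AutOut

/-!
Conjugation steps inside the big cell: changing the torus part by coroots and creating nonzero coordinates.
-/

set_option autoImplicit false
set_option linter.unusedSectionVars false

namespace Cfsg.Agent.Thompson.Sides

open Cfsg.Lie Cfsg.Agent.Chev Cfsg.Agent.Chev.BNSetup
open Matrix (SpecialLinearGroup)

variable {F : Type*} [Field F] {D : ChevalleyDatum}

/-- The diagonal element of `SL₂` as a word. -/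
def tor (t : F) : SpecialLinearGroup (Fin 2) F :=
  upperSL t * lowerSL (-t⁻¹) * upperSL t * (upperSL (-1) * lowerSL 1 * upperSL (-1))

theorem coe_tor {t : F} (ht : t ≠ 0) : (tor t : Matrix (Fin 2) (Fin 2) F) = !![t, 0; 0, t⁻¹] := by
  rw [show (tor t : Matrix (Fin 2) (Fin 2) F) = !![1, t; 0, 1] * !![1, 0; -t⁻¹, 1] * !![1, t; 0, 1] *
    (!![1, -1; 0, 1] * !![1, 0; 1, 1] * !![1, -1; 0, 1]) from rfl]
  ext i j
  fin_cases i <;> fin_cases j <;> simp [Matrix.mul_apply, Fin.sum_univ_two, ht]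

theorem upper_lower (a r : F) {l : F} (hl : l = 1 - a * r) (hl0 : l ≠ 0) :
    upperSL a * lowerSL (-r) = lowerSL (-r / l) * tor l * upperSL (a / l) := by
  apply Subtype.ext
  show !![1, a; 0, 1] * !![1, 0; -r, 1] = !![1, 0; -r / l, 1] * (tor l : Matrix (Fin 2) (Fin 2) F) * !![1, a / l; 0, 1]
  rw [coe_tor hl0]
  ext i j
  fin_cases i <;> fin_cases j <;> simp [Matrix.mul_apply, Fin.sum_univ_two] <;> field_simp <;> rw [hl] <;> ring

theorem lower_upper (a r : F) {l : F} (hl : l = 1 - a * r) (hl0 : l ≠ 0) :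
    lowerSL a * upperSL (-r) = upperSL (-r / l) * tor l⁻¹ * lowerSL (a / l) := by
  apply Subtype.ext
  show !![1, 0; a, 1] * !![1, -r; 0, 1] = !![1, -r / l; 0, 1] * (tor l⁻¹ : Matrix (Fin 2) (Fin 2) F) * !![1, 0; a / l, 1]
  rw [coe_tor (inv_ne_zero hl0)]
  ext i j
  fin_cases i <;> fin_cases j <;> simp [Matrix.mul_apply, Fin.sum_univ_two] <;> field_simp <;> rw [hl] <;> ring

/-- The exponent of the coroot met on the side `b`. -/
def tu (b : Bool) (l : Fˣ) : Fˣ := if b then l else l⁻¹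

theorem tu_tu (b : Bool) (l : Fˣ) : tu b (tu b l) = l := by cases b <;> simp [tu]

variable (hG : Good D) {tabs simps : List ℕ} (hf : Facts D tabs simps) {M : List (List ℤ)}
  (hc : CoefFacts D M tabs)
include hG

theorem xg_eq (r : ℕ) (t : F) : xg D F r t = xe hG r t := Units.ext (hG.coe_xg r t)

theorem sl2_move (b : Bool) {i : ℕ} (hi : i < D.rank) (a r : F) (l : Fˣ) (hl : (l : F) = 1 - a * r) :
    xe hG (sroot D b i) a * (xe hG (sroot D (!b) i) r)⁻¹ =
      xe hG (sroot D (!b) i) (-r / l) * he hG (D.simple i) ((tu b l : Fˣ) : F) *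
        xe hG (sroot D b i) (a / l) := by
  obtain ⟨φ, h1, h2⟩ := hG.exists_sl2_hom (F := F) (hG.simple_lt hi)
  have h1' : ∀ t, φ (upperSL t) = xe hG (D.simple i) t := fun t => (h1 t).trans (xg_eq hG _ t)
  have h2' : ∀ t, φ (lowerSL t) = xe hG (D.neg (D.simple i)) t := fun t => (h2 t).trans (xg_eq hG _ t)
  have htor : ∀ t : F, φ (tor t) = he hG (D.simple i) t := fun t => by
    simp only [tor, map_mul, h1', h2', he, ne']
    simp [inv_neg]
  cases b
  · have := congrArg φ (lower_upper a r hl l.ne_zero)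
    simp only [map_mul, h1', h2', htor] at this
    simp only [sroot, Bool.not_false, if_true, Bool.false_eq_true, if_false, tu, Units.val_inv_eq_inv_val]
    rw [xe_inv hG (hG.simple_lt hi), this]
  · have := congrArg φ (upper_lower a r hl l.ne_zero)
    simp only [map_mul, h1', h2', htor] at this
    simp only [sroot, Bool.not_true, if_true, Bool.false_eq_true, if_false, tu]
    rw [xe_inv hG (hG.neg_lt (hG.simple_lt hi)), this]

include hf hc

/-- The conjugation step. -/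
theorem step_eq (b : Bool) (i : Fin D.rank) (n v : GL D.Idx F) (a r : F) (c : Fin D.rank → Fˣ) (l : Fˣ)
    (hl : (l : F) = 1 - a * r) :
    xe hG (sroot D (!b) i) r * (n * torusHom F D c * (xe hG (sroot D b i) a * v)) *
        (xe hG (sroot D (!b) i) r)⁻¹ =
      (xe hG (sroot D (!b) i) r * n *
          xe hG (sroot D (!b) i) ((torusChar D c (sroot D (!b) i) : F) * (-r / l))) *
        torusHom F D (c * Pi.mulSingle i (tu b l)) *
        (xe hG (sroot D b i) (a / l) *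
          (xe hG (sroot D (!b) i) r * v * (xe hG (sroot D (!b) i) r)⁻¹)) := by
  have h1 := sl2_move hG b i.2 a r l hl
  have h2 := torusHom_conj hG c (sroot D (!b) i) (sroot_lt hG hf hc (!b) i.2) (-r / (l : F))
  rw [map_mul, torusHom_single hG, ← h2]
  generalize xe hG (sroot D (!b) i) r = y at h1 ⊢
  calc y * (n * torusHom F D c * (xe hG (sroot D b i) a * v)) * y⁻¹
      = y * n * torusHom F D c * (xe hG (sroot D b i) a * y⁻¹) * (y * v * y⁻¹) := by group
    _ = _ := by rw [h1]; group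

/-- A cell element with prescribed nonzero coordinates. -/
def St (b : Bool) (g : GL D.Idx F) (c : Fin D.rank → Fˣ) (A B : Finset (Fin D.rank)) : Prop :=
  ∃ n ∈ uni F hG (!b), ∃ p ∈ uni F hG b, g = n * torusHom F D c * p ∧
    (∀ i ∈ A, p ∉ rad F hG b {i.val}) ∧ ∀ i ∈ B, n ∉ rad F hG (!b) {i.val}

theorem St.flip {b : Bool} {g : GL D.Idx F} {c : Fin D.rank → Fˣ} {A B : Finset (Fin D.rank)}
    (h : St hG b g c A B) : St hG (!b) g⁻¹ c⁻¹ B A := by
  obtain ⟨n, hn, p, hp, rfl, hA, hB⟩ := h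
  refine ⟨p⁻¹, ?_, n⁻¹, Subgroup.inv_mem _ hn, by rw [map_inv]; group, fun i hi => ?_, fun i hi => ?_⟩
  · rw [Bool.not_not]; exact Subgroup.inv_mem _ hp
  · exact fun h => hB i hi (inv_mem_iff.1 h)
  · rw [Bool.not_not]
    exact fun h => hA i hi (inv_mem_iff.1 h)

omit hG hf hc in
/-- Conjugacy by an element of the group. -/
def CG (D : ChevalleyDatum) (g g' : GL D.Idx F) : Prop := ∃ y ∈ D.group F, g' = y * g * y⁻¹

omit hG hf hc in
theorem CG.refl (g : GL D.Idx F) : CG D g g := ⟨1, Subgroup.one_mem _, by simp⟩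

omit hG hf hc in
theorem CG.trans {g g' g'' : GL D.Idx F} (h : CG D g g') (h' : CG D g' g'') : CG D g g'' := by
  obtain ⟨y, hy, rfl⟩ := h
  obtain ⟨z, hz, rfl⟩ := h'
  exact ⟨z * y, Subgroup.mul_mem _ hz hy, by group⟩

omit hG hf hc in
theorem CG.inv {g g' : GL D.Idx F} (h : CG D g g') : CG D g⁻¹ g'⁻¹ := by
  obtain ⟨y, hy, rfl⟩ := h
  exact ⟨y, hy, by group⟩

omit hG hf hc in
/-- Pairwise orthogonal nodes. -/
def Indep (D : ChevalleyDatum) (A : Finset (Fin D.rank)) : Prop :=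
  ∀ i ∈ A, ∀ j ∈ A, i ≠ j → D.cartan i.val (D.simple j.val) = 0

theorem rad_mono (b : Bool) {J K : Set ℕ} (h : J ⊆ K) : rad F hG b K ≤ rad F hG b J :=
  rootGen_mono hG fun _ hr => ⟨hr.1, fun hJ => hr.2 ⟨hJ.1, fun i hi hiK => hJ.2 i hi fun hiJ => hiK (h hiJ)⟩⟩

/-- An opposite root element of an orthogonal node does not create a coordinate. -/
theorem rad_of_conj (b : Bool) {i j : Fin D.rank} (hij : i ≠ j) (h0 : D.cartan i.val (D.simple j.val) = 0)
    (h0' : D.cartan j.val (D.simple i.val) = 0) (r : F) {v : GL D.Idx F} (hv : v ∈ rad F hG b {i.val})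
    (h : xe hG (sroot D (!b) i) r * v * (xe hG (sroot D (!b) i) r)⁻¹ ∈ rad F hG b {j.val}) :
    v ∈ rad F hG b {j.val} := by
  have hij' : i.val ≠ j.val := fun h => hij (Fin.ext h)
  obtain ⟨l, hl, w, hw, rfl⟩ := exists_split hG hf hc b {i.val, j.val} (rad_le_uni hG hf hc b _ hv)
  have hcomm := fun t u => sroot_commute_orth hG hf hc b (F := F) i.2 j.2 hij' h0 h0' t u
  have hi' := sroot_lt hG hf hc b i.2
  have hj' := sroot_lt hG hf hc b j.2
  obtain ⟨a, e, rfl⟩ : ∃ a e : F, l = xe hG (sroot D b i) a * xe hG (sroot D b j) e := by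
    refine Subgroup.closure_induction (p := fun g _ => ∃ a e : F, g = xe hG (sroot D b i) a * xe hG (sroot D b j) e)
      ?_ ⟨0, 0, by rw [xe_zero hG hi', xe_zero hG hj', one_mul]⟩ ?_ ?_ hl
    · rintro _ ⟨s, ⟨hs, hsJ⟩, t, rfl⟩
      obtain ⟨k, hk, hkJ, hsk⟩ := root_orth hG hf hc (J := {i.val, j.val}) (fun p hp q hq _ _ hpq => by
          rcases hp with rfl | rfl <;> rcases hq with rfl | rfl
          · exact absurd rfl hpq
          · exact h0
          · exact h0'
          · exact absurd rfl hpq) hs hsJ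
      rcases hkJ with rfl | rfl
      · exact ⟨t, 0, by rw [hsk, xe_zero hG hj', mul_one]⟩
      · exact ⟨0, t, by rw [hsk, xe_zero hG hi', one_mul]⟩
    · rintro _ _ _ _ ⟨a, e, rfl⟩ ⟨a', e', rfl⟩
      refine ⟨a + a', e + e', ?_⟩
      rw [← xe_add hG hi', ← xe_add hG hj', mul_assoc, ← mul_assoc (xe hG (sroot D b j) e),
        ← (hcomm a' e).eq]
      group
    · rintro _ _ ⟨a, e, rfl⟩
      exact ⟨-a, -e, by rw [← xe_inv hG hi', ← xe_inv hG hj', mul_inv_rev, ((hcomm a e).inv_inv).eq]⟩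
  have hwi : w ∈ rad F hG b {i.val} := rad_mono hG hf hc b (by simp) hw
  have hwj : w ∈ rad F hG b {j.val} := rad_mono hG hf hc b (by simp) hw
  have hrest : xe hG (sroot D b j) e * w ∈ rad F hG b {i.val} :=
    Subgroup.mul_mem _ (sroot_mem_rad hG hf hc b j.2 hij'.symm e) hwi
  rw [mul_assoc] at hv
  obtain rfl := eq_zero_of_mem_rad hG hf hc b i.2 hrest hv
  rw [xe_zero hG hi', one_mul] at h ⊢
  set y := xe hG (sroot D (!b) i) r with hy
  have hyw : y * w * y⁻¹ ∈ rad F hG b {j.val} := rad_mono hG hf hc b (by simp)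
    (rad_conj hG hf hc (sroot_lt hG hf hc (!b) i.2)
      (Or.inr (inRootSub_sroot hG hf hc (!b) i.2 (by simp))) r hw)
  have hye : y * xe hG (sroot D b j) e = xe hG (sroot D b j) e * y :=
    ((sroot_commute hG hf hc b j.2 i.2 hij'.symm e r).eq).symm
  rw [show y * (xe hG (sroot D b j) e * w) * y⁻¹ = xe hG (sroot D b j) e * (y * w * y⁻¹) by
    rw [← mul_assoc, hye]; group] at h
  obtain rfl := eq_zero_of_mem_rad hG hf hc b j.2 hyw h
  rw [xe_zero hG hj', one_mul]
  exact hwj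

/-- Multiplying the torus part by a coroot value at a node with nonzero coordinate. -/
theorem step_torus {b : Bool} {g : GL D.Idx F} {c : Fin D.rank → Fˣ} {A B : Finset (Fin D.rank)}
    (hA : Indep D A) {i : Fin D.rank} (hi : i ∈ A) (hiB : i ∉ B) (h : St hG b g c A B) (l : Fˣ) :
    ∃ g', CG D g g' ∧ St hG b g' (c * Pi.mulSingle i (tu b l)) A B := by
  obtain ⟨n, hn, p, hp, rfl, hpA, hnB⟩ := h
  obtain ⟨a, v, hv, rfl⟩ := exists_coord hG hf hc b i.2 hp
  have ha : a ≠ 0 := by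
    rintro rfl
    exact hpA i hi (by rw [xe_zero hG (sroot_lt hG hf hc b i.2), one_mul]; exact hv)
  set r : F := (1 - (l : F)) / a with hr
  have hl : (l : F) = 1 - a * r := by rw [hr, mul_div_cancel₀ _ ha]; ring
  set y := xe hG (sroot D (!b) i) r with hy
  have hyv : y * v * y⁻¹ ∈ rad F hG b {i.val} :=
    rad_conj hG hf hc (sroot_lt hG hf hc (!b) i.2) (Or.inr (inRootSub_sroot hG hf hc (!b) i.2 (by simp))) r hv
  refine ⟨_, ⟨y, xe_mem_group hG (sroot_lt hG hf hc (!b) i.2) r, rfl⟩, _, ?_, _, ?_,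
    step_eq hG hf hc b i n v a r c l hl, fun j hj hm => ?_, fun j hj hm => ?_⟩
  · exact Subgroup.mul_mem _ (Subgroup.mul_mem _ (xe_mem_uni hG (spos_sroot hG hf hc (!b) i.2) _) hn)
      (xe_mem_uni hG (spos_sroot hG hf hc (!b) i.2) _)
  · exact Subgroup.mul_mem _ (xe_mem_uni hG (spos_sroot hG hf hc b i.2) _) (rad_le_uni hG hf hc b _ hyv)
  · by_cases hji : i = j
    · subst hji
      have := eq_zero_of_mem_rad hG hf hc b i.2 hyv hm
      exact ha ((div_eq_zero_iff.1 this).resolve_right l.ne_zero)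
    · have hji' : i.val ≠ j.val := fun h => hji (Fin.ext h)
      have h1 := (Subgroup.mul_mem_cancel_left _ (sroot_mem_rad hG hf hc b i.2 hji' _)).1 hm
      refine hpA j hj (Subgroup.mul_mem _ (sroot_mem_rad hG hf hc b i.2 hji' _) ?_)
      exact rad_of_conj hG hf hc b hji (hA i hi j hj hji) (hA j hj i hi (Ne.symm hji)) r hv h1
  · have hji : i.val ≠ j.val := fun h => hiB ((Fin.ext h : i = j) ▸ hj)
    refine hnB j hj ?_
    exact (Subgroup.mul_mem_cancel_left _ (sroot_mem_rad hG hf hc (!b) i.2 hji _)).1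
      ((Subgroup.mul_mem_cancel_right _ (sroot_mem_rad hG hf hc (!b) i.2 hji _)).1 hm)

/-- Making the character at `-β` nontrivial. -/
theorem step_char [Fintype F] (hq : 9 ≤ Fintype.card F)
    (hsmall : ∀ i j : Fin D.rank, (D.cartan i.val (D.simple j.val)).natAbs ≤ 3)
    {b : Bool} {g : GL D.Idx F} {c : Fin D.rank → Fˣ} {A B : Finset (Fin D.rank)} (hA : Indep D A)
    {α β : Fin D.rank} (hα : α ∈ A) (hαB : α ∉ B) (hβA : β ∉ A)
    (hadj : D.cartan α.val (D.simple β.val) ≠ 0)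
    {n p : GL D.Idx F} (hn : n ∈ uni F hG (!b)) (hp : p ∈ uni F hG b) (hg : g = n * torusHom F D c * p)
    (hpA : ∀ i ∈ A, p ∉ rad F hG b {i.val}) (hnB : ∀ i ∈ B, n ∉ rad F hG (!b) {i.val})
    (hnβ : n ∈ rad F hG (!b) {β.val}) :
    ∃ g1 c1, CG D g g1 ∧
      (∃ n1 ∈ uni F hG (!b), ∃ p1 ∈ uni F hG b, g1 = n1 * torusHom F D c1 * p1 ∧
        (∀ i ∈ A, p1 ∉ rad F hG b {i.val}) ∧ (∀ i ∈ B, n1 ∉ rad F hG (!b) {i.val}) ∧
        n1 ∈ rad F hG (!b) {β.val}) ∧ torusChar D c1 (sroot D (!b) β) ≠ 1 := by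
  classical
  by_cases hk : torusChar D c (sroot D (!b) β) ≠ 1
  · exact ⟨g, c, CG.refl g, ⟨n, hn, p, hp, hg, hpA, hnB, hnβ⟩, hk⟩
  push Not at hk
  obtain ⟨w, hw⟩ := IsCyclic.exists_generator (α := Fˣ)
  obtain ⟨a, v, hv, hpe⟩ := exists_coord hG hf hc b α.2 hp
  have ha : a ≠ 0 := by
    rintro rfl
    exact hpA α hα (by rw [hpe, xe_zero hG (sroot_lt hG hf hc b α.2), one_mul]; exact hv)
  set r : F := (1 - (w : F)) / a with hr
  have hl : (w : F) = 1 - a * r := by rw [hr, mul_div_cancel₀ _ ha]; ring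
  set y := xe hG (sroot D (!b) α) r with hy
  have hyv : y * v * y⁻¹ ∈ rad F hG b {α.val} :=
    rad_conj hG hf hc (sroot_lt hG hf hc (!b) α.2) (Or.inr (inRootSub_sroot hG hf hc (!b) α.2 (by simp))) r hv
  refine ⟨_, c * Pi.mulSingle α (tu b w), ⟨y, xe_mem_group hG (sroot_lt hG hf hc (!b) α.2) r, rfl⟩,
    ⟨_, ?_, _, ?_, (by rw [hg, hpe]; exact step_eq hG hf hc b α n v a r c w hl), fun j hj hm => ?_,
      fun j hj hm => ?_, ?_⟩, ?_⟩
  · exact Subgroup.mul_mem _ (Subgroup.mul_mem _ (xe_mem_uni hG (spos_sroot hG hf hc (!b) α.2) _) hn)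
      (xe_mem_uni hG (spos_sroot hG hf hc (!b) α.2) _)
  · exact Subgroup.mul_mem _ (xe_mem_uni hG (spos_sroot hG hf hc b α.2) _) (rad_le_uni hG hf hc b _ hyv)
  · by_cases hjα : α = j
    · subst hjα
      have := eq_zero_of_mem_rad hG hf hc b α.2 hyv hm
      exact ha ((div_eq_zero_iff.1 this).resolve_right w.ne_zero)
    · have hjα' : α.val ≠ j.val := fun h => hjα (Fin.ext h)
      have h1 := (Subgroup.mul_mem_cancel_left _ (sroot_mem_rad hG hf hc b α.2 hjα' _)).1 hm
      refine hpA j hj (hpe ▸ Subgroup.mul_mem _ (sroot_mem_rad hG hf hc b α.2 hjα' _) ?_)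
      exact rad_of_conj hG hf hc b hjα (hA α hα j hj hjα) (hA j hj α hα (Ne.symm hjα)) r hv h1
  · have hjα : α.val ≠ j.val := fun h => hαB ((Fin.ext h : α = j) ▸ hj)
    exact hnB j hj ((Subgroup.mul_mem_cancel_left _ (sroot_mem_rad hG hf hc (!b) α.2 hjα _)).1
      ((Subgroup.mul_mem_cancel_right _ (sroot_mem_rad hG hf hc (!b) α.2 hjα _)).1 hm))
  · have hαβ : α.val ≠ β.val := fun h => hβA ((Fin.ext h : α = β) ▸ hα)
    exact Subgroup.mul_mem _ (Subgroup.mul_mem _ (sroot_mem_rad hG hf hc (!b) α.2 hαβ _) hnβ)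
      (sroot_mem_rad hG hf hc (!b) α.2 hαβ _)
  · rw [torusChar_mul, hk, one_mul]
    set e := D.cartan α.val (sroot D (!b) β) with he
    have hee : e.natAbs ≤ 3 ∧ e ≠ 0 := by
      have h1 := hsmall α β
      cases b
      · exact ⟨h1, hadj⟩
      · simp only [he, sroot, Bool.not_true, Bool.false_eq_true, if_false,
          cartan_neg_out hG α.2 (hG.simple_lt β.2), Int.natAbs_neg, neg_ne_zero]
        exact ⟨h1, hadj⟩
    have hch : torusChar D (Pi.mulSingle α (tu b w)) (sroot D (!b) β) = tu b w ^ e := by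
      rw [torusChar, Finset.prod_eq_single α]
      · simp [he]
      · intro j _ hj; simp [Pi.mulSingle_eq_of_ne hj]
      · simp
    rw [hch]
    intro h1
    have h2 : w ^ e = 1 := by
      cases b
      · simp only [tu, Bool.false_eq_true, if_false, inv_zpow, inv_eq_one] at h1
        exact h1
      · simpa [tu] using h1
    have h3 := orderOf_dvd_iff_zpow_eq_one.2 h2
    rw [orderOf_eq_card_of_forall_mem_zpowers hw, Nat.card_eq_fintype_card, Fintype.card_units] at h3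
    have h4 := Nat.le_of_dvd (Int.natAbs_pos.2 hee.2) (Int.natCast_dvd.1 h3)
    omega

/-- Creating a coordinate on the opposite side next to a nonzero one. -/
theorem step_spread [Fintype F] (hq : 9 ≤ Fintype.card F)
    (hsmall : ∀ i j : Fin D.rank, (D.cartan i.val (D.simple j.val)).natAbs ≤ 3)
    {b : Bool} {g : GL D.Idx F} {c : Fin D.rank → Fˣ} {A B : Finset (Fin D.rank)} (hA : Indep D A)
    {α β : Fin D.rank} (hα : α ∈ A) (hαB : α ∉ B) (hβA : β ∉ A) (hβB : β ∉ B)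
    (hadj : D.cartan α.val (D.simple β.val) ≠ 0)
    (hfar : ∀ j ∈ A, j ≠ α → D.cartan β.val (D.simple j.val) = 0 ∧ D.cartan j.val (D.simple β.val) = 0)
    (h : St hG b g c A B) : ∃ g' c', CG D g g' ∧ St hG b g' c' A (insert β B) := by
  classical
  obtain ⟨n, hn, p, hp, hg, hpA, hnB⟩ := id h
  by_cases hnβ : n ∈ rad F hG (!b) {β.val}
  swap
  · exact ⟨g, c, CG.refl g, n, hn, p, hp, hg, hpA, fun i hi => (Finset.mem_insert.1 hi).elim (fun h => h ▸ hnβ) (hnB i)⟩
  obtain ⟨g1, c1, hg1, hst1, hk⟩ := step_char hG hf hc hq hsmall hA hα hαB hβA hadj hn hp hg hpA hnB hnβ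
  obtain ⟨n1, hn1, p1, hp1, rfl, hpA1, hnB1, hnβ1⟩ := hst1
  obtain ⟨a, v, hv, rfl⟩ := exists_coord hG hf hc b β.2 hp1
  set k := torusChar D c1 (sroot D (!b) β)
  have hαβ : α.val ≠ β.val := fun h => hβA ((Fin.ext h : α = β) ▸ hα)
  have hvα : v ∉ rad F hG b {α.val} := fun h => hpA1 α hα
    (Subgroup.mul_mem _ (sroot_mem_rad hG hf hc b β.2 hαβ.symm _) h)
  rw [mem_rad_iff_comp hG hf hc b α.2 (rad_le_uni hG hf hc b _ hv)] at hvα
  obtain ⟨S, hS, -, hSr⟩ := comp_conj_bad hG hf hc b α.2 β.2 hαβ hvα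
  obtain ⟨r, -, hr⟩ := Finset.exists_mem_notMem_of_card_lt_card
    (s := S ∪ {0, 1 / a, (1 - (k : F)) / a}) (t := (Finset.univ : Finset F)) (by
      have h1 := Finset.card_union_le S {0, 1 / a, (1 - (k : F)) / a}
      have h2 := Finset.card_le_three (a := (0 : F)) (b := 1 / a) (c := (1 - (k : F)) / a)
      rw [Finset.card_univ]
      omega)
  simp only [Finset.mem_union, Finset.mem_insert, Finset.mem_singleton, not_or] at hr
  obtain ⟨hrS, hr0, hr1, hr2⟩ := hr
  have hl0 : 1 - a * r ≠ 0 := fun h => by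
    have ha : a ≠ 0 := fun ha => by simp [ha] at h
    exact hr1 (by field_simp; linear_combination -h)
  set l : Fˣ := Units.mk0 _ hl0 with hld
  have hlk : (l : F) ≠ k := by
    intro h
    rw [hld, Units.val_mk0] at h
    by_cases ha : a = 0
    · exact hk (Units.ext (by rw [ha] at h; simpa using h.symm))
    · exact hr2 (by field_simp; linear_combination -h)
  set y := xe hG (sroot D (!b) β) r with hy
  have hyv : y * v * y⁻¹ ∈ rad F hG b {β.val} :=
    rad_conj hG hf hc (sroot_lt hG hf hc (!b) β.2) (Or.inr (inRootSub_sroot hG hf hc (!b) β.2 (by simp))) r hv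
  have e := step_eq hG hf hc b β n1 v a r c1 l (Units.val_mk0 hl0)
  rw [← hy] at e
  refine ⟨y * (n1 * torusHom F D c1 * (xe hG (sroot D b β) a * v)) * y⁻¹, c1 * Pi.mulSingle β (tu b l),
    hg1.trans ⟨y, xe_mem_group hG (sroot_lt hG hf hc (!b) β.2) r, rfl⟩, ?_⟩
  refine ⟨y * n1 * xe hG (sroot D (!b) β) ((torusChar D c1 (sroot D (!b) β) : F) * (-r / (l : F))), ?_,
    xe hG (sroot D b β) (a / (l : F)) * (y * v * y⁻¹), ?_, by rw [e], fun j hj hm => ?_, fun j hj hm => ?_⟩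
  · exact Subgroup.mul_mem _ (Subgroup.mul_mem _ (xe_mem_uni hG (spos_sroot hG hf hc (!b) β.2) _) hn1)
      (xe_mem_uni hG (spos_sroot hG hf hc (!b) β.2) _)
  · exact Subgroup.mul_mem _ (xe_mem_uni hG (spos_sroot hG hf hc b β.2) _) (rad_le_uni hG hf hc b _ hyv)
  · have hjβ : β.val ≠ j.val := fun h => hβA ((Fin.ext h : β = j) ▸ hj)
    have h1 := (Subgroup.mul_mem_cancel_left _ (sroot_mem_rad hG hf hc b β.2 hjβ _)).1 hm
    by_cases hjα : j = α
    · subst hjα
      exact hSr r hrS ((mem_rad_iff_comp hG hf hc b j.2 (rad_le_uni hG hf hc b _ hyv)).1 h1)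
    · refine hpA1 j hj (Subgroup.mul_mem _ (sroot_mem_rad hG hf hc b β.2 hjβ _) ?_)
      exact rad_of_conj hG hf hc b (fun h => hjβ (congrArg Fin.val h)) (hfar j hj hjα).1 (hfar j hj hjα).2 r hv h1
  · rcases Finset.mem_insert.1 hj with rfl | hj
    · have hyn : y * n1 * y⁻¹ ∈ rad F hG (!b) {j.val} :=
        rad_conj hG hf hc (sroot_lt hG hf hc (!b) j.2) (Or.inr (inRootSub_sroot hG hf hc (!b) j.2 (by simp))) r hnβ1
      have he : y * n1 * xe hG (sroot D (!b) j) ((k : F) * (-r / l)) =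
          (y * n1 * y⁻¹) * xe hG (sroot D (!b) j) (r + (k : F) * (-r / l)) := by
        rw [← xe_add hG (sroot_lt hG hf hc (!b) j.2), hy]; group
      rw [he] at hm
      have h2 := (Subgroup.mul_mem_cancel_left _ hyn).1 hm
      have h3 := eq_zero_of_mem_rad hG hf hc (!b) j.2 (v := 1) (Subgroup.one_mem _) (by rwa [mul_one])
      have h4 : r * ((l : F) - k) = 0 := by
        have hl' := l.ne_zero
        field_simp at h3
        linear_combination h3
      exact (mul_ne_zero hr0 (sub_ne_zero.2 hlk)) h4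
    · have hjβ : β.val ≠ j.val := fun h => hβB ((Fin.ext h : β = j) ▸ hj)
      exact hnB1 j hj ((Subgroup.mul_mem_cancel_left _ (sroot_mem_rad hG hf hc (!b) β.2 hjβ _)).1
        ((Subgroup.mul_mem_cancel_right _ (sroot_mem_rad hG hf hc (!b) β.2 hjβ _)).1 hm))

end Cfsg.Agent.Thompson.Sides
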