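import Cfsg.Agent.Lib.Thompson.RegMatrix

/-!
Thompson's class-square property for `PSL_n(F)`, `n ≥ 2`, `|F| ≥ 4`.
-/

set_option autoImplicit false

open Matrix

namespace Cfsg.Agent.Thompson

universe u

variable {F : Type u} [Field F] [Fintype F]

/-- A unit different from `1` and `-1`. -/
theorem exists_unit_sq_ne_one (h : 4 ≤ Fintype.card F) : ∃ c : F, c ≠ 0 ∧ c * c ≠ 1 := by
  classical
  by_contra hne
  push Not at hne
  have hsub : (Finset.univ : Finset F) ⊆ {0, 1, -1} := fun x _ => by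
    by_cases hx : x = 0
    · simp [hx]
    · rcases mul_self_eq_one_iff.1 (hne x hx) with hx1 | hx1 <;> simp [hx1]
  have := (Finset.card_le_card hsub).trans Finset.card_le_three
  rw [Finset.card_univ] at this
  omega

variable {k : ℕ} {c : F}

theorem sl_conj (hq : 4 ≤ Fintype.card F) (hc : c ≠ 0) (hc2 : c * c ≠ 1)
    {D E : Matrix.SpecialLinearGroup (Fin (k + 2)) F} (hD : MReg c k (D : Matrix (Fin (k + 2)) (Fin (k + 2)) F))
    (hE : MReg c k (E : Matrix (Fin (k + 2)) (Fin (k + 2)) F)) : ∃ u, E = u * D * u⁻¹ := by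
  obtain ⟨P, hP, hPD⟩ := hD.similar_det hq hc hc2 hE one_ne_zero
  refine ⟨⟨P, hP⟩, eq_mul_inv_iff_mul_eq.2 (Subtype.ext ?_)⟩
  exact hPD.symm

/-- The class square covers `SL` up to scalars. -/
theorem sl_square (hq : 4 ≤ Fintype.card F) (k : ℕ) :
    ∃ D : Matrix.SpecialLinearGroup (Fin (k + 2)) F, (∃ w, D⁻¹ = w * D * w⁻¹) ∧
      ∀ A : Matrix.SpecialLinearGroup (Fin (k + 2)) F,
        (∀ a : F, (A : Matrix (Fin (k + 2)) (Fin (k + 2)) F) ≠ a • 1) →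
        ∃ u v, A = (u * D * u⁻¹) * (v * D * v⁻¹) := by
  obtain ⟨c, hc, hc2⟩ := exists_unit_sq_ne_one hq
  obtain ⟨D₀, hD₀, -⟩ := exists_mReg hq hc hc2 k
  let D : Matrix.SpecialLinearGroup (Fin (k + 2)) F := ⟨D₀, hD₀.det_eq_one hc⟩
  have hinv : ∀ E : Matrix.SpecialLinearGroup (Fin (k + 2)) F, MReg c k (E : Matrix (Fin (k + 2)) (Fin (k + 2)) F) →
      MReg c k ((E⁻¹ : Matrix.SpecialLinearGroup (Fin (k + 2)) F) : Matrix (Fin (k + 2)) (Fin (k + 2)) F) := by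
    intro E hE
    have := hE.inv hc
    rwa [Matrix.inv_def, E.2, Ring.inverse_one, one_smul, ← Matrix.SpecialLinearGroup.coe_inv] at this
  refine ⟨D, sl_conj (D := D) hq hc hc2 hD₀ (hinv D hD₀), fun A hA => ?_⟩
  obtain ⟨y, hy, hAy, -⟩ := exists_cover hq hc hc2 (A : Matrix (Fin (k + 2)) (Fin (k + 2)) F) A.2 hA
  let Y : Matrix.SpecialLinearGroup (Fin (k + 2)) F := ⟨y, hy.det_eq_one hc⟩
  obtain ⟨u, hu⟩ := sl_conj (D := D) (E := A * Y) hq hc hc2 hD₀ hAy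
  obtain ⟨v, hv⟩ := sl_conj (D := D) (E := Y⁻¹) hq hc hc2 hD₀ (hinv Y hy)
  exact ⟨u, v, by rw [← hu, ← hv, mul_inv_cancel_right]⟩

/-- Transport of the property along a surjection killing the exceptional elements. -/
theorem square_of_surjective {G H : Type*} [Group G] [Group H] (π : G →* H) (hπ : Function.Surjective π) (D : G)
    (hD : ∃ w, D⁻¹ = w * D * w⁻¹) (P : G → Prop) (hker : ∀ g, ¬ P g → π g = 1)
    (hcov : ∀ g, P g → ∃ u v, g = (u * D * u⁻¹) * (v * D * v⁻¹)) :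
    ∃ c : H, ∀ h : H, ∃ x y : H, h = (x * c * x⁻¹) * (y * c * y⁻¹) := by
  refine ⟨π D, fun h => ?_⟩
  obtain ⟨g, rfl⟩ := hπ h
  by_cases hg : P g
  · obtain ⟨u, v, rfl⟩ := hcov g hg
    exact ⟨π u, π v, by simp⟩
  · obtain ⟨w, hw⟩ := hD
    refine ⟨1, π w, ?_⟩
    rw [hker g hg, one_mul, inv_one, mul_one, ← map_inv π w, ← map_mul, ← map_mul, ← map_mul, ← hw,
      mul_inv_cancel, map_one]

theorem psl_square (hq : 4 ≤ Fintype.card F) (n : ℕ) (hn : 2 ≤ n) :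
    ∃ c : Matrix.ProjectiveSpecialLinearGroup (Fin n) F, ∀ g : Matrix.ProjectiveSpecialLinearGroup (Fin n) F,
      ∃ x y, g = (x * c * x⁻¹) * (y * c * y⁻¹) := by
  obtain ⟨k, rfl⟩ : ∃ k, n = k + 2 := ⟨n - 2, by omega⟩
  obtain ⟨D, hD, hcov⟩ := sl_square hq k
  refine square_of_surjective (QuotientGroup.mk' _) (QuotientGroup.mk'_surjective _) D hD
    (fun A => ∀ a : F, (A : Matrix (Fin (k + 2)) (Fin (k + 2)) F) ≠ a • 1) (fun A hA => ?_) hcov
  push Not at hA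
  obtain ⟨a, ha⟩ := hA
  refine (QuotientGroup.eq_one_iff A).2 (Matrix.SpecialLinearGroup.mem_center_iff.2 ⟨a, ?_, ?_⟩)
  · simpa [ha, det_smul] using A.2
  · simp [ha, Matrix.scalar_apply, ← Matrix.smul_one_eq_diagonal]

end Cfsg.Agent.Thompson
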