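import Cfsg.Agent.Lib.Thompson.SymSelect

/-!
Choosing the parameters `(S, p)` of the unipotent radical of the Siegel parabolic of an orthogonal group (in dimension
`2m` or `2m + 1`) so that the corner `A + S C - 2 pᵀ c` becomes invertible, gets a prescribed determinant in its square
class, and is not scalar.
-/

set_option autoImplicit false

open Matrix

namespace Cfsg.Agent.Thompson.OrthSelect

universe u

variable {F : Type u} [Field F] {m : ℕ} {Z : Type} [Fintype Z] [Subsingleton Z]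

local notation "M" => Matrix (Fin m) (Fin m) F

/-- The condition on the parameters. -/
def Cond (S : M) (p : Matrix Z (Fin m) F) : Prop :=
  ∀ y, y ⬝ᵥ S *ᵥ y + p *ᵥ y ⬝ᵥ p *ᵥ y = 0

omit [Fintype Z] in
theorem dot_all_zero {n : Type} [Fintype n] {v : n → F} (h : ∀ a, a ⬝ᵥ v = 0) : v = 0 := by
  classical
  funext i
  simpa using h (Pi.single i 1)

theorem dot_self_eq_zero {v : Z → F} (h : v ⬝ᵥ v = 0) : v = 0 := by
  funext z
  have := uniqueOfSubsingleton z
  rw [dotProduct, Fintype.sum_unique, mul_self_eq_zero] at h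
  rw [Subsingleton.elim z default, h]
  rfl

/-- The polarised relation. -/
theorem polar_rel {A C : M} {c : Matrix Z (Fin m) F} (hq : ∀ x, A *ᵥ x ⬝ᵥ C *ᵥ x + c *ᵥ x ⬝ᵥ c *ᵥ x = 0)
    (x x' : Fin m → F) :
    A *ᵥ x ⬝ᵥ C *ᵥ x' + A *ᵥ x' ⬝ᵥ C *ᵥ x + 2 * (c *ᵥ x ⬝ᵥ c *ᵥ x') = 0 := by
  have h1 := hq (x + x')
  simp only [Matrix.mulVec_add, add_dotProduct, dotProduct_add] at h1
  rw [dotProduct_comm (c *ᵥ x') (c *ᵥ x)] at h1
  linear_combination h1 - hq x - hq x'

/-- An invertible companion on `F^d`. -/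
theorem exists_sigma (h2 : Nonempty Z → (2 : F) ≠ 0) (d : ℕ) (hd : IsEmpty Z → Even d) :
    ∃ (E : Matrix (Fin d) (Fin d) F) (π : Matrix Z (Fin d) F),
      (∀ z, z ⬝ᵥ E *ᵥ z + π *ᵥ z ⬝ᵥ π *ᵥ z = 0) ∧ ∀ z, E *ᵥ z = 0 → z = 0 := by
  classical
  rcases isEmpty_or_nonempty Z with hZ | hZ
  · obtain ⟨e, rfl⟩ := hd hZ
    let J0 : Matrix (Fin e ⊕ Fin e) (Fin e ⊕ Fin e) F := Matrix.J (Fin e) F
    refine ⟨Matrix.reindex finSumFinEquiv finSumFinEquiv J0, 0, fun z => ?_, fun z hz => ?_⟩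
    · rw [Matrix.zero_mulVec, dotProduct_zero, add_zero, Matrix.reindex_apply, Matrix.submatrix_mulVec_equiv,
        Equiv.symm_symm]
      simp only [dotProduct]
      rw [← Equiv.sum_comp finSumFinEquiv]
      simp [J0, Matrix.J, Matrix.fromBlocks_mulVec, Fintype.sum_sum_type, Matrix.neg_mulVec, mul_comm]
    · have hd' : (Matrix.reindex finSumFinEquiv finSumFinEquiv J0).det ≠ 0 := by
        rw [Matrix.det_reindex_self]; exact (Matrix.isUnit_det_J _ _).ne_zero
      by_contra hne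
      exact hd' (Matrix.exists_mulVec_eq_zero_iff.1 ⟨z, hne, hz⟩)
  · obtain ⟨z0⟩ := hZ
    have := uniqueOfSubsingleton z0
    let E : Matrix (Fin d) (Fin d) F := Matrix.of fun i j => if i = j then -1 else if i < j then -2 else 0
    refine ⟨E, Matrix.of fun _ _ => 1, fun z => ?_, fun z hz => ?_⟩
    · have hsym : E + Eᵀ = Matrix.of fun _ _ => (-2 : F) := by
        ext i j
        rcases lt_trichotomy i j with h | h | h
        · simp [E, h.ne, h.ne', h, h.not_gt]
        · subst h; simp [E]; ring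
        · simp [E, h.ne, h.ne', h, h.not_gt]
      have h1 : z ⬝ᵥ (E + Eᵀ) *ᵥ z = 2 * (z ⬝ᵥ E *ᵥ z) := by
        rw [Matrix.add_mulVec, dotProduct_add, Matrix.mulVec_transpose, dotProduct_comm z (z ᵥ* E),
          ← Matrix.dotProduct_mulVec]
        ring
      rw [hsym] at h1
      have h3 : (Matrix.of fun _ _ => (1 : F) : Matrix Z (Fin d) F) *ᵥ z = fun _ => ∑ i, z i := by
        funext i; simp [Matrix.mulVec, dotProduct]
      have h4 : z ⬝ᵥ (Matrix.of fun _ _ => (-2 : F)) *ᵥ z = -2 * ((∑ i, z i) * ∑ i, z i) := by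
        have h5 : (Matrix.of fun _ _ => (-2 : F) : Matrix (Fin d) (Fin d) F) *ᵥ z = fun _ => -2 * ∑ i, z i := by
          funext i
          simp [Matrix.mulVec, dotProduct, Finset.mul_sum]
        rw [h5]
        simp only [dotProduct, ← Finset.sum_mul]
        ring
      rw [h3]
      simp only [dotProduct, Fintype.sum_unique]
      refine mul_left_cancel₀ (h2 ⟨z0⟩) ?_
      show 2 * (z ⬝ᵥ E *ᵥ z + _) = _
      linear_combination h4 - h1
    · have hd' : E.det ≠ 0 := by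
        rw [Matrix.det_of_isUpperTriangular (fun i j h => by
          simp [E, (show j < i from h).ne', (show j < i from h).not_gt])]
        simp [E]
      by_contra hne
      exact hd' (Matrix.exists_mulVec_eq_zero_iff.1 ⟨z, hne, hz⟩)

/-- The corner can be made invertible. -/
theorem exists_invertible (h2 : Nonempty Z → (2 : F) ≠ 0) (A C : M) (c : Matrix Z (Fin m) F)
    (hq : ∀ x, A *ᵥ x ⬝ᵥ C *ᵥ x + c *ᵥ x ⬝ᵥ c *ᵥ x = 0)
    (hinj : ∀ x, A *ᵥ x = 0 → C *ᵥ x = 0 → c *ᵥ x = 0 → x = 0)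
    (hpar : IsEmpty Z → Even (Module.finrank F (LinearMap.ker A.mulVecLin))) :
    ∃ (S : M) (p : Matrix Z (Fin m) F), Cond S p ∧ (A + S * C - (2 : F) • (pᵀ * c)).det ≠ 0 := by
  classical
  obtain ⟨d, hd, ι, hAι, hιinj, hιsurj⟩ : ∃ (d : ℕ), (IsEmpty Z → Even d) ∧
      ∃ ι : (Fin d → F) →ₗ[F] (Fin m → F), (∀ a, A *ᵥ ι a = 0) ∧ (∀ a, ι a = 0 → a = 0) ∧
        ∀ x, A *ᵥ x = 0 → ∃ a, ι a = x := by
    let b := (Module.finBasis F (LinearMap.ker A.mulVecLin)).equivFun
    refine ⟨_, hpar, (LinearMap.ker A.mulVecLin).subtype ∘ₗ b.symm.toLinearMap,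
      fun a => LinearMap.mem_ker.1 (b.symm a).2, fun a ha => b.symm.map_eq_zero_iff.1 (Subtype.ext ha),
      fun x hx => ⟨b ⟨x, LinearMap.mem_ker.2 hx⟩, ?_⟩⟩
    show (LinearMap.ker A.mulVecLin).subtype (b.symm (b _)) = x
    rw [b.symm_apply_apply]
    rfl
  obtain ⟨E, π, hE, hEi⟩ := exists_sigma (Z := Z) h2 d hd
  have hcι : ∀ a, c *ᵥ ι a = 0 := fun a => dot_self_eq_zero (by
    have := hq (ι a)
    rwa [hAι, zero_dotProduct, zero_add] at this)
  have hker : LinearMap.ker (C.mulVecLin ∘ₗ ι) = ⊥ := by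
    refine LinearMap.ker_eq_bot'.2 fun a ha => ?_
    exact hιinj a (hinj _ (hAι a) ha (hcι a))
  obtain ⟨G, hG⟩ := LinearMap.exists_leftInverse_of_injective _ hker
  set P : Matrix (Fin d) (Fin m) F := LinearMap.toMatrix' G
  have hP : ∀ a, P *ᵥ (C *ᵥ ι a) = a := fun a => by
    rw [LinearMap.toMatrix'_mulVec]
    exact LinearMap.congr_fun hG a
  refine ⟨Pᵀ * E * P, π * P, fun y => ?_, ?_⟩
  · rw [← Matrix.mulVec_mulVec, ← Matrix.mulVec_mulVec, Matrix.dotProduct_mulVec y Pᵀ, Matrix.vecMul_transpose,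
      ← Matrix.mulVec_mulVec]
    exact hE (P *ᵥ y)
  intro hdet
  obtain ⟨x, hx, hx0⟩ := Matrix.exists_mulVec_eq_zero_iff.2 hdet
  set w : Fin d → F := E *ᵥ (P *ᵥ (C *ᵥ x)) - (2 : F) • (πᵀ *ᵥ (c *ᵥ x)) with hw
  have hx1 : A *ᵥ x + Pᵀ *ᵥ w = 0 := by
    rw [← hx0, hw, Matrix.mulVec_sub, Matrix.mulVec_smul, Matrix.sub_mulVec, Matrix.add_mulVec,
      Matrix.smul_mulVec, Matrix.transpose_mul]
    simp only [Matrix.mulVec_mulVec, Matrix.mul_assoc]
    abel
  have hw0 : w = 0 := by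
    refine dot_all_zero fun a => ?_
    have h3 := polar_rel hq x (ι a)
    rw [hAι, hcι, zero_dotProduct, dotProduct_zero, mul_zero, add_zero, add_zero] at h3
    have h4 : Pᵀ *ᵥ w ⬝ᵥ C *ᵥ ι a = w ⬝ᵥ a := by
      rw [Matrix.mulVec_transpose, ← Matrix.dotProduct_mulVec, hP]
    have h5 : (A *ᵥ x + Pᵀ *ᵥ w) ⬝ᵥ C *ᵥ ι a = 0 := by rw [hx1, zero_dotProduct]
    rwa [add_dotProduct, h3, zero_add, h4, dotProduct_comm] at h5
  have hAx : A *ᵥ x = 0 := by simpa [hw0] using hx1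
  obtain ⟨a, rfl⟩ := hιsurj x hAx
  rw [hw, hP, hcι, Matrix.mulVec_zero, smul_zero, sub_zero] at hw0
  exact hx (by rw [hEi a hw0, map_zero])

theorem mulVec_eq_zero_of {K : M} (h : ∀ y, K *ᵥ y = 0) : K = 0 :=
  Matrix.ext_iff_mulVec.2 fun y => by rw [h, Matrix.zero_mulVec]

/-- A prescribed determinant in the square class. -/
theorem exists_det_sq (K : M) (k : Matrix Z (Fin m) F) (hq : ∀ y, y ⬝ᵥ K *ᵥ y + k *ᵥ y ⬝ᵥ k *ᵥ y = 0)
    (hK : K ≠ 0) (η : F) :
    ∃ (S : M) (p : Matrix Z (Fin m) F), Cond S p ∧ (1 + S * K - (2 : F) • (pᵀ * k)).det = η * η := by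
  classical
  by_cases hk : k = 0
  · subst hk
    have halt : ∀ y, y ⬝ᵥ K *ᵥ y = 0 := fun y => by simpa using hq y
    obtain ⟨i, j, hij⟩ : ∃ i j, K i j ≠ 0 := by
      by_contra h; push Not at h; exact hK (Matrix.ext h)
    set u : Fin m → F := Pi.single i 1
    set v : Fin m → F := Pi.single j 1
    have ha : u ⬝ᵥ K *ᵥ v = K i j := by simp [u, v]
    have hb : v ⬝ᵥ K *ᵥ u = -K i j := by
      have := halt (u + v)
      rw [Matrix.mulVec_add, add_dotProduct, dotProduct_add, dotProduct_add, halt, halt, ha] at this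
      linear_combination this
    set t := (1 - η) / K i j
    refine ⟨vecMulVec (t • u) v + vecMulVec ((-t) • v) u, 0, fun y => ?_, ?_⟩
    · simp only [Matrix.add_mulVec, Matrix.vecMulVec_mulVec, Matrix.zero_mulVec, dotProduct_zero, add_zero,
        dotProduct_add, dotProduct_smul, op_smul_eq_smul, smul_eq_mul, dotProduct_comm y v,
        dotProduct_comm y u]
      ring
    · rw [Matrix.mul_zero, smul_zero, sub_zero, Matrix.add_mul, Matrix.vecMulVec_mul, Matrix.vecMulVec_mul,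
        det_one_add_pair]
      simp only [dotProduct_smul, ← Matrix.dotProduct_mulVec, halt, ha, hb, smul_eq_mul, mul_zero, sub_zero]
      have : t * K i j = 1 - η := div_mul_cancel₀ _ hij
      linear_combination (t * K i j - (1 + η)) * this
  · obtain ⟨z0, i, hzi⟩ : ∃ z i, k z i ≠ 0 := by
      by_contra h; push Not at h; exact hk (Matrix.ext h)
    have := uniqueOfSubsingleton z0
    set r : Fin m → F := Pi.single i ((1 - η) / k z0 i)
    have hkr : k z0 ⬝ᵥ r = 1 - η := by simp [r, mul_div_cancel₀ _ hzi]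
    refine ⟨-vecMulVec r r, Matrix.of fun _ => r, fun y => ?_, ?_⟩
    · rw [Matrix.neg_mulVec, Matrix.vecMulVec_mulVec, dotProduct_neg, op_smul_eq_smul, dotProduct_smul,
        smul_eq_mul, show (Matrix.of fun _ => r : Matrix Z (Fin m) F) *ᵥ y = fun _ => r ⬝ᵥ y from rfl,
        dotProduct_comm y r]
      simp [dotProduct]
    · have h1 : (Matrix.of fun _ => r : Matrix Z (Fin m) F)ᵀ * k = vecMulVec r (k z0) := by
        ext a b
        simp [Matrix.mul_apply, vecMulVec_apply, Subsingleton.elim default z0]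
      rw [h1, Matrix.neg_mul, Matrix.vecMulVec_mul,
        show (1 : M) + -vecMulVec r (r ᵥ* K) - (2 : F) • vecMulVec r (k z0) =
          1 + vecMulVec r (-(r ᵥ* K + (2 : F) • k z0)) by
          ext a b
          simp [vecMulVec_apply]
          ring,
        det_one_add_vecMulVec, neg_dotProduct, add_dotProduct, smul_dotProduct, ← Matrix.dotProduct_mulVec, hkr,
        smul_eq_mul]
      have h3 : k *ᵥ r ⬝ᵥ k *ᵥ r = (1 - η) * (1 - η) := by
        simp only [dotProduct, Fintype.sum_unique]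
        rw [show (k *ᵥ r) default = k default ⬝ᵥ r from rfl, Subsingleton.elim default z0, hkr]
      linear_combination -(hq r) + h3

theorem exists_orth (hm : 3 ≤ m) (f g : Fin m → F) : ∃ w : Fin m → F, w ≠ 0 ∧ f ⬝ᵥ w = 0 ∧ g ⬝ᵥ w = 0 := by
  classical
  let L : (Fin m → F) →ₗ[F] (Fin 2 → F) := (Matrix.of ![f, g]).mulVecLin
  have : LinearMap.ker L ≠ ⊥ := LinearMap.ker_ne_bot_of_finrank_lt (by simp; omega)
  obtain ⟨w, hw, hw0⟩ := Submodule.exists_mem_ne_zero_of_ne_bot this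
  exact ⟨w, hw0, congrFun (LinearMap.mem_ker.1 hw) 0, congrFun (LinearMap.mem_ker.1 hw) 1⟩

/-- Determinant one without being scalar. -/
theorem exists_nonscalar (K : M) (k : Matrix Z (Fin m) F)
    (hq : ∀ y, y ⬝ᵥ K *ᵥ y + k *ᵥ y ⬝ᵥ k *ᵥ y = 0) (hK : K ≠ 0) (hm : 3 ≤ m) :
    ∃ S : M, Cond S (0 : Matrix Z (Fin m) F) ∧ (1 + S * K).det = 1 ∧ ∀ a : F, 1 + S * K ≠ a • 1 := by
  classical
  obtain ⟨u, g, hgu, huK, hkg⟩ : ∃ u g : Fin m → F, g ⬝ᵥ u ≠ 0 ∧ u ᵥ* K ≠ 0 ∧
      ∀ w, g ⬝ᵥ w = 0 → k *ᵥ w = 0 := by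
    by_cases hk : k = 0
    · obtain ⟨i, hi⟩ : ∃ i, K i ≠ 0 := Function.ne_iff.1 hK
      refine ⟨Pi.single i 1, Pi.single i 1, by simp, ?_, fun w _ => by simp [hk]⟩
      rwa [Matrix.single_one_vecMul]
    · obtain ⟨z0, j, hzj⟩ : ∃ z i, k z i ≠ 0 := by
        by_contra h; push Not at h; exact hk (Matrix.ext h)
      have := uniqueOfSubsingleton z0
      refine ⟨Pi.single j 1, k z0, by simpa using hzj, fun h0 => hzj ?_, fun w hw => ?_⟩
      · have h1 := hq (Pi.single j 1)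
        rw [Matrix.dotProduct_mulVec, h0, zero_dotProduct, zero_add] at h1
        simpa using congrFun (dot_self_eq_zero h1) z0
      · funext z
        rw [Subsingleton.elim z z0]
        exact hw
  obtain ⟨w, hw, hw1, hwg⟩ := exists_orth hm (u ᵥ* K) g
  have hkw := hkg w hwg
  have hwKw : w ⬝ᵥ K *ᵥ w = 0 := by simpa [hkw] using hq w
  have huKw : u ⬝ᵥ K *ᵥ w = 0 := by rw [Matrix.dotProduct_mulVec]; exact hw1
  have hwKu : w ⬝ᵥ K *ᵥ u = 0 := by
    have := hq (u + w)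
    rw [Matrix.mulVec_add, Matrix.mulVec_add, hkw, add_zero, add_dotProduct, dotProduct_add, dotProduct_add,
      hwKw, huKw] at this
    linear_combination this - hq u
  set f1 := w ᵥ* K
  set f2 := u ᵥ* K
  refine ⟨vecMulVec u w + vecMulVec (-w) u, fun y => ?_, ?_, fun a ha => ?_⟩
  · simp only [Matrix.add_mulVec, Matrix.vecMulVec_mulVec, Matrix.zero_mulVec, dotProduct_zero, add_zero,
      dotProduct_add, dotProduct_smul, op_smul_eq_smul, smul_eq_mul, dotProduct_neg, dotProduct_comm y w,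
      dotProduct_comm y u]
    ring
  · rw [Matrix.add_mul, Matrix.vecMulVec_mul, Matrix.vecMulVec_mul, det_one_add_pair]
    simp only [dotProduct_neg, ← Matrix.dotProduct_mulVec, hwKw, huKw, hwKu]
    ring
  · rw [Matrix.add_mul, Matrix.vecMulVec_mul, Matrix.vecMulVec_mul] at ha
    obtain ⟨y, hy, hy1, hy2⟩ := exists_orth hm f1 f2
    have h1 := congrArg (· *ᵥ y) ha
    simp only [Matrix.add_mulVec, Matrix.one_mulVec, Matrix.vecMulVec_mulVec, op_smul_eq_smul,
      Matrix.smul_mulVec] at h1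
    rw [show w ᵥ* K ⬝ᵥ y = 0 from hy1, show u ᵥ* K ⬝ᵥ y = 0 from hy2, zero_smul, zero_smul, add_zero,
      add_zero] at h1
    have ha1 : a = 1 := by
      obtain ⟨i, hi⟩ := Function.ne_iff.1 hy
      exact mul_right_cancel₀ hi (((one_mul (y i)).trans (congrFun h1 i)).symm)
    rw [ha1, one_smul, add_eq_left] at ha
    obtain ⟨j, hj⟩ := Function.ne_iff.1 huK
    -- pair with the vector separating `u` from `w`
    have h6 : ∀ i, u i * f1 j - w i * f2 j = 0 := fun i => by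
      simpa [vecMulVec_apply, f1, f2, sub_eq_add_neg] using congrFun (congrFun ha i) j
    have h7 : (g ⬝ᵥ u) * f1 j - (g ⬝ᵥ w) * f2 j = 0 := by
      rw [dotProduct, dotProduct, Finset.sum_mul, Finset.sum_mul, ← Finset.sum_sub_distrib]
      exact Finset.sum_eq_zero fun i _ => by linear_combination g i * h6 i
    have hf1 : f1 j = 0 := by
      rw [hwg, zero_mul, sub_zero] at h7
      exact (mul_eq_zero.1 h7).resolve_left hgu
    obtain ⟨i, hi⟩ := Function.ne_iff.1 hw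
    have h8 := h6 i
    rw [hf1, mul_zero, zero_sub, neg_eq_zero] at h8
    exact mul_ne_zero hi hj h8

end Cfsg.Agent.Thompson.OrthSelect
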