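import Cfsg.Agent.Lib.Thompson.Trick
import Cfsg.Agent.Lib.Thompson.OrthSelect
import Cfsg.Agent.Lib.QForm.Levi
import Cfsg.Agent.Lib.QForm.OrthSumForm

/-!
The isometry group of `x ⬝ y + z ⬝ z` on `(F^m × F^m) × F^Z` (`|Z| ≤ 1`) in blocks: Levi elements, the two Siegel
unipotent radicals, an element of `Omega` exchanging the two totally singular halves, and the block decomposition.
-/

set_option autoImplicit false

open Matrix
open Cfsg.Agent

namespace Cfsg.Agent.Thompson.Orth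

noncomputable section

universe u

variable (F : Type u) [Field F] (m : ℕ) (Z : Type) [Fintype Z] [DecidableEq Z]

/-- `z ↦ z ⬝ z`. -/
noncomputable def sqForm : QuadraticForm F (Z → F) := QuadraticMap.weightedSumSquares F (fun _ : Z => (1 : F))

/-- `x ⬝ y + z ⬝ z`. -/
noncomputable def Q0 : QuadraticForm F ((Fin m ⊕ Fin m) ⊕ Z → F) :=
  QForm.sumForm (QForm.plusForm F m) (sqForm F Z)

variable {F m Z}

local notation "κ" => (Fin m ⊕ Fin m) ⊕ Z
local notation "M" => Matrix (Fin m) (Fin m) F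
local notation "GLm" => Matrix.GeneralLinearGroup (Fin m) F
local notation "MZ" => Matrix Z (Fin m) F

/-- A vector by its three parts. -/
abbrev vec (x y : Fin m → F) (z : Z → F) : (Fin m ⊕ Fin m) ⊕ Z → F := Sum.elim (Sum.elim x y) z

omit [Field F] [Fintype Z] [DecidableEq Z] in
theorem vec_eta (v : κ → F) : vec (fun i => v (.inl (.inl i))) (fun i => v (.inl (.inr i))) (fun i => v (.inr i)) = v := by
  funext i
  rcases i with (i | i) | i <;> rfl

omit [DecidableEq Z] in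
theorem sqForm_apply (z : Z → F) : sqForm F Z z = z ⬝ᵥ z := by
  simp [sqForm, QuadraticMap.weightedSumSquares_apply, dotProduct]

omit [DecidableEq Z] in
theorem Q0_vec (x y : Fin m → F) (z : Z → F) : Q0 F m Z (vec x y z) = x ⬝ᵥ y + z ⬝ᵥ z := by
  show QForm.plusForm F m ((vec x y z) ∘ Sum.inl) + sqForm F Z ((vec x y z) ∘ Sum.inr) = _
  rw [Sum.elim_comp_inl, Sum.elim_comp_inr, sqForm_apply, QForm.plusForm_apply]
  rfl

omit [DecidableEq Z] in
theorem polar_sq (u v : Z → F) : QuadraticMap.polar ⇑(sqForm F Z) u v = 2 * (u ⬝ᵥ v) := by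
  simp only [QuadraticMap.polar, sqForm_apply, add_dotProduct, dotProduct_add, dotProduct_comm v u]
  ring

theorem sqForm_nondegenerate (h2 : Nonempty Z → (2 : F) ≠ 0) :
    (QuadraticMap.polarBilin (sqForm F Z)).Nondegenerate := by
  have hs : ∀ u : Z → F, (∀ v, QuadraticMap.polar ⇑(sqForm F Z) u v = 0) → u = 0 := fun u h => by
    funext z
    have := h (Pi.single z 1)
    simp [polar_sq, h2 ⟨z⟩] at this
    exact this
  exact ⟨hs, fun v h => hs v fun u => (QuadraticMap.polar_comm _ v u).trans (h u)⟩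

theorem Q0_nondegenerate (h2 : Nonempty Z → (2 : F) ≠ 0) :
    (QuadraticMap.polarBilin (Q0 F m Z)).Nondegenerate :=
  QForm.sumForm_nondegenerate _ _ (QForm.plusForm_nondegenerate F m) (sqForm_nondegenerate h2)

set_option quotPrecheck false in
local notation "OG" => ↥(isometryGroup F ⇑(Q0 F m Z))
set_option quotPrecheck false in
local notation "ΩG" => Omega F ⇑(Q0 F m Z)

/-- The matrix of an isometry. -/
abbrev mat (g : OG) : Matrix ((Fin m ⊕ Fin m) ⊕ Z) ((Fin m ⊕ Fin m) ⊕ Z) F :=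
  ((g : Matrix.GeneralLinearGroup ((Fin m ⊕ Fin m) ⊕ Z) F) : Matrix _ _ F)

theorem mat_mul (g h : OG) : mat (g * h) = mat g * mat h := rfl
theorem mat_one : mat (1 : OG) = 1 := rfl
theorem mat_inj {g h : OG} (e : mat g = mat h) : g = h := Subtype.ext (Units.ext e)

theorem Q0_mat (g : OG) (v : κ → F) : Q0 F m Z (mat g *ᵥ v) = Q0 F m Z v := g.2 v v

/-- An isometry from a matrix with an inverse. -/
def mkIso (A A' : Matrix κ κ F) (h : A * A' = 1)
    (hQ : ∀ x y z, Q0 F m Z (A *ᵥ vec x y z) = Q0 F m Z (vec x y z)) : OG :=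
  ⟨⟨A, A', h, mul_eq_one_comm.1 h⟩, fun v _ => by
    show Q0 F m Z (A *ᵥ v) = Q0 F m Z v
    rw [← vec_eta v]
    exact hQ _ _ _⟩

/-- A matrix by nine blocks. -/
def blk (A B : M) (P : Matrix (Fin m) Z F) (C D : M) (R : Matrix (Fin m) Z F) (c d : MZ) (w : Matrix Z Z F) :
    Matrix ((Fin m ⊕ Fin m) ⊕ Z) ((Fin m ⊕ Fin m) ⊕ Z) F :=
  fromBlocks (fromBlocks A B C D) (fromRows P R) (fromCols c d) w

omit [DecidableEq Z] in
theorem blk_mul (A B : M) (P : Matrix (Fin m) Z F) (C D : M) (R : Matrix (Fin m) Z F) (c d : MZ) (w : Matrix Z Z F)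
    (A' B' : M) (P' : Matrix (Fin m) Z F) (C' D' : M) (R' : Matrix (Fin m) Z F) (c' d' : MZ) (w' : Matrix Z Z F) :
    blk A B P C D R c d w * blk A' B' P' C' D' R' c' d' w' =
      blk (A * A' + B * C' + P * c') (A * B' + B * D' + P * d') (A * P' + B * R' + P * w')
        (C * A' + D * C' + R * c') (C * B' + D * D' + R * d') (C * P' + D * R' + R * w')
        (c * A' + d * C' + w * c') (c * B' + d * D' + w * d') (c * P' + d * R' + w * w') := by
  ext ((i | i) | i) ((j | j) | j) <;> simp [blk, Matrix.mul_apply, Fintype.sum_sum_type]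

omit [DecidableEq Z] in
theorem blk_mulVec (A B : M) (P : Matrix (Fin m) Z F) (C D : M) (R : Matrix (Fin m) Z F) (c d : MZ)
    (w : Matrix Z Z F) (x y : Fin m → F) (z : Z → F) :
    blk A B P C D R c d w *ᵥ vec x y z =
      vec (A *ᵥ x + B *ᵥ y + P *ᵥ z) (C *ᵥ x + D *ᵥ y + R *ᵥ z) (c *ᵥ x + d *ᵥ y + w *ᵥ z) := by
  funext i
  rcases i with (i | i) | i <;> simp [blk, Matrix.mulVec, dotProduct, Fintype.sum_sum_type]

theorem blk_one : blk (1 : M) 0 0 0 1 0 0 0 1 = (1 : Matrix κ κ F) := by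
  ext ((i | i) | i) ((j | j) | j) <;> simp [blk, Matrix.one_apply]

omit [Field F] [Fintype Z] [DecidableEq Z] in
theorem blk_inj {A B : M} {P : Matrix (Fin m) Z F} {C D : M} {R : Matrix (Fin m) Z F} {c d : MZ} {w : Matrix Z Z F}
    {A' B' : M} {P' : Matrix (Fin m) Z F} {C' D' : M} {R' : Matrix (Fin m) Z F} {c' d' : MZ} {w' : Matrix Z Z F}
    (h : blk A B P C D R c d w = blk A' B' P' C' D' R' c' d' w') :
    A = A' ∧ B = B' ∧ P = P' ∧ C = C' ∧ D = D' ∧ R = R' ∧ c = c' ∧ d = d' ∧ w = w' := by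
  obtain ⟨h1, h2, h3, h4⟩ := fromBlocks_inj.1 h
  obtain ⟨a1, a2, a3, a4⟩ := fromBlocks_inj.1 h1
  obtain ⟨b1, b2⟩ := (fromRows_inj.eq_iff.1 h2)
  obtain ⟨c1, c2⟩ := (fromCols_inj.eq_iff.1 h3)
  exact ⟨a1, a2, b1, a3, a4, b2, c1, c2, h4⟩

omit [Field F] [Fintype Z] [DecidableEq Z] in
theorem exists_blk (W : Matrix κ κ F) : ∃ A B P C D R c d w, W = blk A B P C D R c d w :=
  ⟨_, _, _, _, _, _, _, _, _, by rw [blk, fromBlocks_toBlocks, fromRows_toRows, fromCols_toCols, fromBlocks_toBlocks]⟩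

/-- The Levi embedding. -/
noncomputable def dd : GLm →* OG :=
  (QForm.sumHom ⇑(QForm.plusForm F m) ⇑(sqForm F Z)).comp (MonoidHom.prod QForm.levi 1)

theorem mat_dd (A : GLm) :
    mat (dd A : OG) = blk (A : M) 0 0 0 ((A⁻¹ : GLm) : M)ᵀ 0 0 0 1 := by
  show ((QForm.sumHom ⇑(QForm.plusForm F m) ⇑(sqForm F Z) (QForm.levi A, 1) :
    Matrix.GeneralLinearGroup κ F) : Matrix κ κ F) = _
  rw [QForm.sumHom_val, QForm.coe_levi, ← Matrix.coe_units_inv]
  ext ((i | i) | i) ((j | j) | j) <;> simp [blk]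

/-- The condition on the parameters of a radical element. -/
abbrev Cond (S : M) (p : MZ) : Prop := OrthSelect.Cond S p

omit [DecidableEq Z] in
theorem Cond.mat_rel {S : M} {p : MZ} (h : Cond S p) : S + Sᵀ + (2 : F) • (pᵀ * p) = 0 := by
  refine Matrix.ext_iff_mulVec.2 fun y => ?_
  rw [Matrix.zero_mulVec]
  refine OrthSelect.dot_all_zero fun x => ?_
  have h1 := h (x + y)
  simp only [Matrix.mulVec_add, add_dotProduct, dotProduct_add] at h1
  rw [Matrix.add_mulVec, Matrix.add_mulVec, Matrix.smul_mulVec, dotProduct_add, dotProduct_add,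
    dotProduct_smul, smul_eq_mul, Matrix.mulVec_transpose, ← Matrix.mulVec_mulVec, Matrix.dotProduct_mulVec x pᵀ,
    Matrix.vecMul_transpose, dotProduct_comm x (y ᵥ* S), ← Matrix.dotProduct_mulVec]
  rw [dotProduct_comm (p *ᵥ y) (p *ᵥ x)] at h1
  linear_combination h1 - h x - h y

/-- The upper radical element. -/
def vv (S : M) (p : MZ) (h : Cond S p) : OG :=
  mkIso (blk 1 S (-((2 : F) • pᵀ)) 0 1 0 0 p 1) (blk 1 (-S - (2 : F) • (pᵀ * p)) ((2 : F) • pᵀ) 0 1 0 0 (-p) 1)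
    (by
      rw [blk_mul, ← blk_one]
      congr 1 <;> simp
      all_goals abel)
    fun x y z => by
      have e1 : pᵀ *ᵥ z ⬝ᵥ y = p *ᵥ y ⬝ᵥ z := by
        rw [Matrix.mulVec_transpose, ← Matrix.dotProduct_mulVec, dotProduct_comm]
      rw [blk_mulVec, Q0_vec, Q0_vec]
      simp only [Matrix.one_mulVec, Matrix.zero_mulVec, zero_add, add_zero, Matrix.neg_mulVec, Matrix.smul_mulVec,
        add_dotProduct, dotProduct_add, neg_dotProduct, smul_dotProduct, smul_eq_mul, dotProduct_comm (S *ᵥ y) y,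
        dotProduct_comm z (p *ᵥ y), e1]
      linear_combination h y

theorem mat_vv (S : M) (p : MZ) (h : Cond S p) :
    mat (vv S p h) = blk 1 S (-((2 : F) • pᵀ)) 0 1 0 0 p 1 := rfl

/-- The swap. -/
def J0 : OG :=
  mkIso (blk 0 1 0 1 0 0 0 0 1) (blk 0 1 0 1 0 0 0 0 1) (by rw [blk_mul, ← blk_one]; congr 1 <;> simp)
    fun x y z => by
      rw [blk_mulVec, Q0_vec, Q0_vec]
      simp [dotProduct_comm y x]

theorem mat_J0 : mat (J0 : OG) = blk 0 1 0 1 0 0 0 0 1 := rfl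

theorem J0_mul_self : (J0 : OG) * J0 = 1 :=
  mat_inj (by rw [mat_mul, mat_J0, blk_mul, mat_one, ← blk_one]; congr 1 <;> simp)

theorem J0_inv : (J0 : OG)⁻¹ = J0 := inv_eq_of_mul_eq_one_right J0_mul_self

/-- The lower radical element. -/
def uu (S : M) (p : MZ) (h : Cond S p) : OG := J0 * vv S p h * J0

theorem mat_uu (S : M) (p : MZ) (h : Cond S p) :
    mat (uu S p h) = blk 1 0 0 S 1 (-((2 : F) • pᵀ)) p 0 1 := by
  rw [uu, mat_mul, mat_mul, mat_J0, mat_vv, blk_mul, blk_mul]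
  congr 1 <;> simp

theorem cond_zero : Cond (0 : M) (0 : MZ) := fun y => by simp

omit [DecidableEq Z] in
theorem Cond.mul {S T : M} {p r : MZ} (h : Cond S p) (h' : Cond T r) :
    Cond (S + T - (2 : F) • (pᵀ * r)) (p + r) := fun y => by
  rw [Matrix.sub_mulVec, Matrix.add_mulVec, Matrix.smul_mulVec, ← Matrix.mulVec_mulVec, dotProduct_sub,
    dotProduct_add, dotProduct_smul, smul_eq_mul, Matrix.dotProduct_mulVec y pᵀ, Matrix.vecMul_transpose,
    Matrix.add_mulVec]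
  simp only [add_dotProduct, dotProduct_add, dotProduct_comm (r *ᵥ y) (p *ᵥ y)]
  linear_combination h y + h' y

omit [DecidableEq Z] in
theorem Cond.neg {S : M} {p : MZ} (h : Cond S p) : Cond (-S - (2 : F) • (pᵀ * p)) (-p) := fun y => by
  rw [Matrix.sub_mulVec, Matrix.neg_mulVec, Matrix.smul_mulVec, ← Matrix.mulVec_mulVec, dotProduct_sub,
    dotProduct_neg, dotProduct_smul, smul_eq_mul, Matrix.dotProduct_mulVec y pᵀ, Matrix.vecMul_transpose,
    Matrix.neg_mulVec, neg_dotProduct, dotProduct_neg, neg_neg]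
  linear_combination -(h y)

theorem vv_inv (S : M) (p : MZ) (h : Cond S p) : (vv S p h : OG)⁻¹ = vv _ _ h.neg := by
  refine inv_eq_of_mul_eq_one_right (mat_inj ?_)
  rw [mat_mul, mat_vv, mat_vv, mat_one, blk_mul, ← blk_one]
  congr 1 <;> simp
  all_goals abel

theorem uu_inv (S : M) (p : MZ) (h : Cond S p) : (uu S p h : OG)⁻¹ = uu _ _ h.neg := by
  rw [uu, uu, _root_.mul_inv_rev, _root_.mul_inv_rev, J0_inv, vv_inv, mul_assoc]

/-- The upper radical. -/
def Vp : Subgroup OG where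
  carrier := {g | ∃ S p h, g = vv S p h}
  one_mem' := ⟨0, 0, cond_zero, mat_inj (by rw [mat_one, mat_vv, ← blk_one]; congr 1; simp)⟩
  mul_mem' := by
    rintro _ _ ⟨S, p, h, rfl⟩ ⟨T, r, h', rfl⟩
    refine ⟨_, _, h.mul h', mat_inj ?_⟩
    rw [mat_mul, mat_vv, mat_vv, mat_vv, blk_mul]
    congr 1 <;> simp [add_comm]
    all_goals abel
  inv_mem' := by
    rintro _ ⟨S, p, h, rfl⟩
    exact ⟨_, _, _, vv_inv S p h⟩

/-- The lower radical. -/
def Vm : Subgroup OG := Vp.map (MulAut.conj (J0 : OG)).toMonoidHom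

theorem mem_Vm {g : OG} : g ∈ (Vm : Subgroup OG) ↔ J0 * g * J0⁻¹ ∈ (Vp : Subgroup OG) := by
  rw [Vm, Subgroup.mem_map_equiv, MulAut.conj_symm_apply, J0_inv]

theorem uu_mem (S : M) (p : MZ) (h : Cond S p) : uu S p h ∈ (Vm : Subgroup OG) :=
  ⟨vv S p h, ⟨S, p, h, rfl⟩, by
    show J0 * vv S p h * J0⁻¹ = uu S p h
    rw [J0_inv, uu]⟩

/-- The inverse transpose. -/
def tinv (A : GLm) : GLm :=
  ⟨((A⁻¹ : GLm) : M)ᵀ, (A : M)ᵀ, by rw [← Matrix.transpose_mul, Units.mul_inv, Matrix.transpose_one],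
    by rw [← Matrix.transpose_mul, Units.inv_mul, Matrix.transpose_one]⟩

theorem coe_tinv (A : GLm) : ((tinv A : GLm) : M) = ((A⁻¹ : GLm) : M)ᵀ := rfl
theorem coe_tinv_inv (A : GLm) : (((tinv A)⁻¹ : GLm) : M) = (A : M)ᵀ := rfl

theorem J0_dd (A : GLm) : J0 * dd A * J0⁻¹ = (dd (tinv A) : OG) := by
  rw [J0_inv]
  refine mat_inj ?_
  rw [mat_mul, mat_mul, mat_J0, mat_dd, mat_dd, blk_mul, blk_mul, coe_tinv, coe_tinv_inv]
  congr 1 <;> simp

theorem Cond.congr {S : M} {p : MZ} (h : Cond S p) (A : M) : Cond (A * S * Aᵀ) (p * Aᵀ) := fun y => by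
  rw [← Matrix.mulVec_mulVec, ← Matrix.mulVec_mulVec, ← Matrix.mulVec_mulVec, Matrix.dotProduct_mulVec y A,
    ← Matrix.mulVec_transpose]
  exact h (Aᵀ *ᵥ y)

theorem dd_vv (A : GLm) (S : M) (p : MZ) (h : Cond S p) :
    (dd A : OG) * vv S p h = vv ((A : M) * S * (A : M)ᵀ) (p * (A : M)ᵀ) (h.congr _) * dd A := by
  refine mat_inj ?_
  rw [mat_mul, mat_mul, mat_dd, mat_vv, mat_vv, blk_mul, blk_mul]
  have hA : (A : M)ᵀ * ((A⁻¹ : GLm) : M)ᵀ = 1 := by
    rw [← Matrix.transpose_mul, Units.inv_mul, Matrix.transpose_one]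
  rw [Matrix.coe_units_inv] at hA ⊢
  congr 1 <;> simp [Matrix.mul_assoc, Matrix.transpose_mul, hA]

theorem dd_conj_Vp (A : GLm) {z : OG} (hz : z ∈ (Vp : Subgroup OG)) : dd A * z * (dd A)⁻¹ ∈ (Vp : Subgroup OG) := by
  obtain ⟨S, p, h, rfl⟩ := hz
  rw [dd_vv, mul_inv_cancel_right]
  exact ⟨_, _, _, rfl⟩

theorem dd_norm_Vp (A : GLm) (z : OG) :
    z ∈ (Vp : Subgroup OG) ↔ dd A * z * (dd A)⁻¹ ∈ (Vp : Subgroup OG) := by
  refine ⟨dd_conj_Vp A, fun h => ?_⟩
  have := dd_conj_Vp A⁻¹ h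
  rwa [map_inv, show (dd A)⁻¹ * (dd A * z * (dd A)⁻¹) * (dd A : OG)⁻¹⁻¹ = z by group] at this

theorem dd_norm_Vm (A : GLm) (z : OG) :
    z ∈ (Vm : Subgroup OG) ↔ dd A * z * (dd A)⁻¹ ∈ (Vm : Subgroup OG) := by
  rw [mem_Vm, mem_Vm, show J0 * (dd A * z * (dd A)⁻¹) * (J0 : OG)⁻¹ =
    (J0 * dd A * J0⁻¹) * (J0 * z * J0⁻¹) * (J0 * dd A * J0⁻¹)⁻¹ by group, J0_dd]
  exact dd_norm_Vp _ _

/-- The fixed point criterion for the upper radical. -/
theorem fixFree_Vp (X : GLm) (hp : ∀ p : MZ, p * (X : M)ᵀ = p → p = 0)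
    (hS : ∀ S : M, (X : M) * S * (X : M)ᵀ = S → S = 0) : FixFree (Vp : Subgroup OG) (dd X) where
  norm_mem v hv := dd_conj_Vp X hv
  eq_one v hv hc := by
    obtain ⟨S, p, h, rfl⟩ := hv
    rw [dd_vv, mul_left_inj] at hc
    have h1 := congrArg mat hc
    rw [mat_vv, mat_vv] at h1
    obtain ⟨-, hB, -, -, -, -, -, hd, -⟩ := blk_inj h1
    refine mat_inj ?_
    rw [mat_vv, mat_one, hS S hB, hp p hd, ← blk_one]
    congr 1
    simp

theorem fixFree_Vm (X : GLm) (hX : FixFree (Vp : Subgroup OG) (dd (tinv X))) :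
    FixFree (Vm : Subgroup OG) (dd X) where
  norm_mem v hv := (dd_norm_Vm X v).1 hv
  eq_one v hv hc := by
    have h1 := hX.eq_one _ (mem_Vm.1 hv) (by
      rw [← J0_dd]
      calc J0 * dd X * J0⁻¹ * (J0 * v * J0⁻¹) = J0 * (dd X * v) * J0⁻¹ := by group
        _ = _ := by rw [hc]; group)
    calc v = J0⁻¹ * (J0 * v * J0⁻¹) * J0 := by group
      _ = 1 := by rw [h1]; group

variable [Fintype F]

instance : Finite OG := inferInstance

section Omega

variable (hq : 4 ≤ Fintype.card F) (h2 : Nonempty Z → (2 : F) ≠ 0)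

include hq in
theorem vv_mem_omega (S : M) (p : MZ) (h : Cond S p) : (vv S p h : OG) ∈ ΩG := by
  classical
  have hV : ∃ a : F, a ≠ 0 ∧ a * a ≠ 1 := by
    by_contra! hne
    have hsub : (Finset.univ : Finset F) ⊆ {0, 1, -1} := fun x _ => by
      by_cases hx : x = 0
      · simp [hx]
      · rcases mul_self_eq_one_iff.1 (hne x hx) with hx1 | hx1 <;> simp [hx1]
    have := (Finset.card_le_card hsub).trans Finset.card_le_three
    rw [Finset.card_univ] at this
    omega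
  obtain ⟨a, ha, ha2⟩ := hV
  let X : GLm := Matrix.GeneralLinearGroup.mkOfDetNeZero (a • (1 : M)) (by simp [Matrix.det_smul, ha])
  have hX : (X : M) = a • (1 : M) := rfl
  have ha1 : a ≠ 1 := fun h => ha2 (by rw [h, one_mul])
  have hff : FixFree (Vp : Subgroup OG) (dd X) := fixFree_Vp X (fun p hp => by
      rw [hX, Matrix.transpose_smul, Matrix.transpose_one, Matrix.mul_smul, Matrix.mul_one] at hp
      ext i j
      have := congrFun (congrFun hp i) j
      simp only [Matrix.smul_apply, smul_eq_mul] at this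
      exact (mul_eq_zero.1 (show (a - 1) * p i j = 0 by linear_combination this)).resolve_left (sub_ne_zero.2 ha1))
    fun S hS => by
      rw [hX, Matrix.transpose_smul, Matrix.transpose_one, Matrix.mul_smul, Matrix.mul_one, Matrix.smul_mul,
        Matrix.one_mul, smul_smul] at hS
      ext i j
      have := congrFun (congrFun hS i) j
      simp only [Matrix.smul_apply, smul_eq_mul] at this
      exact (mul_eq_zero.1 (show (a * a - 1) * S i j = 0 by linear_combination this)).resolve_left (sub_ne_zero.2 ha2)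
  obtain ⟨w, hw⟩ := hff.exists_conj_left (v := vv S p h) ⟨S, p, h, rfl⟩
  have e : (vv S p h : OG) = w * dd X * w⁻¹ * (dd X)⁻¹ := by rw [← hw, mul_inv_cancel_right]
  rw [e, ← commutatorElement_def]
  exact Subgroup.commutator_mem_commutator (Subgroup.mem_top _) (Subgroup.mem_top _)

include hq in
theorem uu_mem_omega (S : M) (p : MZ) (h : Cond S p) : (uu S p h : OG) ∈ ΩG := by
  have := Subgroup.Normal.conj_mem inferInstance _ (vv_mem_omega hq S p h) J0
  rwa [J0_inv] at this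

omit [Fintype F] in
theorem sum_inl_det {ι ι' : Type} [Fintype ι] [DecidableEq ι] [Fintype ι'] [DecidableEq ι']
    (A : Matrix ι ι F) : (Matrix.fromBlocks A 0 0 (1 : Matrix ι' ι' F)).det = A.det := by
  simp

/-- A summand element in `Omega` of the sum lies in `Omega` of the summand. -/
theorem mem_omega_of_sum {ι ι' : Type} [Fintype ι] [DecidableEq ι] [Fintype ι'] [DecidableEq ι']
    {Q₁ : QuadraticForm F (ι → F)} {Q₂ : QuadraticForm F (ι' → F)}
    (h₁ : (QuadraticMap.polarBilin Q₁).Nondegenerate) (h₂ : (QuadraticMap.polarBilin Q₂).Nondegenerate)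
    (hF : Fintype.card F ≠ 2) {g : ↥(isometryGroup F ⇑Q₁)}
    (h : QForm.sumHom ⇑Q₁ ⇑Q₂ (g, 1) ∈ Omega F ⇑(QForm.sumForm Q₁ Q₂)) : g ∈ Omega F ⇑Q₁ := by
  classical
  obtain ⟨vs, hvs, hg⟩ := QForm.exists_list h₁ (Or.inl hF) g
  let ws := vs.map fun v => Sum.elim v (0 : ι' → F)
  have hws : ∀ w ∈ ws, QForm.sumForm Q₁ Q₂ w ≠ 0 := by
    intro w hw
    obtain ⟨v, hv, rfl⟩ := List.mem_map.1 hw
    rw [QForm.sumForm_inl]
    exact hvs v hv
  let g' : ↥(isometryGroup F ⇑(QForm.sumForm Q₁ Q₂)) := QForm.sumHom ⇑Q₁ ⇑Q₂ (g, 1)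
  have hg' : ((g' : Matrix.GeneralLinearGroup (ι ⊕ ι') F) : Matrix (ι ⊕ ι') (ι ⊕ ι') F) =
      (ws.map fun v => reflectionMatrix ⇑(QForm.sumForm Q₁ Q₂) v).prod := by
    rw [QForm.prod_reflectionMatrix_inl, ← hg]
    exact QForm.sumHom_val _ _ _
  have hn := QForm.sumForm_nondegenerate Q₁ Q₂ h₁ h₂
  have hlen : ws.length = vs.length := List.length_map _
  by_cases hc : (2 : F) = 0
  · have : CharP F 2 := CharTwo.of_one_ne_zero_of_two_eq_zero one_ne_zero hc
    have := (QForm.mem_omega_iff_even hn (Or.inl hF) g' ws hws hg').1 h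
    exact QForm.mem_omega_of_even h₁ g vs hvs hg (hlen ▸ this)
  · obtain ⟨he, hs⟩ := (QForm.mem_omega_iff_of_prod hn hc g' ws hws hg').1 h
    refine (QForm.mem_omega_iff_of_prod h₁ hc g vs hvs hg).2 ⟨hlen ▸ he, ?_⟩
    have e : (ws.map fun v => QForm.sumForm Q₁ Q₂ v) = vs.map fun v => Q₁ v := by
      simp [ws, List.map_map, Function.comp_def, QForm.sumForm_inl]
    rwa [e] at hs

include hq h2 in
theorem dd_mem_omega_iff (hm : 1 ≤ m) (A : GLm) : (dd A : OG) ∈ ΩG ↔ IsSquare (A : M).det := by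
  have hF : Fintype.card F ≠ 2 := by omega
  rw [← QForm.levi_mem_omega_iff hm (Or.inl hF)]
  refine ⟨mem_omega_of_sum (QForm.plusForm_nondegenerate F m) (sqForm_nondegenerate h2) hF, fun h => ?_⟩
  exact QForm.sumHom_mem_omega _ _ h (one_mem _)

end Omega

end

end Cfsg.Agent.Thompson.Orth
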