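import Cfsg.Agent.Lib.Thompson.OrthStep

/-!
Thompson's class-square property for `PΩ(2m+1, F)` (odd order) and `PΩ⁺(2m, F)` over fields with at least eight
elements.
-/

set_option autoImplicit false

open Matrix
open Cfsg.Agent

noncomputable section

namespace Cfsg.Agent.Thompson.OrthClassical

universe u

variable {F : Type u} [Field F] {ι κ : Type} [Fintype ι] [DecidableEq ι] [Fintype κ] [DecidableEq κ]

theorem reindex_mem (e : ι ≃ κ) {Q : (ι → F) → F} {Q' : (κ → F) → F} (h : ∀ v, Q' v = Q (v ∘ e))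
    (g : Matrix.GeneralLinearGroup ι F) (hg : g ∈ isometryGroup F Q) :
    Units.mapEquiv (Matrix.reindexAlgEquiv F F e).toMulEquiv g ∈ isometryGroup F Q' := by
  intro u _
  show Q' ((Matrix.reindex e e (g : Matrix ι ι F)) *ᵥ u) = Q' u
  rw [h, h, Matrix.reindex_apply, Matrix.submatrix_mulVec_equiv, Equiv.symm_symm]
  have := hg (u ∘ e) (u ∘ e)
  simpa [Function.comp_assoc, Function.comp_def] using this

/-- Isometry groups of forms differing by a bijection of the coordinates. -/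
def reindexIso (e : ι ≃ κ) {Q : (ι → F) → F} {Q' : (κ → F) → F} (h : ∀ v, Q' v = Q (v ∘ e)) :
    ↥(isometryGroup F Q) ≃* ↥(isometryGroup F Q') where
  toFun g := ⟨_, reindex_mem e h g.1 g.2⟩
  invFun g := ⟨_, reindex_mem e.symm (Q := Q') (Q' := Q)
    (fun v => by rw [h]; simp [Function.comp_assoc]) g.1 g.2⟩
  left_inv g := Subtype.ext (Units.ext (by simp [Matrix.reindex_apply]))
  right_inv g := Subtype.ext (Units.ext (by simp [Matrix.reindex_apply]))
  map_mul' g g' := Subtype.ext (by simp)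

theorem coe_reindexIso (e : ι ≃ κ) {Q : (ι → F) → F} {Q' : (κ → F) → F} (h : ∀ v, Q' v = Q (v ∘ e))
    (g : ↥(isometryGroup F Q)) :
    ((reindexIso e h g : Matrix.GeneralLinearGroup κ F) : Matrix κ κ F) =
      Matrix.reindex e e ((g : Matrix.GeneralLinearGroup ι F) : Matrix ι ι F) := rfl

/-- A real element of `Omega` covering the nonscalar part. -/
def Covers (Q : (ι → F) → F) (x : ↥(isometryGroup F Q)) : Prop :=
  x ∈ Omega F Q ∧ (∃ w, w ∈ Omega F Q ∧ x⁻¹ = w * x * w⁻¹) ∧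
    ∀ g, g ∈ Omega F Q → (∀ a : F, ((g : Matrix.GeneralLinearGroup ι F) : Matrix ι ι F) ≠ a • 1) →
      ∃ p, p ∈ Omega F Q ∧ ∃ q, q ∈ Omega F Q ∧ g = p * x * p⁻¹ * (q * x * q⁻¹)

theorem map_omega (e : ι ≃ κ) {Q : (ι → F) → F} {Q' : (κ → F) → F} (h : ∀ v, Q' v = Q (v ∘ e)) :
    (Omega F Q).map (reindexIso e h).toMonoidHom = Omega F Q' := by
  rw [Omega, Omega, commutator_def, Subgroup.map_commutator,
    Subgroup.map_top_of_surjective _ (reindexIso e h).surjective, ← commutator_def]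

theorem Covers.transfer (e : ι ≃ κ) {Q : (ι → F) → F} {Q' : (κ → F) → F} (h : ∀ v, Q' v = Q (v ∘ e))
    {x : ↥(isometryGroup F Q)} (hx : Covers Q x) : Covers Q' (reindexIso e h x) := by
  obtain ⟨hxΩ, ⟨w, hw, hxw⟩, hcov⟩ := hx
  set T := reindexIso e h
  have hT : ∀ z, z ∈ Omega F Q → T z ∈ Omega F Q' := fun z hz => map_omega e h ▸ ⟨z, hz, rfl⟩
  refine ⟨hT x hxΩ, ⟨T w, hT w hw, by rw [← map_inv, hxw, map_mul, map_mul, map_inv]⟩, fun g hg hns => ?_⟩
  rw [← map_omega e h] at hg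
  obtain ⟨g0, hg0, rfl⟩ := hg
  obtain ⟨p, hp, q, hq, hpq⟩ := hcov g0 hg0 fun a ha => hns a (by
    show ((T g0 : Matrix.GeneralLinearGroup κ F) : Matrix κ κ F) = _
    rw [coe_reindexIso, ha, Matrix.reindex_apply]
    ext i j
    simp [Matrix.one_apply])
  refine ⟨T p, hT p hp, T q, hT q hq, ?_⟩
  show T g0 = _
  rw [hpq]
  simp only [map_mul, map_inv]

/-- From a covering element to the class square in the quotient by the centre. -/
theorem square_of_covers {Q : (ι → F) → F} {x : ↥(isometryGroup F Q)} (hx : Covers Q x) :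
    ∃ c : POmega F Q, ∀ g : POmega F Q, ∃ a b, g = (a * c * a⁻¹) * (b * c * b⁻¹) := by
  obtain ⟨hxΩ, ⟨w, hw, hxw⟩, hcov⟩ := hx
  refine square_of_surjective (QuotientGroup.mk' _) (QuotientGroup.mk'_surjective _)
    (⟨x, hxΩ⟩ : Omega F Q) ⟨⟨w, hw⟩, Subtype.ext hxw⟩
    (fun g => ∀ a : F, ((g.1 : Matrix.GeneralLinearGroup ι F) : Matrix ι ι F) ≠ a • 1) (fun g hg => ?_)
    fun g hg => ?_
  · push Not at hg
    obtain ⟨a, ha⟩ := hg
    refine (QuotientGroup.eq_one_iff g).2 (Subgroup.mem_center_iff.2 fun z => ?_)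
    refine Subtype.ext (Subtype.ext (Units.ext ?_))
    show ((z.1 : Matrix.GeneralLinearGroup ι F) : Matrix ι ι F) * (g.1 : Matrix.GeneralLinearGroup ι F) =
      ((g.1 : Matrix.GeneralLinearGroup ι F) : Matrix ι ι F) * (z.1 : Matrix.GeneralLinearGroup ι F)
    rw [ha]
    simp
  · obtain ⟨p, hp, q, hq, hpq⟩ := hcov g.1 g.2 hg
    exact ⟨⟨p, hp⟩, ⟨q, hq⟩, Subtype.ext hpq⟩

variable [Fintype F]

theorem pomega_odd_square (hq : 8 ≤ Fintype.card F) (m : ℕ) (hm : 3 ≤ m) (hodd : Odd (Fintype.card F)) :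
    ∃ c : POmega F (quadFormOdd m F), ∀ g : POmega F (quadFormOdd m F),
      ∃ a b, g = (a * c * a⁻¹) * (b * c * b⁻¹) := by
  obtain ⟨k, rfl⟩ : ∃ k, m = k + 2 := ⟨m - 2, by omega⟩
  have h2 : (2 : F) ≠ 0 := fun h => by
    have : CharP F 2 := CharTwo.of_one_ne_zero_of_two_eq_zero one_ne_zero h
    exact Nat.not_even_iff_odd.2 hodd (Nat.even_iff.2 (FiniteField.even_card_of_char_two (ringChar.eq F 2)))
  obtain ⟨x, hx, hreal, -, hcov⟩ := Orth.base_square (F := F) (k := k) (Z := Unit) hq (fun _ => h2) hm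
    (fun h => h.elim Unit.unit)
  refine square_of_covers (Covers.transfer (Q := ⇑(Orth.Q0 F (k + 2) Unit)) (Equiv.sumComm _ _) (fun v => ?_)
    (x := x) ⟨hx, hreal, hcov⟩)
  rw [← Orth.vec_eta (v ∘ _), Orth.Q0_vec]
  simp [quadFormOdd, dotProduct, sq, add_comm]

/-- The plus type in even rank, with an element without fixed vectors. -/
theorem plus_even_covers (hq : 8 ≤ Fintype.card F) (n : ℕ) (hn : 4 ≤ n) (he : Even n) :
    ∃ x : ↥(isometryGroup F (quadFormPlus n F)), Covers (quadFormPlus n F) x ∧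
      ∀ v : Fin n ⊕ Fin n → F,
        ((x : Matrix.GeneralLinearGroup (Fin n ⊕ Fin n) F) : Matrix (Fin n ⊕ Fin n) (Fin n ⊕ Fin n) F) *ᵥ v = v →
          v = 0 := by
  obtain ⟨k, rfl⟩ : ∃ k, n = k + 2 := ⟨n - 2, by omega⟩
  obtain ⟨x, hx, hreal, hfix, hcov⟩ := Orth.base_square (F := F) (k := k) (Z := Fin 0) hq
    (fun h => h.elim Fin.elim0) (by omega) (fun _ => he)
  let e := Equiv.sumEmpty (Fin (k + 2) ⊕ Fin (k + 2)) (Fin 0)
  have h : ∀ v, quadFormPlus (k + 2) F v = Orth.Q0 F (k + 2) (Fin 0) (v ∘ e) := fun v => by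
    rw [← Orth.vec_eta (v ∘ e), Orth.Q0_vec]
    simp [quadFormPlus, dotProduct, e]
  refine ⟨reindexIso e h x, Covers.transfer e h ⟨hx, hreal, hcov⟩, fun v hv => ?_⟩
  rw [coe_reindexIso, Matrix.reindex_apply, Matrix.submatrix_mulVec_equiv, Equiv.symm_symm] at hv
  have h1 := hfix (v ∘ e) (by
    funext j
    have := congrFun hv (e j)
    simpa using this)
  funext i
  simpa [e] using h1 i

theorem pomega_plus_square (hq : 8 ≤ Fintype.card F) (m : ℕ) (hm : 4 ≤ m) :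
    ∃ c : POmega F (quadFormPlus m F), ∀ g : POmega F (quadFormPlus m F),
      ∃ a b, g = (a * c * a⁻¹) * (b * c * b⁻¹) := by
  rcases Nat.even_or_odd m with he | ho
  · obtain ⟨x, hx, -⟩ := plus_even_covers (F := F) hq m hm he
    exact square_of_covers hx
  · obtain ⟨n, rfl⟩ : ∃ n, m = n + 1 := ⟨m - 1, by omega⟩
    have hne : Even n := by simpa [Nat.odd_add_one] using ho
    have hn : 4 ≤ n := by
      obtain ⟨r, rfl⟩ := hne
      omega
    have hev := plus_even_covers (F := F) hq n hn hne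
    rw [← QForm.coe_plusForm F n] at hev
    obtain ⟨x, ⟨hx, hreal, hcov⟩, hfix⟩ := hev
    obtain ⟨y, hy, hyreal, hycov⟩ := OrthStep.step_square (F := F) (n := n) (by omega) hn x hx hreal hfix hcov
    let e : (Fin n ⊕ Fin n) ⊕ (Fin 1 ⊕ Fin 1) ≃ Fin (n + 1) ⊕ Fin (n + 1) :=
      (Equiv.sumSumSumComm _ _ _ _).trans (Equiv.sumCongr finSumFinEquiv finSumFinEquiv)
    refine square_of_covers (Covers.transfer (Q := ⇑(OrthStep.QS F n)) e (fun v => ?_) (x := y)
      ⟨hy, hyreal, hycov⟩)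
    show quadFormPlus (n + 1) F v = QForm.plusForm F n _ + QForm.plusForm F 1 _
    rw [QForm.plusForm_apply, QForm.plusForm_apply]
    simp [quadFormPlus, e, Fin.sum_univ_castSucc, Fin.castAdd, Fin.natAdd]
    rfl

end Cfsg.Agent.Thompson.OrthClassical
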