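import Cfsg.Agent.Lib.Thompson.OrthBlocks

/-!
Every nonscalar element of `Omega` has a conjugate under `Omega` of the shape (lower radical)(Levi)(upper radical) with
a Levi part of prescribed square determinant that is not scalar.
-/

set_option autoImplicit false

open Matrix
open Cfsg.Agent
open Module (finrank)

noncomputable section

namespace Cfsg.Agent.Thompson.Orth

universe u

variable {F : Type u} [Field F] {m : ℕ} {Z : Type} [Fintype Z] [DecidableEq Z]

local notation "κ" => (Fin m ⊕ Fin m) ⊕ Z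
local notation "M" => Matrix (Fin m) (Fin m) F
local notation "GLm" => Matrix.GeneralLinearGroup (Fin m) F
local notation "MZ" => Matrix Z (Fin m) F
set_option quotPrecheck false in
local notation "OG" => ↥(isometryGroup F ⇑(Q0 F m Z))
set_option quotPrecheck false in
local notation "ΩG" => Omega F ⇑(Q0 F m Z)

/-- The `(x, x)` block. -/
def colA (g : OG) : M := (mat g).toBlocks₁₁.toBlocks₁₁
/-- The `(y, x)` block. -/
def colC (g : OG) : M := (mat g).toBlocks₁₁.toBlocks₂₁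
/-- The `(z, x)` block. -/
def colc (g : OG) : MZ := (mat g).toBlocks₂₁.toCols₁

theorem col_of_eq {g : OG} {A B : M} {P : Matrix (Fin m) Z F} {C D : M} {R : Matrix (Fin m) Z F} {c d : MZ}
    {w : Matrix Z Z F} (h : mat g = blk A B P C D R c d w) : colA g = A ∧ colC g = C ∧ colc g = c := by
  refine ⟨?_, ?_, ?_⟩ <;> simp [colA, colC, colc, h, blk]

theorem col_rel (g : OG) (x : Fin m → F) :
    colA g *ᵥ x ⬝ᵥ colC g *ᵥ x + colc g *ᵥ x ⬝ᵥ colc g *ᵥ x = 0 := by
  obtain ⟨A, B, P, C, D, R, c, d, w, h⟩ := exists_blk (mat g)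
  obtain ⟨e1, e2, e3⟩ := col_of_eq h
  have := Q0_mat g (vec x 0 0)
  rw [h, blk_mulVec, Q0_vec, Q0_vec] at this
  simpa [e1, e2, e3] using this

theorem col_inj (g : OG) (x : Fin m → F) (hA : colA g *ᵥ x = 0) (hC : colC g *ᵥ x = 0) (hc : colc g *ᵥ x = 0) :
    x = 0 := by
  obtain ⟨A, B, P, C, D, R, c, d, w, h⟩ := exists_blk (mat g)
  obtain ⟨e1, e2, e3⟩ := col_of_eq h
  have h1 : mat g *ᵥ vec x 0 0 = vec 0 0 0 := by
    rw [h, blk_mulVec]
    simp [← e1, ← e2, ← e3, hA, hC, hc]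
  have h2 := congrArg (mat g⁻¹ *ᵥ ·) h1
  simp only [Matrix.mulVec_mulVec, ← mat_mul, inv_mul_cancel, mat_one, Matrix.one_mulVec] at h2
  funext i
  have h3 := congrFun h2 (.inl (.inl i))
  have h4 : (vec (0 : Fin m → F) 0 0 : κ → F) = 0 := by funext j; rcases j with (j | j) | j <;> rfl
  rw [h4, Matrix.mulVec_zero] at h3
  simpa using h3

/-- Effect of conjugating by an upper radical element. -/
theorem col_conj (g : OG) (S : M) (p : MZ) (h : Cond S p) :
    colA (vv S p h * g * (vv S p h)⁻¹) = colA g + S * colC g - (2 : F) • (pᵀ * colc g) ∧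
    colC (vv S p h * g * (vv S p h)⁻¹) = colC g := by
  obtain ⟨A, B, P, C, D, R, c, d, w, hg⟩ := exists_blk (mat g)
  obtain ⟨e1, e2, e3⟩ := col_of_eq hg
  rw [vv_inv]
  have hm := mat_mul (vv S p h * g) (vv _ _ h.neg)
  conv_rhs at hm => rw [mat_mul, mat_vv, mat_vv, hg, blk_mul, blk_mul]
  obtain ⟨f1, f2, -⟩ := col_of_eq hm
  rw [f1, f2, e1, e2, e3]
  simp [sub_eq_add_neg]

/-- The conditions making `v u v` exchange the two halves. -/
theorem flip_eq (S T : M) (p : MZ) (hS : Cond S p) (hST : S * Tᵀ = 1) (h1 : p * Tᵀ = p * T)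
    (h2 : p + p * T * pᵀ * p = 0) :
    ∃ (hT : Cond T (-(p * T))) (w : Matrix Z Z F),
      mat (vv S p hS * uu T (-(p * T)) hT * vv S p hS) = blk 0 S 0 T 0 0 0 0 w := by
  have hTS : T * Sᵀ = 1 := by rw [← Matrix.transpose_one, ← hST, Matrix.transpose_mul, Matrix.transpose_transpose]
  have hS'T : Sᵀ * T = 1 := mul_eq_one_comm.1 hTS
  have hT'S : Tᵀ * S = 1 := mul_eq_one_comm.1 hST
  have hrel := hS.mat_rel
  have hT : Cond T (-(p * T)) := fun y => by
    obtain ⟨u, rfl⟩ : ∃ u, Sᵀ *ᵥ u = y := ⟨T *ᵥ y, by rw [Matrix.mulVec_mulVec, hS'T, Matrix.one_mulVec]⟩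
    rw [Matrix.mulVec_mulVec, Matrix.mulVec_mulVec, hTS, Matrix.neg_mul, Matrix.mul_assoc, hTS, Matrix.mul_one,
      Matrix.one_mulVec, Matrix.neg_mulVec, neg_dotProduct, dotProduct_neg, neg_neg, Matrix.mulVec_transpose,
      ← Matrix.dotProduct_mulVec]
    exact hS u
  refine ⟨hT, 1 + (2 : F) • (p * T * pᵀ), ?_⟩
  have ha : S * T + (2 : F) • (pᵀ * (p * T)) = -1 := by
    have h3 : S + (2 : F) • (pᵀ * p) = -Sᵀ := by
      rw [eq_neg_iff_add_eq_zero, ← hrel]
      abel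
    calc S * T + (2 : F) • (pᵀ * (p * T)) = (S + (2 : F) • (pᵀ * p)) * T := by
          rw [Matrix.add_mul, Matrix.smul_mul, Matrix.mul_assoc]
      _ = -1 := by rw [h3, Matrix.neg_mul, hS'T]
  have hp : Tᵀ * pᵀ = T * pᵀ := by
    have := congrArg Matrix.transpose h1
    rwa [Matrix.transpose_mul, Matrix.transpose_mul, Matrix.transpose_transpose, eq_comm] at this
  have hb : T * S + (2 : F) • (T * (pᵀ * p)) = -1 := by
    calc T * S + (2 : F) • (T * (pᵀ * p)) = T * (S + (2 : F) • (pᵀ * p)) := by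
          rw [Matrix.mul_add, Matrix.mul_smul]
      _ = -1 := by
          rw [show S + (2 : F) • (pᵀ * p) = -Sᵀ by rw [eq_neg_iff_add_eq_zero, ← hrel]; abel,
            Matrix.mul_neg, hTS]
  rw [mat_mul, mat_mul, mat_vv, mat_uu, blk_mul, blk_mul]
  have hxx : (1 : M) + S * T + -((2 : F) • pᵀ) * -(p * T) = 0 := by
    rw [Matrix.neg_mul, Matrix.mul_neg, neg_neg, Matrix.smul_mul, add_assoc, ha, add_neg_cancel]
  have hxz : S * -((2 : F) • (-(p * T))ᵀ) + -((2 : F) • pᵀ) = 0 := by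
    simp [Matrix.transpose_mul, ← Matrix.mul_assoc, hST]
  have hyz : T * -((2 : F) • pᵀ) + -((2 : F) • (-(p * T))ᵀ) = 0 := by
    simp [Matrix.transpose_mul, hp]
  have hyy : T * S + 1 + -((2 : F) • (-(p * T))ᵀ) * p = 0 := by
    rw [Matrix.transpose_neg, Matrix.transpose_mul, smul_neg, neg_neg, Matrix.smul_mul, hp, Matrix.mul_assoc,
      add_right_comm, hb, neg_add_cancel]
  have hzy : p + ((1 : Matrix Z Z F) + p * -((2 : F) • (-(p * T))ᵀ)) * p = 0 := by
    rw [Matrix.transpose_neg, Matrix.transpose_mul, smul_neg, neg_neg, hp, Matrix.mul_smul, Matrix.add_mul,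
      Matrix.one_mul, Matrix.smul_mul, ← Matrix.mul_assoc, two_smul, show p + (p + (p * T * pᵀ * p + p * T * pᵀ * p)) =
        (p + p * T * pᵀ * p) + (p + p * T * pᵀ * p) by abel, h2, add_zero]
  congr 1 <;> simp only [Matrix.one_mul, Matrix.mul_one, Matrix.zero_mul, Matrix.mul_zero, add_zero, zero_add]
  all_goals simp only [hxx, hxz, hyz, hyy, hzy, Matrix.zero_mul, add_zero, zero_add, add_neg_cancel,
    neg_add_cancel, Matrix.one_mul]
  case e_d => rw [add_comm _ (1 : Matrix Z Z F)]; exact hzy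
  case e_w => simp [Matrix.transpose_mul, hp, Matrix.mul_assoc, add_comm]

variable [Subsingleton Z] [Fintype F]

/-- An element of `Omega` exchanging the two halves. -/
theorem exists_flip (hq : 4 ≤ Fintype.card F) (hm : 1 ≤ m) (hpar : IsEmpty Z → Even m) :
    ∃ (S T : M) (w : Matrix Z Z F), S * Tᵀ = 1 ∧
      ∃ K : OG, K ∈ ΩG ∧ mat K = blk 0 S 0 T 0 0 0 0 w := by
  classical
  suffices ∃ (S T : M) (p : MZ), Cond S p ∧ S * Tᵀ = 1 ∧ p * Tᵀ = p * T ∧ p + p * T * pᵀ * p = 0 by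
    obtain ⟨S, T, p, hS, hST, h1, h2⟩ := this
    obtain ⟨hT, w, hw⟩ := flip_eq S T p hS hST h1 h2
    exact ⟨S, T, w, hST, _, mul_mem (mul_mem (vv_mem_omega hq S p hS) (uu_mem_omega hq _ _ hT))
      (vv_mem_omega hq S p hS), hw⟩
  have hunit : ∀ {n : ℕ} (E : Matrix (Fin n) (Fin n) F), (∀ z, E *ᵥ z = 0 → z = 0) → IsUnit E.det := by
    intro n E hE
    refine isUnit_iff_ne_zero.2 fun h0 => ?_
    obtain ⟨z, hz, hz0⟩ := Matrix.exists_mulVec_eq_zero_iff.2 h0
    exact hz (hE z hz0)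
  have inv_ok : ∀ S : M, IsUnit S.det → S * ((Sᵀ)⁻¹)ᵀ = 1 := fun S hu => by
    rw [Matrix.transpose_nonsing_inv, Matrix.transpose_transpose, Matrix.mul_nonsing_inv _ hu]
  by_cases hme : Even m
  · obtain ⟨E, π, hE, hEi⟩ := OrthSelect.exists_sigma (F := F) (Z := Empty) (fun h => h.elim Empty.elim) m
      fun _ => hme
    refine ⟨E, (Eᵀ)⁻¹, 0, fun y => ?_, inv_ok _ (hunit E hEi), by simp, by simp⟩
    rw [Matrix.zero_mulVec, dotProduct_zero, add_zero]
    simpa [dotProduct] using hE y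
  · obtain ⟨z0⟩ : Nonempty Z := not_isEmpty_iff.1 fun h => hme (hpar h)
    have := uniqueOfSubsingleton z0
    obtain ⟨d, rfl⟩ : ∃ d, m = d + 1 := ⟨m - 1, by omega⟩
    obtain ⟨E, π, hE, hEi⟩ := OrthSelect.exists_sigma (F := F) (Z := Empty) (fun h => h.elim Empty.elim) d
      fun _ => by simpa [Nat.even_add_one] using hme
    let S : Matrix (Fin (d + 1)) (Fin (d + 1)) F :=
      Matrix.of fun i j => Fin.cases (Fin.cases (-1) (fun _ => 0) j) (fun i' => Fin.cases 0 (fun j' => E i' j') j) i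
    let p : Matrix Z (Fin (d + 1)) F := Matrix.of fun _ j => Fin.cases 1 (fun _ => 0) j
    have hS0 : ∀ y, (S *ᵥ y) 0 = -y 0 := fun y => by
      simp [S, Matrix.mulVec, dotProduct, Fin.sum_univ_succ]
    have hSs : ∀ y i, (S *ᵥ y) (Fin.succ i) = (E *ᵥ fun j => y j.succ) i := fun y i => by
      simp [S, Matrix.mulVec, dotProduct, Fin.sum_univ_succ]
    have hu : IsUnit S.det := hunit S fun y hy => by
      have h0 := congrFun hy 0
      rw [hS0] at h0
      have h1 : (fun j => y (Fin.succ j)) = 0 := hEi _ (funext fun i => by rw [← hSs, hy]; rfl)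
      funext i
      refine Fin.cases ?_ (fun j => congrFun h1 j) i
      simpa using h0
    have hp : ∀ y, p *ᵥ y = fun _ => y 0 := fun y => by
      funext z
      simp [p, Matrix.mulVec, dotProduct, Fin.sum_univ_succ]
    have hpS : p * S = -p ∧ p * Sᵀ = -p := by
      constructor <;> ext z j <;> refine Fin.cases ?_ (fun j' => ?_) j <;>
        simp [p, S, Matrix.mul_apply, Fin.sum_univ_succ]
    have huT : IsUnit Sᵀ.det := by rwa [Matrix.det_transpose]
    have hpT : p * ((Sᵀ)⁻¹)ᵀ = -p ∧ p * (Sᵀ)⁻¹ = -p := by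
      constructor
      · calc p * ((Sᵀ)⁻¹)ᵀ = -((p * S) * ((Sᵀ)⁻¹)ᵀ) := by rw [hpS.1, Matrix.neg_mul, neg_neg]
          _ = -p := by rw [Matrix.mul_assoc, inv_ok S hu, Matrix.mul_one]
      · calc p * (Sᵀ)⁻¹ = -((p * Sᵀ) * (Sᵀ)⁻¹) := by rw [hpS.2, Matrix.neg_mul, neg_neg]
          _ = -p := by rw [Matrix.mul_assoc, Matrix.mul_nonsing_inv _ huT, Matrix.mul_one]
    refine ⟨S, (Sᵀ)⁻¹, p, fun y => ?_, inv_ok S hu, by rw [hpT.1, hpT.2], ?_⟩
    · have := hE fun j => y (Fin.succ j)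
      simp only [dotProduct, Finset.univ_eq_empty, Finset.sum_empty, add_zero] at this
      rw [hp]
      simp only [dotProduct, Fin.sum_univ_succ, hS0, hSs, Fintype.sum_unique]
      linear_combination this
    · have hpp : p * pᵀ = 1 := by
        ext z z'
        simp [p, Matrix.mul_apply, Fin.sum_univ_succ, Matrix.one_apply, Subsingleton.elim z z']
      rw [hpT.2, Matrix.neg_mul, hpp, Matrix.neg_mul, Matrix.one_mul, add_neg_cancel]

/-- In even dimension the kernel of the corner of an element of `Omega` has even dimension. -/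
theorem even_ker [IsEmpty Z] (hq : 4 ≤ Fintype.card F) (hm : 1 ≤ m) (hme : Even m) (g : OG) (hg : g ∈ ΩG) :
    Even (finrank F (LinearMap.ker (colA g).mulVecLin)) := by
  classical
  obtain ⟨S, T, w, hST, K, hK, hmat⟩ := exists_flip (F := F) (m := m) (Z := Z) hq hm fun _ => hme
  have hTu : IsUnit T.det := by
    have h := congrArg Matrix.det hST
    rw [Matrix.det_mul, Matrix.det_one, Matrix.det_transpose] at h
    exact IsUnit.of_mul_eq_one_right _ h
  obtain ⟨A, B, P, C, D, R, c, d, w', hgb⟩ := exists_blk (mat g)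
  obtain ⟨eA, -, -⟩ := col_of_eq hgb
  have hKg := mat_mul K g
  rw [hmat, hgb, blk_mul] at hKg
  let ι : (Fin m → F) →ₗ[F] (κ → F) :=
    { toFun := fun x => vec x 0 0
      map_add' := fun x y => by funext i; rcases i with (i | i) | i <;> simp
      map_smul' := fun a x => by funext i; rcases i with (i | i) | i <;> simp }
  have hι : Function.Injective ι := fun x y h => funext fun i => congrFun h (.inl (.inl i))
  set U := LinearMap.range ι
  have hU : QForm.TotallySingular (Q0 F m Z) U := by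
    rintro _ ⟨x, rfl⟩
    show Q0 F m Z (vec x 0 0) = 0
    rw [Q0_vec]; simp
  have hUm : finrank F U = m := by rw [LinearMap.finrank_range_of_inj hι, Module.finrank_fin_fun]
  have hV : finrank F (κ → F) = 2 * m := by simp [two_mul]
  have hn := Q0_nondegenerate (F := F) (m := m) (Z := Z) fun h => (IsEmpty.false h.some).elim
  have hfam : Even (m - finrank F ↥(U ⊓ QForm.image (K * g) U)) := by
    by_cases h2 : (2 : F) = 0
    · have : CharP F 2 := CharTwo.of_one_ne_zero_of_two_eq_zero one_ne_zero h2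
      exact (QForm.family_iff_omega hn hV (Or.inl (by omega)) hU hUm _).2 (mul_mem hK hg)
    · exact (QForm.family_iff_det hn hV h2 hU hUm _).2
        (congrArg Units.val (QForm.omega_le_ker _ (Matrix.GeneralLinearGroup.det.comp
          (isometryGroup F ⇑(Q0 F m Z)).subtype) (mul_mem hK hg)))
  have hker : LinearMap.ker (colA g).mulVecLin = LinearMap.ker (T * A).mulVecLin := by
    ext x
    rw [LinearMap.mem_ker, LinearMap.mem_ker, Matrix.mulVecLin_apply, Matrix.mulVecLin_apply, eA,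
      ← Matrix.mulVec_mulVec]
    exact ⟨fun h => by rw [h, Matrix.mulVec_zero],
      fun h => Matrix.mulVec_injective_of_isUnit ((Matrix.isUnit_iff_isUnit_det T).2 hTu)
        (h.trans (Matrix.mulVec_zero T).symm)⟩
  let φ : (Fin m → F) →ₗ[F] (κ → F) := (mat (K * g)).mulVecLin ∘ₗ ι
  have hφ : Function.Injective φ := (Matrix.mulVec_injective_of_isUnit (Units.isUnit _)).comp hι
  have heq : U ⊓ QForm.image (K * g) U = Submodule.map φ (LinearMap.ker (T * A).mulVecLin) := by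
    refine le_antisymm ?_ ?_
    · rintro v ⟨⟨x', rfl⟩, hv⟩
      obtain ⟨_, ⟨x, rfl⟩, hx⟩ := (QForm.mem_image _).1 hv
      refine ⟨x, LinearMap.mem_ker.2 (funext fun i => ?_), hx⟩
      have := congrFun hx (.inl (.inr i))
      show ((T * A) *ᵥ x) i = 0
      rw [show QForm.act _ (K * g) (ι x) = mat (K * g) *ᵥ vec x 0 0 from rfl, hKg, blk_mulVec] at this
      simpa [ι] using this
    · rintro _ ⟨x, hx, rfl⟩
      refine ⟨?_, QForm.act_mem_image _ ⟨x, rfl⟩⟩
      rw [SetLike.mem_coe, LinearMap.mem_ker, Matrix.mulVecLin_apply] at hx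
      have h1 : φ x = vec ((S * C) *ᵥ x) 0 0 := by
        show mat (K * g) *ᵥ vec x 0 0 = _
        rw [hKg, blk_mulVec]
        funext i
        rcases i with (i | i) | i
        · simp
        · simp [hx]
        · exact isEmptyElim i
      rw [h1]
      exact ⟨_, rfl⟩
  rw [heq, ← (Submodule.equivMapOfInjective φ hφ _).finrank_eq, ← hker] at hfam
  have hle : finrank F (LinearMap.ker (colA g).mulVecLin) ≤ m :=
    (Submodule.finrank_le _).trans_eq (Module.finrank_fin_fun F)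
  exact (Nat.even_sub hle).1 hfam |>.1 hme

theorem det_omega {g : OG} (hg : g ∈ ΩG) : (mat g).det = 1 :=
  congrArg Units.val (QForm.omega_le_ker _ (Matrix.GeneralLinearGroup.det.comp
    (isometryGroup F ⇑(Q0 F m Z)).subtype) hg)

set_option maxHeartbeats 1000000 in
/-- The block decomposition at an invertible corner. -/
theorem exists_udv (hq : 4 ≤ Fintype.card F) (h2 : Nonempty Z → (2 : F) ≠ 0) (hm : 1 ≤ m) (g : OG) (hg : g ∈ ΩG)
    (A : GLm) (hA : (A : M) = colA g) :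
    ∃ v ∈ (Vm : Subgroup OG), ∃ u ∈ (Vp : Subgroup OG),
      v ∈ ΩG ∧ u ∈ ΩG ∧ g = v * dd A * u ∧ IsSquare (A : M).det := by
  classical
  obtain ⟨A', B, P, C, D, R, c, d, w, hgb⟩ := exists_blk (mat g)
  obtain ⟨eA, eC, ec⟩ := col_of_eq hgb
  set Ai : M := ((A⁻¹ : GLm) : M)
  have hAi : (A : M) * Ai = 1 := Units.mul_inv A
  have hiA : Ai * (A : M) = 1 := Units.inv_mul A
  have hK : Cond (C * Ai) (c * Ai) := fun y => by
    have := col_rel g (Ai *ᵥ y)
    rwa [← hA, eC, ec, Matrix.mulVec_mulVec, hAi, Matrix.one_mulVec, Matrix.mulVec_mulVec,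
      Matrix.mulVec_mulVec] at this
  set v0 := uu (C * Ai) (c * Ai) hK
  set h := (v0 * dd A)⁻¹ * g with hh
  obtain ⟨A1, B1, P1, C1, D1, R1, c1, d1, w1, hhb⟩ := exists_blk (mat h)
  have hprod : mat (v0 * dd A * h) = mat g := by rw [hh, mul_inv_cancel_left]
  rw [mat_mul, mat_mul, mat_uu, mat_dd, hhb, hgb, blk_mul, blk_mul] at hprod
  obtain ⟨f1, -, -, f4, -, -, f7, -, -⟩ := blk_inj hprod
  simp only [Matrix.one_mul, Matrix.mul_one, Matrix.zero_mul, Matrix.mul_zero, add_zero, zero_add,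
    Matrix.mul_assoc C, Matrix.mul_assoc c, hiA] at f1 f4 f7
  have hA1 : A1 = 1 := by
    rw [← eA, ← hA] at f1
    have := congrArg (Ai * ·) f1
    simpa [← Matrix.mul_assoc, hiA] using this
  rw [hA1, Matrix.mul_one] at f4 f7
  have hc1 : c1 = 0 := by simpa using f7
  rw [hc1, Matrix.mul_zero, add_zero, add_eq_left] at f4
  have hC1 : C1 = 0 := by
    have := congrArg ((A : M)ᵀ * ·) f4
    simpa [← Matrix.mul_assoc, ← Matrix.transpose_mul, hiA, Ai] using this
  subst hA1 hC1 hc1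
  have hQ : ∀ x y z, (x + B1 *ᵥ y + P1 *ᵥ z) ⬝ᵥ (D1 *ᵥ y + R1 *ᵥ z) +
      (d1 *ᵥ y + w1 *ᵥ z) ⬝ᵥ (d1 *ᵥ y + w1 *ᵥ z) = x ⬝ᵥ y + z ⬝ᵥ z := fun x y z => by
    have := Q0_mat h (vec x y z)
    rw [hhb, blk_mulVec, Q0_vec, Q0_vec] at this
    simpa using this
  have hDR : ∀ y z, D1 *ᵥ y + R1 *ᵥ z = y := fun y z => by
    refine sub_eq_zero.1 (OrthSelect.dot_all_zero fun x => ?_)
    have h1 := hQ x y z
    have h0 := hQ 0 y z
    simp only [add_dotProduct, zero_dotProduct] at h1 h0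
    rw [dotProduct_sub]
    linear_combination h1 - h0
  have hD1 : D1 = 1 := Matrix.ext_iff_mulVec.2 fun y => by simpa using hDR y 0
  have hR1 : R1 = 0 := Matrix.ext_iff_mulVec.2 fun z => by simpa using hDR 0 z
  subst hD1 hR1
  have hB : Cond B1 d1 := fun y => by
    have := hQ 0 y 0
    simpa [dotProduct_comm y] using this
  set k := (vv B1 d1 hB)⁻¹ * h
  have hk : mat k = blk 1 0 (P1 + (2 : F) • (d1ᵀ * w1)) 0 1 0 0 0 w1 := by
    show mat ((vv B1 d1 hB)⁻¹ * h) = _
    rw [vv_inv, mat_mul, mat_vv, hhb, blk_mul]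
    congr 1 <;> simp
    all_goals abel
  have hdd : ∀ X : GLm, (mat (dd X : OG)).det = 1 := fun X => by
    rw [mat_dd]
    simp [blk, Matrix.det_fromBlocks_zero₂₁, Matrix.det_nonsing_inv, (Matrix.GeneralLinearGroup.det X).isUnit,
      Ring.inverse_eq_inv', Matrix.GeneralLinearGroup.det_ne_zero]
  have hw : w1 = 1 := by
    have hdet : (mat k).det = 1 := by
      show (mat ((vv B1 d1 hB)⁻¹ * ((v0 * dd A)⁻¹ * g))).det = 1
      rw [_root_.mul_inv_rev, ← map_inv, mat_mul, mat_mul, mat_mul, Matrix.det_mul, Matrix.det_mul, Matrix.det_mul,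
        hdd, det_omega (inv_mem (vv_mem_omega hq _ _ hB)), det_omega (inv_mem (uu_mem_omega hq _ _ hK)),
        det_omega hg, one_mul, one_mul, one_mul]
    rw [hk] at hdet
    simp [blk, Matrix.det_fromBlocks_zero₂₁] at hdet
    ext i j
    have := uniqueOfSubsingleton i
    rw [Matrix.det_unique] at hdet
    rw [Subsingleton.elim i default, Subsingleton.elim j default, hdet, Matrix.one_apply_eq]
  subst hw
  have hP : P1 + (2 : F) • (d1ᵀ * (1 : Matrix Z Z F)) = 0 := Matrix.ext_iff_mulVec.2 fun z => by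
    rw [Matrix.zero_mulVec]
    refine OrthSelect.dot_all_zero fun y => ?_
    have := Q0_mat k (vec 0 y z)
    rw [hk, blk_mulVec, Q0_vec, Q0_vec] at this
    simp only [Matrix.one_mulVec, Matrix.zero_mulVec, add_zero, zero_add, zero_dotProduct,
      add_eq_right] at this
    rwa [dotProduct_comm]
  have hk1 : k = 1 := mat_inj (by rw [hk, hP, mat_one, ← blk_one])
  have hgeq : g = v0 * dd A * vv B1 d1 hB := by
    have : h = vv B1 d1 hB := (inv_mul_eq_one.1 hk1).symm
    rw [← this, hh, mul_inv_cancel_left]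
  refine ⟨v0, uu_mem _ _ hK, _, ⟨_, _, hB, rfl⟩, uu_mem_omega hq _ _ hK, vv_mem_omega hq _ _ hB, hgeq, ?_⟩
  rw [← dd_mem_omega_iff (Z := Z) hq h2 hm]
  have : (dd A : OG) = v0⁻¹ * g * (vv B1 d1 hB)⁻¹ := by rw [hgeq]; group
  rw [this]
  exact mul_mem (mul_mem (inv_mem (uu_mem_omega hq _ _ hK)) hg) (inv_mem (vv_mem_omega hq _ _ hB))

/-- A nonscalar element has a conjugate with nonzero lower corner. -/
theorem exists_conj_lower (hq : 4 ≤ Fintype.card F) (h2 : Nonempty Z → (2 : F) ≠ 0) (hm : 3 ≤ m)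
    (hpar : IsEmpty Z → Even m) (g : OG) (hns : ∀ a : F, mat g ≠ a • 1) :
    ∃ h : OG, h ∈ ΩG ∧ colC (h * g * h⁻¹) ≠ 0 := by
  classical
  by_contra hne
  push Not at hne
  obtain ⟨A, B, P, C, D, R, c, d, w, hg⟩ := exists_blk (mat g)
  obtain ⟨eA, eC, ec⟩ := col_of_eq hg
  have hC : C = 0 := by
    have := hne 1 (one_mem _)
    rwa [one_mul, inv_one, mul_one, eC] at this
  have hc : c = 0 := Matrix.ext_iff_mulVec.2 fun x => by
    rw [Matrix.zero_mulVec]
    refine OrthSelect.dot_self_eq_zero ?_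
    have := col_rel g x
    rwa [eA, eC, ec, hC, Matrix.zero_mulVec, dotProduct_zero, zero_add] at this
  subst hC hc
  obtain ⟨S0, T0, w0, hST, K, hK, hKm⟩ := exists_flip (F := F) (m := m) (Z := Z) hq (by omega) hpar
  have hB : B = 0 := by
    obtain ⟨A', B', P', C', D', R', c', d', w', hL⟩ := exists_blk (mat (K * g * K⁻¹))
    have hC' : C' = 0 := (col_of_eq hL).2.1 ▸ hne K hK
    have e : mat (K * g * K⁻¹ * K) = mat (K * g) := by rw [inv_mul_cancel_right]
    rw [mat_mul, mat_mul K g, hL, hKm, hg, blk_mul, blk_mul] at e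
    obtain ⟨-, -, -, -, f5, -, -, -, -⟩ := blk_inj e
    simp only [hC', Matrix.zero_mul, Matrix.mul_zero, add_zero, zero_add] at f5
    have := congrArg (S0ᵀ * ·) f5.symm
    have hST' : S0ᵀ * T0 = 1 := by
      refine mul_eq_one_comm.1 ?_
      rw [← Matrix.transpose_one, ← hST, Matrix.transpose_mul, Matrix.transpose_transpose]
    simpa [← Matrix.mul_assoc, hST'] using this
  subst hB
  have hQ : ∀ x y z, (A *ᵥ x + P *ᵥ z) ⬝ᵥ (D *ᵥ y + R *ᵥ z) + (d *ᵥ y + w *ᵥ z) ⬝ᵥ (d *ᵥ y + w *ᵥ z) =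
      x ⬝ᵥ y + z ⬝ᵥ z := fun x y z => by
    have := Q0_mat g (vec x y z)
    rw [hg, blk_mulVec, Q0_vec, Q0_vec] at this
    simpa using this
  have hd : d = 0 := Matrix.ext_iff_mulVec.2 fun y => by
    rw [Matrix.zero_mulVec]
    refine OrthSelect.dot_self_eq_zero ?_
    simpa using hQ 0 y 0
  subst hd
  have hAu : IsUnit A := Matrix.mulVec_injective_iff_isUnit.1 fun x x' hx => sub_eq_zero.1
    (col_inj g _ (by rw [eA, Matrix.mulVec_sub, hx, sub_self]) (by rw [eC, Matrix.zero_mulVec])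
      (by rw [ec, Matrix.zero_mulVec]))
  have hR : R = 0 := Matrix.ext_iff_mulVec.2 fun z => by
    rw [Matrix.zero_mulVec]
    refine OrthSelect.dot_all_zero fun x' => ?_
    obtain ⟨x, rfl⟩ := (Matrix.mulVec_surjective_iff_isUnit.2 hAu) x'
    have h1 := hQ x 0 z
    have h0 := hQ 0 0 z
    simp only [Matrix.mulVec_zero, zero_add, add_dotProduct, dotProduct_zero, zero_dotProduct] at h1 h0
    linear_combination h1 - h0
  subst hR
  have hAD : ∀ x y, A *ᵥ x ⬝ᵥ D *ᵥ y = x ⬝ᵥ y := fun x y => by simpa using hQ x y 0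
  have hDu : IsUnit D := Matrix.mulVec_injective_iff_isUnit.1 fun y y' hy => sub_eq_zero.1
    (OrthSelect.dot_all_zero fun x => by rw [← hAD, Matrix.mulVec_sub, hy, sub_self, dotProduct_zero])
  have hP : P = 0 := Matrix.ext_iff_mulVec.2 fun z => by
    rw [Matrix.zero_mulVec]
    refine OrthSelect.dot_all_zero fun y' => ?_
    obtain ⟨y, rfl⟩ := (Matrix.mulVec_surjective_iff_isUnit.2 hDu) y'
    have h1 := hQ 0 y z
    have h0 := hQ 0 0 z
    simp only [Matrix.mulVec_zero, Matrix.zero_mulVec, zero_add, add_zero, dotProduct_zero,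
      zero_dotProduct] at h1 h0
    rw [dotProduct_comm]
    linear_combination h1 - h0
  subst hP
  have hu : ∀ (S : M) (p : MZ), Cond S p →
      S * A = D * S + ((2 : F) • (D * pᵀ) - (2 : F) • (pᵀ * w)) * p := by
    intro S p hSp
    obtain ⟨A', B', P', C', D', R', c', d', w', hL⟩ := exists_blk (mat (uu S p hSp * g * (uu S p hSp)⁻¹))
    have hC' : C' = 0 := (col_of_eq hL).2.1 ▸ hne _ (uu_mem_omega hq S p hSp)
    have e : mat (uu S p hSp * g * (uu S p hSp)⁻¹ * uu S p hSp) = mat (uu S p hSp * g) := by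
      rw [inv_mul_cancel_right]
    rw [mat_mul, mat_mul (uu S p hSp) g, hL, mat_uu, hg, blk_mul, blk_mul] at e
    obtain ⟨-, -, -, f4, f5, f6, -, -, -⟩ := blk_inj e
    simp only [hC', Matrix.zero_mul, Matrix.mul_zero, Matrix.one_mul, Matrix.mul_one, add_zero, zero_add]
      at f4 f5 f6
    subst f5
    have hR' : R' = (2 : F) • (D' * pᵀ) - (2 : F) • (pᵀ * w) := by
      rw [Matrix.mul_neg, Matrix.mul_smul, Matrix.neg_mul, Matrix.smul_mul] at f6
      linear_combination (norm := module) f6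
    rw [← f4, hR']
  have halt : ∀ i j, Cond (vecMulVec (Pi.single i 1) (Pi.single j 1) - vecMulVec (Pi.single j 1) (Pi.single i 1) : M)
      (0 : MZ) := fun i j y => by
    simp [Matrix.sub_mulVec, Matrix.vecMulVec_mulVec, mul_comm]
  have key : ∀ i j k l : Fin m, (Pi.single i (1 : F) : Fin m → F) k * A j l - (Pi.single j (1 : F) : Fin m → F) k * A i l =
      D k i * (Pi.single j (1 : F) : Fin m → F) l - D k j * (Pi.single i (1 : F) : Fin m → F) l := fun i j k l => by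
    have := congrFun (congrFun (hu _ 0 (halt i j)) k) l
    simpa [Matrix.sub_mul, Matrix.mul_sub, Matrix.vecMulVec_mul, Matrix.mul_vecMulVec, vecMulVec_apply] using this
  have third : ∀ i j : Fin m, ∃ k, k ≠ i ∧ k ≠ j := fun i j => by
    obtain ⟨k, -, hk⟩ : ∃ k ∈ (Finset.univ : Finset (Fin m)), k ∉ ({i, j} : Finset (Fin m)) :=
      Finset.exists_mem_notMem_of_card_lt_card (lt_of_le_of_lt Finset.card_le_two (by simp; omega))
    exact ⟨k, by simpa using hk⟩
  have hDd : ∀ k i, k ≠ i → D k i = 0 := fun k i hki => by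
    obtain ⟨j, hj1, hj2⟩ := third k i
    have := key i j k j
    simpa [hki, hj1.symm, hj2] using this.symm
  have hAd : ∀ j l, j ≠ l → A j l = 0 := fun j l hjl => by
    obtain ⟨i, hi1, hi2⟩ := third j l
    have := key i j i l
    simpa [hjl.symm, hi1, hi2.symm] using this
  have hdiag : ∀ i j, i ≠ j → A j j = D i i := fun i j hij => by
    have := key i j i j
    simpa [hij, hij.symm] using this
  set i0 : Fin m := ⟨0, by omega⟩
  have hA : ∀ j, A j j = A i0 i0 := fun j => by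
    obtain ⟨i, hi1, hi2⟩ := third j i0
    rw [hdiag i j hi1, hdiag i i0 hi2]
  have hD : ∀ i, D i i = A i0 i0 := fun i => by
    obtain ⟨j, hj, -⟩ := third i i0
    rw [← hdiag i j hj.symm, hA]
  have hAs : A = A i0 i0 • (1 : M) := by
    ext i j
    rcases eq_or_ne i j with rfl | hij
    · simp [hA i]
    · simp [hAd i j hij, hij]
  have hDs : D = A i0 i0 • (1 : M) := by
    ext i j
    rcases eq_or_ne i j with rfl | hij
    · simp [hD i]
    · simp [hDd i j hij, hij]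
  have hws : w = A i0 i0 • (1 : Matrix Z Z F) := by
    ext z z'
    have := uniqueOfSubsingleton z
    set p : MZ := Matrix.of fun _ j => (Pi.single i0 (1 : F) : Fin m → F) j
    have hp : pᵀ * p = vecMulVec (Pi.single i0 (1 : F)) (Pi.single i0 1) := by
      ext i j; simp [p, Matrix.mul_apply, vecMulVec_apply]
    have hcond : Cond (-(pᵀ * p)) p := fun y => by
      rw [Matrix.neg_mulVec, ← Matrix.mulVec_mulVec, dotProduct_neg, Matrix.dotProduct_mulVec,
        Matrix.vecMul_transpose, neg_add_cancel]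
    have h1 := congrFun (congrFun (hu _ _ hcond) i0) i0
    rw [hAs, hDs, hp] at h1
    simp [Matrix.mul_apply, p, vecMulVec_apply, Matrix.transpose_apply, Matrix.sub_apply, Pi.single_apply] at h1
    rw [Subsingleton.elim z' z, Subsingleton.elim z default]
    simp only [Matrix.smul_apply, Matrix.one_apply_eq, smul_eq_mul, mul_one]
    refine mul_left_cancel₀ (h2 ⟨z⟩) ?_
    linear_combination -h1
  refine hns (A i0 i0) ?_
  rw [hg, hAs, hDs, hws, ← blk_one]
  ext ((i | i) | i) ((j | j) | j) <;> simp [blk, Matrix.one_apply]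

/-- The selection. -/
theorem exists_decomp (hq : 4 ≤ Fintype.card F) (h2 : Nonempty Z → (2 : F) ≠ 0) (hm : 3 ≤ m)
    (hpar : IsEmpty Z → Even m) (g : OG) (hg : g ∈ ΩG) (hns : ∀ a : F, mat g ≠ a • 1) {η : F} (hη : η ≠ 0) :
    ∃ h : OG, h ∈ ΩG ∧ ∃ v ∈ (Vm : Subgroup OG), ∃ u ∈ (Vp : Subgroup OG), v ∈ ΩG ∧ u ∈ ΩG ∧ ∃ A : GLm,
      h * g * h⁻¹ = v * dd A * u ∧ (A : M).det = η * η ∧ ∀ a : F, (A : M) ≠ a • 1 := by
  classical
  obtain ⟨h0, hh0, hC0⟩ := exists_conj_lower hq h2 hm hpar g hns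
  set g0 := h0 * g * h0⁻¹
  have hg0 : g0 ∈ ΩG := mul_mem (mul_mem hh0 hg) (inv_mem hh0)
  obtain ⟨S1, p1, hS1, hd1⟩ := OrthSelect.exists_invertible h2 (colA g0) (colC g0) (colc g0) (col_rel g0)
    (col_inj g0) fun hZ => even_ker hq (by omega) (hpar hZ) g0 hg0
  set v1 := vv S1 p1 hS1
  set g1 := v1 * g0 * v1⁻¹
  have hv1 := vv_mem_omega hq S1 p1 hS1
  have hg1 : g1 ∈ ΩG := mul_mem (mul_mem hv1 hg0) (inv_mem hv1)
  have hd1' : (colA g1).det ≠ 0 := by rw [(col_conj g0 S1 p1 hS1).1]; exact hd1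
  have hC1 : colC g1 ≠ 0 := by rw [(col_conj g0 S1 p1 hS1).2]; exact hC0
  have rel : ∀ (g' : OG), (colA g').det ≠ 0 → colC g' ≠ 0 →
      (∀ y, y ⬝ᵥ (colC g' * (colA g')⁻¹) *ᵥ y +
        (colc g' * (colA g')⁻¹) *ᵥ y ⬝ᵥ (colc g' * (colA g')⁻¹) *ᵥ y = 0) ∧ colC g' * (colA g')⁻¹ ≠ 0 ∧
      ∀ S p (hS : Cond S p), colA (vv S p hS * g' * (vv S p hS)⁻¹) =
        (1 + S * (colC g' * (colA g')⁻¹) - (2 : F) • (pᵀ * (colc g' * (colA g')⁻¹))) * colA g' := by
    intro g' hd hC
    have hu : IsUnit (colA g').det := hd.isUnit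
    refine ⟨fun y => ?_, fun h0 => hC ?_, fun S p hS => ?_⟩
    · have := col_rel g' ((colA g')⁻¹ *ᵥ y)
      rwa [Matrix.mulVec_mulVec, Matrix.mul_nonsing_inv _ hu, Matrix.one_mulVec, Matrix.mulVec_mulVec,
        Matrix.mulVec_mulVec] at this
    · have := congrArg (· * colA g') h0
      simpa [Matrix.mul_assoc, Matrix.nonsing_inv_mul _ hu] using this
    · rw [(col_conj g' S p hS).1, Matrix.sub_mul, Matrix.add_mul, Matrix.one_mul, Matrix.smul_mul,
        Matrix.mul_assoc, Matrix.mul_assoc, Matrix.mul_assoc pᵀ, Matrix.mul_assoc, Matrix.nonsing_inv_mul _ hu,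
        Matrix.mul_one, Matrix.mul_one]
  obtain ⟨r, hr⟩ : IsSquare (colA g1).det := by
    obtain ⟨-, -, -, -, -, -, -, h⟩ := exists_udv hq h2 (by omega) g1 hg1
      (Matrix.GeneralLinearGroup.mkOfDetNeZero (colA g1) hd1') rfl
    exact h
  have hr0 : r ≠ 0 := fun h => hd1' (by rw [hr, h, mul_zero])
  obtain ⟨hK1, hK1', heq1⟩ := rel g1 hd1' hC1
  obtain ⟨S2, p2, hS2, hd2⟩ := OrthSelect.exists_det_sq _ _ hK1 hK1' (η / r)
  set v2 := vv S2 p2 hS2
  set g2 := v2 * g1 * v2⁻¹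
  have hv2 := vv_mem_omega hq S2 p2 hS2
  have hg2 : g2 ∈ ΩG := mul_mem (mul_mem hv2 hg1) (inv_mem hv2)
  have hd2' : (colA g2).det = η * η := by
    show (colA (v2 * g1 * v2⁻¹)).det = _
    rw [heq1 S2 p2 hS2, Matrix.det_mul, hd2, hr]
    field_simp
  have hC2 : colC g2 ≠ 0 := by rw [(col_conj g1 S2 p2 hS2).2]; exact hC1
  have hne : η * η ≠ 0 := mul_ne_zero hη hη
  obtain ⟨v3, hv3, hd3, hn3⟩ : ∃ v3 : OG, v3 ∈ ΩG ∧ (colA (v3 * g2 * v3⁻¹)).det = η * η ∧
      ∀ a : F, colA (v3 * g2 * v3⁻¹) ≠ a • 1 := by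
    by_cases hns2 : ∀ a : F, colA g2 ≠ a • 1
    · exact ⟨1, one_mem _, by simpa using hd2', by simpa using hns2⟩
    push Not at hns2
    obtain ⟨a, ha⟩ := hns2
    obtain ⟨hK2, hK2', heq2⟩ := rel g2 (hd2'.trans_ne hne) hC2
    obtain ⟨S3, hS3, hd3, hn3⟩ := OrthSelect.exists_nonscalar _ _ hK2 hK2' hm
    refine ⟨vv S3 0 hS3, vv_mem_omega hq _ _ hS3, ?_, fun b hb => ?_⟩
    · rw [heq2 S3 0 hS3, Matrix.transpose_zero, Matrix.zero_mul, smul_zero, sub_zero, Matrix.det_mul, hd3,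
        one_mul, hd2']
    · rw [heq2 S3 0 hS3, Matrix.transpose_zero, Matrix.zero_mul, smul_zero, sub_zero] at hb
      generalize 1 + S3 * (colC g2 * (colA g2)⁻¹) = W at hn3 hb
      have ha0 : a ≠ 0 := by
        rintro rfl
        rw [ha, zero_smul] at hd2'
        have : Nonempty (Fin m) := ⟨⟨0, by omega⟩⟩
        exact hne (by rw [← hd2', Matrix.det_zero])
      rw [ha, Matrix.mul_smul, Matrix.mul_one] at hb
      exact hn3 (b / a) (by
        rw [← (smul_right_injective (M) ha0).eq_iff, smul_smul, mul_div_cancel₀ _ ha0, hb])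
  set g3 := v3 * g2 * v3⁻¹
  have hg3 : g3 ∈ ΩG := mul_mem (mul_mem hv3 hg2) (inv_mem hv3)
  let A3 : GLm := Matrix.GeneralLinearGroup.mkOfDetNeZero (colA g3) (hd3.trans_ne hne)
  obtain ⟨v, hv, u, hu, hvΩ, huΩ, heq, -⟩ := exists_udv hq h2 (by omega) g3 hg3 A3 rfl
  refine ⟨v3 * v2 * v1 * h0, mul_mem (mul_mem (mul_mem hv3 hv2) hv1) hh0, v, hv, u, hu, hvΩ, huΩ, A3, ?_, hd3, hn3⟩
  rw [← heq]
  simp only [g3, g2, g1, g0]
  group

end Cfsg.Agent.Thompson.Orth
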