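import Cfsg.Agent.Lib.QForm.Levi
import Cfsg.Agent.Lib.QForm.OrthSumForm

/-!
In a hyperbolic space of dimension at least ten: a non-scalar isometry `g` moves some singular line `⟨e⟩`, and then
some singular `f` with `B(e, f) = B(f, g e) = 1` lies outside any given subspace of dimension at most five.
-/

set_option autoImplicit false

open Matrix
open Cfsg.Agent
open Module (finrank)

noncomputable section

namespace Cfsg.Agent.Thompson.OrthStep

universe u

variable (F : Type u) [Field F] (n : ℕ)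

/-- The hyperbolic space of rank `n + 1`, split as rank `n` and rank one. -/
def QS : QuadraticForm F ((Fin n ⊕ Fin n) ⊕ (Fin 1 ⊕ Fin 1) → F) :=
  QForm.sumForm (QForm.plusForm F n) (QForm.plusForm F 1)

theorem QS_nondegenerate : (QuadraticMap.polarBilin (QS F n)).Nondegenerate :=
  QForm.sumForm_nondegenerate _ _ (QForm.plusForm_nondegenerate F n) (QForm.plusForm_nondegenerate F 1)

/-- The partner of a coordinate. -/
def partner : (Fin n ⊕ Fin n) ⊕ (Fin 1 ⊕ Fin 1) → (Fin n ⊕ Fin n) ⊕ (Fin 1 ⊕ Fin 1) := Sum.map Sum.swap Sum.swap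

theorem partner_partner (i : (Fin n ⊕ Fin n) ⊕ (Fin 1 ⊕ Fin 1)) : partner n (partner n i) = i := by
  rcases i with (i | i) | (i | i) <;> rfl

theorem partner_ne (i : (Fin n ⊕ Fin n) ⊕ (Fin 1 ⊕ Fin 1)) : partner n i ≠ i := by
  rcases i with (i | i) | (i | i) <;> simp [partner]

theorem QS_single (i : (Fin n ⊕ Fin n) ⊕ (Fin 1 ⊕ Fin 1)) (a : F) : QS F n (Pi.single i a) = 0 := by
  show QForm.plusForm F n _ + QForm.plusForm F 1 _ = 0
  rw [QForm.plusForm_apply, QForm.plusForm_apply, quadFormPlus, quadFormPlus]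
  rcases i with (i | i) | (i | i) <;> simp [Pi.single_apply]

theorem polar_single (i : (Fin n ⊕ Fin n) ⊕ (Fin 1 ⊕ Fin 1)) (v : (Fin n ⊕ Fin n) ⊕ (Fin 1 ⊕ Fin 1) → F) :
    QuadraticMap.polar ⇑(QS F n) (Pi.single i 1) v = v (partner n i) := by
  rw [QS, QForm.polar_sumForm, QForm.coe_plusForm, QForm.coe_plusForm, QForm.polar_plus, QForm.polar_plus]
  rcases i with (i | i) | (i | i) <;> simp [Pi.single_apply, partner, Fin.eq_zero]

variable {F n}

local notation "ι" => (Fin n ⊕ Fin n) ⊕ (Fin 1 ⊕ Fin 1)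
set_option quotPrecheck false in
local notation "OS" => ↥(isometryGroup F ⇑(QS F n))
set_option quotPrecheck false in
local notation "B" => QuadraticMap.polar ⇑(QS F n)

theorem act_smul (g : OS) (a : F) (v : ι → F) : QForm.act _ g (a • v) = a • QForm.act _ g v :=
  Matrix.mulVec_smul _ _ _

theorem act_add (g : OS) (v w : ι → F) : QForm.act _ g (v + w) = QForm.act _ g v + QForm.act _ g w :=
  Matrix.mulVec_add _ _ _

theorem qadd (v w : ι → F) : QS F n (v + w) = QS F n v + QS F n w + B v w :=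
  QuadraticMap.map_add _ v w

/-- A nonscalar isometry moves a singular line. -/
theorem exists_moved (hn : 1 ≤ n) (g : OS)
    (hns : ∀ a : F, ((g : Matrix.GeneralLinearGroup ι F) : Matrix ι ι F) ≠ a • 1) :
    ∃ e : ι → F, QS F n e = 0 ∧ e ≠ 0 ∧ ∀ c : F, QForm.act _ g e ≠ c • e := by
  classical
  by_contra h
  push Not at h
  have hs : ∀ i : ι, ∃ c : F, QForm.act _ g (Pi.single i (1 : F)) = c • Pi.single i (1 : F) := fun i =>
    h _ (QS_single F n i 1) (by simp)
  choose c hc using hs
  have hpair : ∀ i j : ι, i ≠ j → j ≠ partner n i → c i = c j := by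
    intro i j hij hjp
    obtain ⟨d, hd⟩ := h (Pi.single i (1 : F) + Pi.single j (1 : F)) (by
        rw [qadd, QS_single, QS_single, polar_single]
        simp [Ne.symm hjp]) (fun h0 => by simpa [hij] using congrFun h0 i)
    rw [act_add, hc, hc] at hd
    have hi := congrFun hd i
    have hj := congrFun hd j
    simp [hij, hij.symm] at hi hj
    rw [hi, hj]
  have hall : ∀ i j : ι, c i = c j := by
    intro i j
    by_cases hij : i = j
    · rw [hij]
    by_cases hjp : j = partner n i
    · subst hjp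
      obtain ⟨k, hk1, hk2⟩ : ∃ k, k ≠ i ∧ k ≠ partner n i := by
        obtain ⟨k, -, hk⟩ : ∃ k ∈ (Finset.univ : Finset ι), k ∉ ({i, partner n i} : Finset ι) :=
          Finset.exists_mem_notMem_of_card_lt_card (lt_of_le_of_lt Finset.card_le_two (by simp; omega))
        exact ⟨k, by simpa using hk⟩
      rw [hpair i k hk1.symm hk2, hpair k (partner n i) hk2 fun h' => hk1 (by
        have := congrArg (partner n) h'
        rw [partner_partner, partner_partner] at this
        exact this.symm)]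
    · exact hpair i j hij hjp
  refine hns (c (Sum.inr (Sum.inl 0))) (Matrix.ext_of_mulVec_single fun i => ?_)
  rw [Matrix.smul_mulVec, Matrix.one_mulVec, ← hall i]
  exact hc i

/-- Witt's theorem for pairs. -/
theorem exists_act_pair (v w : Fin 2 → ι → F) (hv : LinearIndependent F v) (hw : LinearIndependent F w)
    (h : ∀ i, QS F n (w i) = QS F n (v i)) (h' : ∀ i j, B (w i) (w j) = B (v i) (v j)) :
    ∃ g : OS, ∀ i, QForm.act _ g (v i) = w i := by
  obtain ⟨g, hg, hgx⟩ := Forms.witt_quadratic_tuple (QS_nondegenerate F n) hv hw h h'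
  have happ : ∀ z, (((Forms.glEquiv ι F).symm g : Matrix.GeneralLinearGroup ι F) : Matrix ι ι F) *ᵥ z = g z :=
    fun z => by rw [← Forms.glEquiv_apply, MulEquiv.apply_symm_apply]
  refine ⟨⟨(Forms.glEquiv ι F).symm g, fun u _ => ?_⟩, fun i => (happ _).trans (hgx i)⟩
  show QS F n ((((Forms.glEquiv ι F).symm g : Matrix.GeneralLinearGroup ι F) : Matrix ι ι F) *ᵥ u) = QS F n u
  rw [happ]
  exact hg u u

theorem indep_of_ne {v w : ι → F} (hv : v ≠ 0) (hw : ∀ c : F, w ≠ c • v) : LinearIndependent F ![v, w] :=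
  (LinearIndependent.pair_iff' hv).2 fun c h => hw c h.symm

/-- The partner vector outside a small subspace. -/
theorem exists_partner (hn : 4 ≤ n) (e e' : ι → F) (he : QS F n e = 0) (he' : QS F n e' = 0) (h0 : e ≠ 0)
    (hne : ∀ c : F, e' ≠ c • e) (U : Submodule F (ι → F)) (hU : finrank F U ≤ 5) :
    ∃ f : ι → F, QS F n f = 0 ∧ B e f = 1 ∧ B f e' = 1 ∧ f ∉ U := by
  classical
  let i0 : Fin n := ⟨0, by omega⟩
  let i1 : Fin n := ⟨1, by omega⟩
  have h01 : i0 ≠ i1 := by simp [i0, i1]
  set X0 : ι → F := Pi.single (Sum.inl (Sum.inl i0)) 1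
  set X1 : ι → F := Pi.single (Sum.inl (Sum.inl i1)) 1
  set Y0 : ι → F := Pi.single (Sum.inl (Sum.inr i0)) 1
  set Y1 : ι → F := Pi.single (Sum.inl (Sum.inr i1)) 1
  have pX0 : ∀ v, B X0 v = v (Sum.inl (Sum.inr i0)) := fun v => polar_single F n _ v
  have pX1 : ∀ v, B X1 v = v (Sum.inl (Sum.inr i1)) := fun v => polar_single F n _ v
  have pY0 : ∀ v, B Y0 v = v (Sum.inl (Sum.inl i0)) := fun v => polar_single F n _ v
  have pY1 : ∀ v, B Y1 v = v (Sum.inl (Sum.inl i1)) := fun v => polar_single F n _ v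
  obtain ⟨z, f0, hz, hzi, hzQ, hzB, hf0, hf0e, hf0z, hsupp⟩ : ∃ z f0 : ι → F, QS F n z = 0 ∧
      LinearIndependent F ![X0, z] ∧ B X0 z = B e e' ∧ B z z = B e' e' ∧
      QS F n f0 = 0 ∧ B X0 f0 = 1 ∧ B f0 z = 1 ∧
      ∀ i : ι, i ≠ Sum.inl (Sum.inl i0) → i ≠ Sum.inl (Sum.inl i1) → i ≠ Sum.inl (Sum.inr i0) →
        i ≠ Sum.inl (Sum.inr i1) → X0 i = 0 ∧ z i = 0 ∧ f0 i = 0 := by
    have hee : ∀ v : ι → F, QS F n v = 0 → B v v = 0 := fun v hv => by
      rw [QuadraticMap.polar_self, hv, smul_zero]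
    by_cases hβ : B e e' = 0
    · refine ⟨X1, Y0 + Y1, QS_single F n _ 1, indep_of_ne (by simp [X0]) (fun c hc => ?_), ?_, ?_, ?_, ?_, ?_,
        fun i a1 a2 a3 a4 => ⟨by simp [X0, a1], by simp [X1, a2], by simp [Y0, Y1, a3, a4]⟩⟩
      · simpa [X0, X1, h01, h01.symm] using congrFun hc (Sum.inl (Sum.inl i1))
      · rw [pX0, hβ]; simp [X1]
      · rw [hee _ (QS_single F n _ 1), hee _ he']
      · rw [qadd, QS_single, QS_single, pY0]
        simp [Y1]
      · rw [pX0]; simp [Y0, Y1, h01]
      · rw [QuadraticMap.polar_add_left, pY0, pY1]; simp [X1, h01]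
    · set β := B e e'
      refine ⟨β • Y0, β⁻¹ • X0 + Y0 + (X1 - β⁻¹ • Y1), by rw [QuadraticMap.map_smul, QS_single, smul_zero],
        indep_of_ne (by simp [X0]) (fun c hc => ?_), ?_, ?_, ?_, ?_, ?_,
        fun i a1 a2 a3 a4 => ⟨by simp [X0, a1], by simp [Y0, a3], by simp [X0, X1, Y0, Y1, a1, a2, a3, a4]⟩⟩
      · exact hβ (by simpa [X0, Y0] using congrFun hc (Sum.inl (Sum.inr i0)))
      · rw [pX0]; simp [Y0]
      · rw [hee _ he', QuadraticMap.polar_smul_left, pY0]; simp [Y0]
      · have e1 : QS F n (β⁻¹ • X0 + Y0) = β⁻¹ := by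
          rw [qadd, QuadraticMap.map_smul, QS_single, QS_single, QuadraticMap.polar_smul_left, pX0]
          simp [Y0]
        have e2 : QS F n (X1 - β⁻¹ • Y1) = -β⁻¹ := by
          rw [sub_eq_add_neg, ← neg_smul, qadd, QuadraticMap.map_smul, QS_single, QS_single,
            QuadraticMap.polar_smul_right, pX1]
          simp [Y1]
        have e3 : B (β⁻¹ • X0 + Y0) (X1 - β⁻¹ • Y1) = 0 := by
          rw [QuadraticMap.polar_add_left, QuadraticMap.polar_smul_left, pX0, pY0]
          simp [X1, Y1, h01]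
        rw [qadd, e1, e2, e3, add_neg_cancel, zero_add]
      · rw [pX0]; simp [X0, Y0, X1, Y1, h01]
      · rw [QuadraticMap.polar_smul_right, QuadraticMap.polar_comm, pY0]
        simp [X0, Y0, X1, Y1, h01, mul_inv_cancel₀ hβ]
  obtain ⟨h, hh⟩ := exists_act_pair ![X0, z] ![e, e'] hzi (indep_of_ne h0 hne)
    (fun i => by fin_cases i <;> simp [he, he', hz, X0, QS_single])
    (fun i j => by
      have hXX : B e e = B X0 X0 := by
        rw [QuadraticMap.polar_self, QuadraticMap.polar_self, he, QS_single]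
      fin_cases i <;> fin_cases j <;> simp [hzQ, hzB, hXX, QuadraticMap.polar_comm _ e' e,
        QuadraticMap.polar_comm _ z X0])
  have hX0e : QForm.act _ h X0 = e := hh 0
  have hze : QForm.act _ h z = e' := hh 1
  by_contra hno
  push Not at hno
  have key : ∀ r : ι → F, QS F n r = 0 → B X0 r = 0 → B r z = 0 → B f0 r = 0 → QForm.act _ h (f0 + r) ∈ U := by
    intro r r1 r2 r3 r4
    refine hno _ ?_ ?_ ?_
    · rw [QForm.act_map, qadd, hf0, r1, r4, add_zero, add_zero]
    · rw [← hX0e, QForm.act_polar, QuadraticMap.polar_add_right, hf0e, r2, add_zero]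
    · rw [← hze, QForm.act_polar, QuadraticMap.polar_add_left, hf0z, r3, add_zero]
  let S : Finset ι := Finset.univ \ {Sum.inl (Sum.inl i0), Sum.inl (Sum.inl i1), Sum.inl (Sum.inr i0),
    Sum.inl (Sum.inr i1)}
  have hSc : 6 ≤ S.card := by
    have h1 : S.card = Fintype.card ι - Finset.card ({Sum.inl (Sum.inl i0), Sum.inl (Sum.inl i1),
        Sum.inl (Sum.inr i0), Sum.inl (Sum.inr i1)} : Finset ι) := by
      rw [Finset.card_sdiff_of_subset (Finset.subset_univ _), Finset.card_univ]
    have h2 := Finset.card_le_four (a := (Sum.inl (Sum.inl i0) : ι)) (b := Sum.inl (Sum.inl i1))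
      (c := Sum.inl (Sum.inr i0)) (d := Sum.inl (Sum.inr i1))
    simp only [Fintype.card_sum, Fintype.card_fin] at h1
    omega
  have hmem : ∀ i ∈ S, QForm.act _ h (Pi.single i (1 : F)) ∈ U := by
    intro i hi
    simp only [S, Finset.mem_sdiff, Finset.mem_univ, true_and, Finset.mem_insert, Finset.mem_singleton, not_or] at hi
    obtain ⟨a1, a2, a3, a4⟩ := hi
    have hp : X0 (partner n i) = 0 ∧ z (partner n i) = 0 ∧ f0 (partner n i) = 0 := by
      refine hsupp _ ?_ ?_ ?_ ?_ <;> intro h'
      all_goals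
        have := congrArg (partner n) h'
        rw [partner_partner] at this
        first | exact a1 this | exact a2 this | exact a3 this | exact a4 this
    have h1 := key (Pi.single i 1) (QS_single F n i 1) (by rw [QuadraticMap.polar_comm, polar_single]; exact hp.1)
      (by rw [polar_single]; exact hp.2.1) (by rw [QuadraticMap.polar_comm, polar_single]; exact hp.2.2)
    have h2 : QForm.act _ h f0 ∈ U := by
      simpa using key 0 (QuadraticMap.map_zero _) (QuadraticMap.polar_zero_right _ _)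
        (QuadraticMap.polar_zero_left _ _) (QuadraticMap.polar_zero_right _ _)
    rw [act_add] at h1
    simpa using U.sub_mem h1 h2
  let L : (S → F) →ₗ[F] (ι → F) := ((h : Matrix.GeneralLinearGroup ι F) : Matrix ι ι F).mulVecLin ∘ₗ
    Function.ExtendByZero.linearMap F (Subtype.val : S → ι)
  have hinj : Function.Injective L := fun a b hab => by
    have h3 := Matrix.mulVec_injective_of_isUnit (h : Matrix.GeneralLinearGroup ι F).isUnit hab
    funext s
    have h4 := congrFun h3 s.1
    simpa [Function.ExtendByZero.linearMap_apply, Subtype.val_injective.extend_apply] using h4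
  have hrange : LinearMap.range L ≤ U := by
    rintro _ ⟨a, rfl⟩
    rw [pi_eq_sum_univ' a, map_sum]
    refine U.sum_mem fun s _ => ?_
    rw [map_smul]
    refine U.smul_mem _ ?_
    have e5 : Function.ExtendByZero.linearMap F (Subtype.val : S → ι) (Pi.single s 1) = Pi.single s.1 1 := by
      funext i
      by_cases hi : i ∈ S
      · rw [Function.ExtendByZero.linearMap_apply, show i = ((⟨i, hi⟩ : S) : ι) from rfl,
          Subtype.val_injective.extend_apply]
        simp [Pi.single_apply, Subtype.ext_iff]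
      · rw [Function.ExtendByZero.linearMap_apply, Function.extend_apply' _ _ _ (fun ⟨s', hs'⟩ => hi (hs' ▸ s'.2))]
        simp [show i ≠ s.1 from fun h' => hi (h' ▸ s.2)]
    show ((h : Matrix.GeneralLinearGroup ι F) : Matrix ι ι F) *ᵥ _ ∈ U
    rw [e5]
    exact hmem s.1 s.2
  have h5 := Submodule.finrank_mono hrange
  rw [LinearMap.finrank_range_of_inj hinj, Module.finrank_fintype_fun_eq_card, Fintype.card_coe] at h5
  omega

end Cfsg.Agent.Thompson.OrthStep
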