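import Cfsg.Agent.Lib.Thompson.RegMatrix

/-!
Choosing a symmetric `S` so that `A + S C` has prescribed determinant and is not scalar, and the absence of nonzero
solutions of `μ E X = X B` for regular `E`, `B` with separated eigenvalues.
-/

set_option autoImplicit false

open Matrix Polynomial

namespace Cfsg.Agent.Thompson

universe u

variable {F : Type u} [Field F]

open Cfsg.Agent.Commutator in
/-- No common eigenvalue, no intertwiner. -/
theorem eq_zero_of_intertwine {k : ℕ} {c μ : F} (hc : c ≠ 0) (E B X : Matrix (Fin (k + 2)) (Fin (k + 2)) F)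
    (hE : E.charpoly = (Polynomial.X - Polynomial.C 1) ^ k * Regular.pairPoly c)
    (hB : B.charpoly = (Polynomial.X - Polynomial.C 1) ^ k * Regular.pairPoly c)
    (hμ : μ ≠ 0) (h1 : μ ≠ 1) (h2 : μ ≠ c) (h3 : μ ≠ c⁻¹) (h4 : μ ≠ c ^ 2) (h5 : μ ≠ (c ^ 2)⁻¹)
    (h : (μ • E) * X = X * B) : X = 0 := by
  have hcomm : ∀ p : F[X], aeval (μ • E) p * X = X * aeval B p := by
    intro p
    induction p using Polynomial.induction_on' with
    | add p q hp hq => simp [add_mul, mul_add, hp, hq]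
    | monomial j a =>
      have hj : (μ • E) ^ j * X = X * B ^ j := by
        induction j with
        | zero => simp
        | succ j ih => rw [pow_succ, Matrix.mul_assoc, h, ← Matrix.mul_assoc, ih, pow_succ, Matrix.mul_assoc]
      rw [aeval_monomial, aeval_monomial, ← Algebra.smul_def, ← Algebra.smul_def, Matrix.smul_mul, hj,
        Matrix.mul_smul]
  have hdet : ∀ r : F, r / μ ≠ 1 → r / μ ≠ c → r / μ ≠ c⁻¹ → (μ • E - r • 1).det ≠ 0 := by
    intro r r1 r2 r3 hd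
    have he := Matrix.eval_charpoly E (r / μ)
    rw [hE] at he
    have hm : μ • E - r • 1 = -(μ • (Matrix.scalar (Fin (k + 2)) (r / μ) - E)) := by
      rw [smul_sub, Matrix.scalar_apply, ← Matrix.smul_one_eq_diagonal, smul_smul, mul_div_cancel₀ _ hμ, neg_sub]
    rw [hm, Matrix.det_neg, Matrix.det_smul, ← he] at hd
    simp [Regular.pairPoly, hμ, sub_eq_zero, r1, r2, r3] at hd
  have hp : (aeval (μ • E) B.charpoly).det ≠ 0 := by
    rw [hB, Regular.pairPoly]
    simp only [map_mul, map_pow, map_sub, aeval_X, aeval_C, Algebra.algebraMap_eq_smul_one, Matrix.det_mul,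
      Matrix.det_pow]
    refine mul_ne_zero (pow_ne_zero _ (hdet 1 ?_ ?_ ?_)) (mul_ne_zero (hdet c ?_ ?_ ?_) (hdet c⁻¹ ?_ ?_ ?_))
    all_goals intro hh
    all_goals rw [div_eq_iff hμ] at hh
    · exact h1 (by linear_combination -hh)
    · exact h3 (by field_simp; linear_combination -hh)
    · exact h2 (by field_simp at hh; linear_combination -hh)
    · exact h2 (by linear_combination -hh)
    · exact h1 ((mul_right_eq_self₀.1 hh.symm).resolve_right hc)
    · exact h4 (by field_simp at hh; linear_combination -hh)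
    · exact h3 (by linear_combination -hh)
    · exact h5 (by field_simp at hh ⊢; linear_combination -hh)
    · exact h1 ((mul_right_eq_self₀.1 hh.symm).resolve_right (inv_ne_zero hc))
  have := hcomm B.charpoly
  rw [Matrix.aeval_self_charpoly, Matrix.mul_zero] at this
  have h' := congrArg ((aeval (μ • E) B.charpoly)⁻¹ * ·) this
  simpa [← Matrix.mul_assoc, Matrix.nonsing_inv_mul _ hp.isUnit] using h'

variable {m : ℕ}

theorem det_one_add_vecMulVec (u v : Fin m → F) : (1 + vecMulVec u v).det = 1 + v ⬝ᵥ u := by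
  rw [Matrix.vecMulVec_eq Unit, Matrix.det_one_add_replicateCol_mul_replicateRow]

theorem det_one_add_pair (u u' v v' : Fin m → F) :
    (1 + (vecMulVec u v + vecMulVec u' v')).det =
      (1 + v ⬝ᵥ u) * (1 + v' ⬝ᵥ u') - (v ⬝ᵥ u') * (v' ⬝ᵥ u) := by
  let U : Matrix (Fin m) (Fin 2) F := Matrix.of fun i j => ![u i, u' i] j
  let W : Matrix (Fin 2) (Fin m) F := Matrix.of fun j i => ![v i, v' i] j
  have hUW : vecMulVec u v + vecMulVec u' v' = U * W := by
    ext i j
    simp [U, W, Matrix.mul_apply, Fin.sum_univ_two, vecMulVec_apply]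
  rw [hUW, Matrix.det_one_add_mul_comm, Matrix.det_fin_two]
  simp [U, W, Matrix.mul_apply, dotProduct, Matrix.one_apply]

theorem isSymm_vecMulVec_self (v : Fin m → F) : (vecMulVec v v).IsSymm := Matrix.transpose_vecMulVec v v

theorem vecMulVec_mul_mulVec (u v x : Fin m → F) (M : Matrix (Fin m) (Fin m) F) :
    (vecMulVec u v * M) *ᵥ x = (v ⬝ᵥ M *ᵥ x) • u := by
  rw [← Matrix.mulVec_mulVec, Matrix.vecMulVec_mulVec]
  simp

/-- Some symmetric `S` gives `1 + S M` any prescribed nonzero determinant. -/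
theorem exists_det_eq (M : Matrix (Fin m) (Fin m) F) (hM : M.IsSymm) (hM0 : M ≠ 0) (η : F) :
    ∃ S : Matrix (Fin m) (Fin m) F, S.IsSymm ∧ (1 + S * M).det = η := by
  by_cases hv : ∃ v, v ⬝ᵥ M *ᵥ v ≠ 0
  · obtain ⟨v, hv⟩ := hv
    refine ⟨((η - 1) / (v ⬝ᵥ M *ᵥ v)) • vecMulVec v v, (isSymm_vecMulVec_self v).smul _, ?_⟩
    rw [Matrix.smul_mul, Matrix.vecMulVec_mul, ← Matrix.smul_vecMulVec, det_one_add_vecMulVec, dotProduct_smul,
      smul_eq_mul, ← Matrix.dotProduct_mulVec, div_mul_cancel₀ _ hv, add_sub_cancel]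
  push Not at hv
  obtain ⟨i, j, hij⟩ : ∃ i j, M i j ≠ 0 := by
    by_contra hne; push Not at hne; exact hM0 (Matrix.ext hne)
  set v : Fin m → F := Pi.single i 1
  set w : Fin m → F := (M i j)⁻¹ • Pi.single j 1
  have hvw : v ⬝ᵥ M *ᵥ w = 1 := by
    simp [v, w, Matrix.mulVec_smul, inv_mul_cancel₀ hij]
  have hwv : w ⬝ᵥ M *ᵥ v = 1 := by
    rw [Matrix.dotProduct_mulVec, dotProduct_comm, ← Matrix.mulVec_transpose, hM.eq, hvw]
  refine ⟨vecMulVec ((1 - η) • v) v + vecMulVec w w, ?_, ?_⟩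
  · rw [Matrix.smul_vecMulVec]
    exact ((isSymm_vecMulVec_self v).smul _).add (isSymm_vecMulVec_self w)
  · rw [Matrix.add_mul, Matrix.vecMulVec_mul, Matrix.vecMulVec_mul, det_one_add_pair, ← Matrix.dotProduct_mulVec,
      ← Matrix.dotProduct_mulVec, ← Matrix.dotProduct_mulVec, ← Matrix.dotProduct_mulVec, Matrix.mulVec_smul,
      dotProduct_smul, dotProduct_smul, hv, hv, hvw, hwv]
    simp

/-- Some symmetric `S` gives `1 + S M` determinant one without being scalar. -/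
theorem exists_nonscalar (M : Matrix (Fin m) (Fin m) F) (hM : M.IsSymm) (hM0 : M ≠ 0) (hm : 2 ≤ m)
    {c : F} (hc : c ≠ 0) (hc2 : c * c ≠ 1) :
    ∃ S : Matrix (Fin m) (Fin m) F, S.IsSymm ∧ (1 + S * M).det = 1 ∧ ∀ a : F, 1 + S * M ≠ a • 1 := by
  have nil : ∀ (S : Matrix (Fin m) (Fin m) F) (w z : Fin m → F), w ≠ 0 → S * M = vecMulVec w z → z ⬝ᵥ w = 0 →
      z ≠ 0 → (1 + S * M).det = 1 ∧ ∀ a : F, 1 + S * M ≠ a • 1 := by
    intro S w z hw hS hzw hz
    refine ⟨by rw [hS, det_one_add_vecMulVec, hzw, add_zero], fun a ha => ?_⟩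
    rw [hS] at ha
    have e1 : (1 + vecMulVec w z) *ᵥ w = (a • (1 : Matrix (Fin m) (Fin m) F)) *ᵥ w := by rw [ha]
    rw [Matrix.add_mulVec, Matrix.one_mulVec, Matrix.vecMulVec_mulVec, hzw, Matrix.smul_mulVec,
      Matrix.one_mulVec] at e1
    have ha1 : a = 1 := by
      obtain ⟨i, hi⟩ := Function.ne_iff.1 hw
      have := congrFun e1 i
      simp at this
      exact mul_right_cancel₀ hi (this.symm.trans (one_mul (w i)).symm)
    rw [ha1, one_smul, add_eq_left] at ha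
    obtain ⟨i, hi⟩ := Function.ne_iff.1 hw
    obtain ⟨j, hj⟩ := Function.ne_iff.1 hz
    exact mul_ne_zero hi hj (by simpa [vecMulVec_apply] using congrFun (congrFun ha i) j)
  by_cases hker : ∃ w, w ≠ 0 ∧ M *ᵥ w = 0
  · obtain ⟨w, hw, hMw⟩ := hker
    obtain ⟨v, hv⟩ : ∃ v, M *ᵥ v ≠ 0 := by
      by_contra hne
      push Not at hne
      exact hM0 (Matrix.ext fun i j => by simpa using congrFun (hne (Pi.single j 1)) i)
    refine ⟨vecMulVec w v + vecMulVec v w, ?_, nil _ w (M *ᵥ v) hw ?_ ?_ hv⟩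
    · rw [Matrix.IsSymm, Matrix.transpose_add, Matrix.transpose_vecMulVec, Matrix.transpose_vecMulVec, add_comm]
    · rw [Matrix.add_mul, Matrix.vecMulVec_mul, Matrix.vecMulVec_mul,
        ← Matrix.mulVec_transpose M w, ← Matrix.mulVec_transpose M v, hM.eq, hMw]
      simp
    · rw [← hM.eq, Matrix.mulVec_transpose, ← Matrix.dotProduct_mulVec, hMw, dotProduct_zero]
  by_cases hiso : ∃ v, v ≠ 0 ∧ v ⬝ᵥ M *ᵥ v = 0
  · obtain ⟨v, hv, hvv⟩ := hiso
    refine ⟨vecMulVec v v, isSymm_vecMulVec_self v, nil _ v (v ᵥ* M) hv (Matrix.vecMulVec_mul _ _ _)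
      (by rw [← Matrix.dotProduct_mulVec, hvv]) fun h0 => ?_⟩
    rw [← Matrix.mulVec_transpose, hM.eq] at h0
    exact hker ⟨v, hv, h0⟩
  push Not at hiso
  set v : Fin m → F := Pi.single ⟨0, by omega⟩ 1
  have hv : v ≠ 0 := by simp [v]
  obtain ⟨w, hw, hvw⟩ : ∃ w, w ≠ 0 ∧ v ⬝ᵥ M *ᵥ w = 0 := by
    set i0 : Fin m := ⟨0, by omega⟩
    set i1 : Fin m := ⟨1, by omega⟩
    have hq := hiso v hv
    refine ⟨(v ⬝ᵥ M *ᵥ v) • Pi.single i1 1 - (v ⬝ᵥ M *ᵥ (Pi.single i1 1)) • v, fun h0 => hq ?_, ?_⟩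
    · have := congrFun h0 i1
      simpa [v, i0, i1, Pi.single_apply] using this
    · simp [Matrix.mulVec_sub, Matrix.mulVec_smul, mul_comm]
  have hwv : w ⬝ᵥ M *ᵥ v = 0 := by
    rw [Matrix.dotProduct_mulVec, dotProduct_comm, ← Matrix.mulVec_transpose, hM.eq, hvw]
  set S := vecMulVec (((c - 1) / (v ⬝ᵥ M *ᵥ v)) • v) v + vecMulVec (((c⁻¹ - 1) / (w ⬝ᵥ M *ᵥ w)) • w) w
  refine ⟨S, ?_, ?_, fun a ha => ?_⟩
  · simp only [S, Matrix.smul_vecMulVec]
    exact ((isSymm_vecMulVec_self v).smul _).add ((isSymm_vecMulVec_self w).smul _)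
  · simp only [S]
    rw [Matrix.add_mul, Matrix.vecMulVec_mul, Matrix.vecMulVec_mul, det_one_add_pair, ← Matrix.dotProduct_mulVec,
      ← Matrix.dotProduct_mulVec, ← Matrix.dotProduct_mulVec, ← Matrix.dotProduct_mulVec, Matrix.mulVec_smul,
      Matrix.mulVec_smul, dotProduct_smul, dotProduct_smul, dotProduct_smul, dotProduct_smul, hvw, hwv]
    simp only [smul_eq_mul, mul_zero, sub_zero, div_mul_cancel₀ _ (hiso v hv), div_mul_cancel₀ _ (hiso w hw)]
    ring_nf
    exact mul_inv_cancel₀ hc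
  · have ev : (1 + S * M) *ᵥ v = c • v := by
      simp only [S, Matrix.add_mul, Matrix.add_mulVec, Matrix.one_mulVec, vecMulVec_mul_mulVec, hwv, zero_smul,
        add_zero, smul_smul, mul_div_cancel₀ _ (hiso v hv)]
      simp only [zero_mul, mul_zero, zero_smul, add_zero, zero_add]
      rw [sub_smul, one_smul, add_sub_cancel]
    have ew : (1 + S * M) *ᵥ w = c⁻¹ • w := by
      simp only [S, Matrix.add_mul, Matrix.add_mulVec, Matrix.one_mulVec, vecMulVec_mul_mulVec, hvw, zero_smul,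
        zero_add, smul_smul, mul_div_cancel₀ _ (hiso w hw)]
      simp only [zero_mul, mul_zero, zero_smul, add_zero, zero_add]
      rw [sub_smul, one_smul, add_sub_cancel]
    rw [ha, Matrix.smul_mulVec, Matrix.one_mulVec] at ev ew
    exact (Commutator.Regular.ne_of_pair hc hc2).2.2
      ((smul_left_injective F hv ev).symm.trans (smul_left_injective F hw ew))

theorem exists_invertible : ∀ (d : ℕ) (A C : Matrix (Fin m) (Fin m) F),
    Module.finrank F (LinearMap.ker A.mulVecLin) = d → Aᵀ * C = Cᵀ * A →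
    (∀ x, A *ᵥ x = 0 → C *ᵥ x = 0 → x = 0) →
    ∃ S : Matrix (Fin m) (Fin m) F, S.IsSymm ∧ (A + S * C).det ≠ 0 := by
  intro d
  induction d using Nat.strong_induction_on with
  | _ d ih =>
    intro A C hd hsym hinj
    by_cases hdet : A.det ≠ 0
    · exact ⟨0, Matrix.isSymm_zero, by simpa using hdet⟩
    obtain ⟨x, hx, hAx⟩ := Matrix.exists_mulVec_eq_zero_iff.2 (not_not.1 hdet)
    have hCx : C *ᵥ x ≠ 0 := fun h0 => hx (hinj x hAx h0)
    have hperp : ∀ y, C *ᵥ x ⬝ᵥ A *ᵥ y = 0 := fun y => by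
      rw [Matrix.dotProduct_mulVec, ← Matrix.mulVec_transpose, Matrix.mulVec_mulVec, hsym, ← Matrix.mulVec_mulVec,
        hAx, Matrix.mulVec_zero, zero_dotProduct]
    obtain ⟨v, hv⟩ : ∃ v, C *ᵥ x ⬝ᵥ v ≠ 0 := by
      obtain ⟨i, hi⟩ := Function.ne_iff.1 hCx
      exact ⟨Pi.single i 1, by simpa using hi⟩
    set A' := A + vecMulVec v v * C with hA'
    have hsub : ∀ y, A' *ᵥ y = 0 → A *ᵥ y = 0 ∧ v ⬝ᵥ C *ᵥ y = 0 := by
      intro y hy
      rw [hA', Matrix.add_mulVec, vecMulVec_mul_mulVec] at hy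
      have h1 : v ⬝ᵥ C *ᵥ y = 0 := by
        have := congrArg (C *ᵥ x ⬝ᵥ ·) hy
        simp only [dotProduct_add, hperp, zero_add, dotProduct_smul, smul_eq_mul, dotProduct_zero] at this
        exact (mul_eq_zero.1 this).resolve_right hv
      rw [h1, zero_smul, add_zero] at hy
      exact ⟨hy, h1⟩
    have hlt : Module.finrank F (LinearMap.ker A'.mulVecLin) < d := by
      rw [← hd]
      refine Submodule.finrank_lt_finrank_of_lt (lt_of_le_of_ne (fun y hy => (hsub y hy).1) fun he => ?_)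
      have : x ∈ LinearMap.ker A'.mulVecLin := he ▸ hAx
      exact hv (by rw [dotProduct_comm]; exact (hsub x this).2)
    have hsym' : A'ᵀ * C = Cᵀ * A' := by
      rw [hA', Matrix.transpose_add, Matrix.transpose_mul, Matrix.add_mul, Matrix.mul_add, hsym,
        (isSymm_vecMulVec_self v).eq, Matrix.mul_assoc]
    obtain ⟨S, hS, hSd⟩ := ih _ hlt A' C rfl hsym' fun y hy hCy => hinj y (hsub y hy).1 hCy
    exact ⟨vecMulVec v v + S, (isSymm_vecMulVec_self v).add hS, by rwa [Matrix.add_mul, ← add_assoc, ← hA']⟩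

/-- The selection. -/
theorem exists_shift (A C : Matrix (Fin m) (Fin m) F) (hsym : Aᵀ * C = Cᵀ * A)
    (hinj : ∀ x, A *ᵥ x = 0 → C *ᵥ x = 0 → x = 0) (hC : C ≠ 0) (hm : 2 ≤ m) {δ : F} (hδ : δ ≠ 0)
    {c : F} (hc : c ≠ 0) (hc2 : c * c ≠ 1) :
    ∃ S : Matrix (Fin m) (Fin m) F, S.IsSymm ∧ (A + S * C).det = δ ∧ ∀ a : F, A + S * C ≠ a • 1 := by
  have facts : ∀ T : Matrix (Fin m) (Fin m) F, T.IsSymm → (A + T * C).det ≠ 0 →
      (C * (A + T * C)⁻¹).IsSymm ∧ C * (A + T * C)⁻¹ ≠ 0 ∧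
      ∀ S, A + (T + S) * C = (1 + S * (C * (A + T * C)⁻¹)) * (A + T * C) := by
    intro T hT hd
    set A' := A + T * C
    have hu : IsUnit A'.det := hd.isUnit
    have hs : A'ᵀ * C = Cᵀ * A' := by
      simp only [A', Matrix.transpose_add, Matrix.transpose_mul, Matrix.add_mul, Matrix.mul_add, hsym, hT.eq,
        Matrix.mul_assoc]
    refine ⟨?_, fun h0 => hC ?_, fun S => ?_⟩
    · have hu' : IsUnit A'ᵀ.det := by rwa [Matrix.det_transpose]
      rw [Matrix.IsSymm, Matrix.transpose_mul, Matrix.transpose_nonsing_inv]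
      calc (A'ᵀ)⁻¹ * Cᵀ = (A'ᵀ)⁻¹ * (Cᵀ * A') * A'⁻¹ := by
            rw [Matrix.mul_assoc, Matrix.mul_assoc, Matrix.mul_nonsing_inv _ hu, Matrix.mul_one]
        _ = C * A'⁻¹ := by rw [← hs, ← Matrix.mul_assoc, Matrix.nonsing_inv_mul _ hu', Matrix.one_mul]
    · have := congrArg (· * A') h0
      simpa [Matrix.mul_assoc, Matrix.nonsing_inv_mul _ hu] using this
    · rw [Matrix.add_mul (1 : Matrix (Fin m) (Fin m) F), Matrix.one_mul, Matrix.mul_assoc S,
        Matrix.mul_assoc C, Matrix.nonsing_inv_mul _ hu, Matrix.mul_one, Matrix.add_mul T S]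
      simp only [A']
      abel
  obtain ⟨S0, hS0, hd0⟩ := exists_invertible _ A C rfl hsym hinj
  obtain ⟨hM, hM0, heq⟩ := facts S0 hS0 hd0
  obtain ⟨S1, hS1, hd1⟩ := exists_det_eq _ hM hM0 (δ / (A + S0 * C).det)
  have hd1' : (A + (S0 + S1) * C).det = δ := by rw [heq, Matrix.det_mul, hd1, div_mul_cancel₀ _ hd0]
  by_cases hns : ∀ a : F, A + (S0 + S1) * C ≠ a • 1
  · exact ⟨_, hS0.add hS1, hd1', hns⟩
  push Not at hns
  obtain ⟨a, ha⟩ := hns
  obtain ⟨hM', hM0', heq'⟩ := facts _ (hS0.add hS1) (by rw [hd1']; exact hδ)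
  obtain ⟨S2, hS2, hd2, hns2⟩ := exists_nonscalar _ hM' hM0' hm hc hc2
  refine ⟨_, (hS0.add hS1).add hS2, by rw [heq', Matrix.det_mul, hd2, hd1', one_mul], fun b hb => ?_⟩
  rw [heq'] at hb
  generalize 1 + S2 * (C * (A + (S0 + S1) * C)⁻¹) = Z at hns2 hb
  rw [ha, Matrix.mul_smul, Matrix.mul_one] at hb
  have ha0 : a ≠ 0 := by
    rintro rfl
    rw [ha, zero_smul] at hd1'
    haveI : Nonempty (Fin m) := ⟨⟨0, by omega⟩⟩
    exact hδ (by rw [← hd1', Matrix.det_zero])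
  exact hns2 (b / a) (by
    rw [← smul_right_injective (Matrix (Fin m) (Fin m) F) ha0 |>.eq_iff, smul_smul, mul_div_cancel₀ _ ha0, hb])

end Cfsg.Agent.Thompson
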