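import Cfsg.Agent.Lib.Thompson.Trick
import Cfsg.Agent.Lib.Thompson.Linear
import Cfsg.Agent.Lib.Thompson.SymSelect
import Cfsg.Agent.Lib.SimTranspose.Basic
import Cfsg.Prelude.Def_Classical

/-!
Thompson's class-square property for `PSp_2m(F)`, `m ≥ 2`, `|F| ≥ 8`, through the Siegel parabolic.
-/

set_option autoImplicit false

open Matrix

namespace Cfsg.Agent.Thompson.Symp

universe u

variable {F : Type u} [Field F] {k : ℕ}

local notation "M" => Matrix (Fin (k + 2)) (Fin (k + 2)) F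
local notation "GLm" => Matrix.GeneralLinearGroup (Fin (k + 2)) F
local notation "Sp" => Matrix.symplecticGroup (Fin (k + 2)) F
local notation "M4" => Matrix (Fin (k + 2) ⊕ Fin (k + 2)) (Fin (k + 2) ⊕ Fin (k + 2)) F

/-- The Levi embedding. -/
def dd : GLm →* Sp where
  toFun P := ⟨fromBlocks (P : M) 0 0 ((P⁻¹ : GLm) : M)ᵀ, SymplecticGroup.fromBlocks_mem_iff.2 (by
    refine ⟨by simp, by simp, ?_⟩
    rw [← Matrix.transpose_mul, Units.inv_mul]; simp)⟩
  map_one' := by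
    apply Subtype.ext
    simp [fromBlocks_one]
  map_mul' P Q := by
    apply Subtype.ext
    simp [fromBlocks_multiply, Matrix.transpose_mul, _root_.mul_inv_rev, Units.val_mul]

theorem coe_dd (P : GLm) :
    ((dd P : Sp) : M4) = fromBlocks (P : M) 0 0 ((P⁻¹ : GLm) : M)ᵀ := rfl

/-- The lower unipotent element. -/
def uu (S : M) (hS : S.IsSymm) : Sp :=
  ⟨fromBlocks 1 0 S 1, SymplecticGroup.fromBlocks_mem_iff.2 (by simp [hS.eq])⟩

/-- The upper unipotent element. -/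
def vv (S : M) (hS : S.IsSymm) : Sp :=
  ⟨fromBlocks 1 S 0 1, SymplecticGroup.fromBlocks_mem_iff.2 (by simp [hS.eq])⟩

theorem coe_uu (S : M) (hS : S.IsSymm) : ((uu S hS : Sp) : M4) = fromBlocks 1 0 S 1 := rfl

theorem coe_vv (S : M) (hS : S.IsSymm) : ((vv S hS : Sp) : M4) = fromBlocks 1 S 0 1 := rfl

theorem uu_mul (S T : M) (hS : S.IsSymm) (hT : T.IsSymm) : uu S hS * uu T hT = uu (S + T) (hS.add hT) :=
  Subtype.ext (by rw [Submonoid.coe_mul, coe_uu, coe_uu, coe_uu, fromBlocks_multiply]; simp)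

theorem vv_mul (S T : M) (hS : S.IsSymm) (hT : T.IsSymm) : vv S hS * vv T hT = vv (S + T) (hS.add hT) :=
  Subtype.ext (by rw [Submonoid.coe_mul, coe_vv, coe_vv, coe_vv, fromBlocks_multiply]; simp [add_comm])

theorem uu_zero : uu (0 : M) Matrix.isSymm_zero = 1 := Subtype.ext (by simp [coe_uu, fromBlocks_one])

theorem vv_zero : vv (0 : M) Matrix.isSymm_zero = 1 := Subtype.ext (by simp [coe_vv, fromBlocks_one])

/-- The lower radical. -/
def Vm : Subgroup Sp where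
  carrier := {g | ∃ S hS, g = uu S hS}
  one_mem' := ⟨0, Matrix.isSymm_zero, uu_zero.symm⟩
  mul_mem' := by rintro _ _ ⟨S, hS, rfl⟩ ⟨T, hT, rfl⟩; exact ⟨_, _, uu_mul S T hS hT⟩
  inv_mem' := by
    rintro _ ⟨S, hS, rfl⟩
    exact ⟨-S, hS.neg, inv_eq_of_mul_eq_one_right (by rw [uu_mul, ← uu_zero]; congr 1; simp)⟩

/-- The upper radical. -/
def Vp : Subgroup Sp where
  carrier := {g | ∃ S hS, g = vv S hS}
  one_mem' := ⟨0, Matrix.isSymm_zero, vv_zero.symm⟩
  mul_mem' := by rintro _ _ ⟨S, hS, rfl⟩ ⟨T, hT, rfl⟩; exact ⟨_, _, vv_mul S T hS hT⟩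
  inv_mem' := by
    rintro _ ⟨S, hS, rfl⟩
    exact ⟨-S, hS.neg, inv_eq_of_mul_eq_one_right (by rw [vv_mul, ← vv_zero]; congr 1; simp)⟩

theorem conj_uu (P : GLm) (S : M) (hS : S.IsSymm) :
    dd P * uu S hS = uu (((P⁻¹ : GLm) : M)ᵀ * S * ((P⁻¹ : GLm) : M))
      (by rw [Matrix.IsSymm]; simp [Matrix.transpose_mul, hS.eq, Matrix.mul_assoc]) * dd P :=
  Subtype.ext (by
    rw [Submonoid.coe_mul, Submonoid.coe_mul, coe_dd, coe_uu, coe_uu, fromBlocks_multiply, fromBlocks_multiply]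
    simp [Matrix.mul_assoc])

theorem conj_vv (P : GLm) (S : M) (hS : S.IsSymm) :
    dd P * vv S hS = vv ((P : M) * S * (P : M)ᵀ)
      (by rw [Matrix.IsSymm]; simp [Matrix.transpose_mul, hS.eq, Matrix.mul_assoc]) * dd P :=
  Subtype.ext (by
    rw [Submonoid.coe_mul, Submonoid.coe_mul, coe_dd, coe_vv, coe_vv, fromBlocks_multiply, fromBlocks_multiply]
    simp [Matrix.mul_assoc, ← Matrix.transpose_mul])

theorem dd_conj_Vm (P : GLm) {z : Sp} (hz : z ∈ Vm) : dd P * z * (dd P)⁻¹ ∈ Vm := by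
  obtain ⟨S, hS, rfl⟩ := hz
  rw [conj_uu, mul_inv_cancel_right]
  exact ⟨_, _, rfl⟩

theorem dd_conj_Vp (P : GLm) {z : Sp} (hz : z ∈ Vp) : dd P * z * (dd P)⁻¹ ∈ Vp := by
  obtain ⟨S, hS, rfl⟩ := hz
  rw [conj_vv, mul_inv_cancel_right]
  exact ⟨_, _, rfl⟩

theorem dd_norm (P : GLm) : (∀ z : Sp, z ∈ Vm ↔ dd P * z * (dd P)⁻¹ ∈ Vm) ∧
    (∀ z : Sp, z ∈ Vp ↔ dd P * z * (dd P)⁻¹ ∈ Vp) := by
  refine ⟨fun z => ⟨dd_conj_Vm P, fun h => ?_⟩, fun z => ⟨dd_conj_Vp P, fun h => ?_⟩⟩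
  · have := dd_conj_Vm P⁻¹ h
    rwa [map_inv, show (dd P)⁻¹ * (dd P * z * (dd P)⁻¹) * (dd P)⁻¹⁻¹ = z by group] at this
  · have := dd_conj_Vp P⁻¹ h
    rwa [map_inv, show (dd P)⁻¹ * (dd P * z * (dd P)⁻¹) * (dd P)⁻¹⁻¹ = z by group] at this

theorem fixFree {c lam : F} (hc : c ≠ 0) (hl : lam ≠ 0) (h1 : lam * lam ≠ 1) (h2 : lam * lam ≠ c)
    (h3 : lam * lam ≠ c⁻¹) (h4 : lam * lam ≠ c ^ 2) (h5 : lam * lam ≠ (c ^ 2)⁻¹)
    (D X : GLm) (hD : MReg c k (D : M)) (hX : (X : M) = lam • (D : M)) :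
    FixFree (Vm (F := F) (k := k)) (dd X) ∧ FixFree (Vp (F := F) (k := k)) (dd X) := by
  have hXi : ((X⁻¹ : GLm) : M) = lam⁻¹ • ((D⁻¹ : GLm) : M) := Units.inv_eq_of_mul_eq_one_right (by
    rw [hX, Matrix.smul_mul, Matrix.mul_smul, Units.mul_inv, smul_smul, mul_inv_cancel₀ hl, one_smul])
  have hDi : ((D⁻¹ : GLm) : M).charpoly = (Polynomial.X - Polynomial.C 1) ^ k *
      Cfsg.Agent.Commutator.Regular.pairPoly c := by
    rw [Matrix.coe_units_inv]
    exact (hD.inv hc).charpoly_eq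
  refine ⟨⟨fun v hv => dd_conj_Vm X hv, fun v hv hcomm => ?_⟩, ⟨fun v hv => dd_conj_Vp X hv, fun v hv hcomm => ?_⟩⟩
  · obtain ⟨S, hS, rfl⟩ := hv
    have hb := congrArg (fun g : Sp => (g : M4).toBlocks₂₁) hcomm
    simp only [Submonoid.coe_mul, coe_dd, coe_uu, fromBlocks_multiply, toBlocks_fromBlocks₂₁] at hb
    simp only [Matrix.zero_mul, Matrix.mul_zero, zero_add, add_zero, Matrix.one_mul, Matrix.mul_one, hX, hXi,
      Matrix.transpose_smul, Matrix.smul_mul, Matrix.mul_smul] at hb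
    have hS0 : S = 0 := by
      refine eq_zero_of_intertwine hc ((D⁻¹ : GLm) : M)ᵀ (D : M) S (μ := (lam * lam)⁻¹) ?_ hD.charpoly_eq
        (inv_ne_zero (mul_ne_zero hl hl)) ?_ ?_ ?_ ?_ ?_ ?_
      · rw [Matrix.charpoly_transpose, hDi]
      · rwa [ne_eq, inv_eq_one]
      · exact fun h => h3 (by rw [← h, inv_inv])
      · exact fun h => h2 (inv_injective h)
      · exact fun h => h5 (by rw [← h, inv_inv])
      · exact fun h => h4 (inv_injective h)
      · rw [Matrix.smul_mul, _root_.mul_inv_rev, mul_smul, hb, smul_smul, inv_mul_cancel₀ hl, one_smul]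
    subst hS0
    exact uu_zero
  · obtain ⟨S, hS, rfl⟩ := hv
    have hb := congrArg (fun g : Sp => ((g : M4).toBlocks₁₂)ᵀ) hcomm
    simp only [Submonoid.coe_mul, coe_dd, coe_vv, fromBlocks_multiply, toBlocks_fromBlocks₁₂] at hb
    simp only [Matrix.zero_mul, Matrix.mul_zero, zero_add, add_zero, Matrix.one_mul, Matrix.mul_one, hX, hXi,
      Matrix.transpose_smul, Matrix.smul_mul, Matrix.mul_smul, Matrix.transpose_mul, Matrix.transpose_transpose,
      hS.eq] at hb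
    have hS0 : S = 0 := by
      refine eq_zero_of_intertwine hc ((D⁻¹ : GLm) : M) (D : M)ᵀ S (μ := (lam * lam)⁻¹) hDi ?_
        (inv_ne_zero (mul_ne_zero hl hl)) ?_ ?_ ?_ ?_ ?_ ?_
      · rw [Matrix.charpoly_transpose, hD.charpoly_eq]
      · rwa [ne_eq, inv_eq_one]
      · exact fun h => h3 (by rw [← h, inv_inv])
      · exact fun h => h2 (inv_injective h)
      · exact fun h => h5 (by rw [← h, inv_inv])
      · exact fun h => h4 (inv_injective h)
      · rw [Matrix.smul_mul, _root_.mul_inv_rev, mul_smul, ← hb, smul_smul, inv_mul_cancel₀ hl, one_smul]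
    subst hS0
    exact vv_zero

theorem blocks_facts (g : Sp) :
    (g : M4).toBlocks₁₁ᵀ * (g : M4).toBlocks₂₁ =
      (g : M4).toBlocks₂₁ᵀ * (g : M4).toBlocks₁₁ ∧
    ∀ x, (g : M4).toBlocks₁₁ *ᵥ x = 0 → (g : M4).toBlocks₂₁ *ᵥ x = 0 → x = 0 := by
  have hg : fromBlocks (g : M4).toBlocks₁₁ (g : M4).toBlocks₁₂ (g : M4).toBlocks₂₁
      (g : M4).toBlocks₂₂ ∈ Matrix.symplecticGroup (Fin (k + 2)) F := by
    rw [fromBlocks_toBlocks]; exact g.2
  refine ⟨(SymplecticGroup.fromBlocks_mem_iff.1 hg).1, fun x hA hC => ?_⟩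
  have h0 : (g : M4) *ᵥ Sum.elim x 0 = 0 := by
    conv_lhs => arg 1; rw [← fromBlocks_toBlocks (g : M4)]
    rw [fromBlocks_mulVec]
    funext i
    cases i <;> simp [hA, hC]
  have h1 := congrArg (fun y => ((g⁻¹ : Sp) : M4) *ᵥ y) h0
  simp only [Matrix.mulVec_mulVec, ← Submonoid.coe_mul, inv_mul_cancel, OneMemClass.coe_one, Matrix.one_mulVec,
    Matrix.mulVec_zero] at h1
  funext i
  simpa using congrFun h1 (Sum.inl i)

/-- A noncentral element has a conjugate with nonzero lower left block. -/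
theorem exists_conj_lower (g : Sp) (hg : g ∉ Subgroup.center Sp) :
    ∃ h : Sp, ((h * g * h⁻¹ : Sp) : M4).toBlocks₂₁ ≠ 0 := by
  by_contra hne
  push Not at hne
  apply hg
  obtain ⟨A, B, C, D, hgb⟩ : ∃ A B C D, (g : M4) = fromBlocks A B C D :=
    ⟨_, _, _, _, (fromBlocks_toBlocks _).symm⟩
  have hC : C = 0 := by
    have := hne 1
    simpa [hgb] using this
  have hB : B = 0 := by
    have := hne (SymplecticGroup.symJ _ _)
    rw [Submonoid.coe_mul, Submonoid.coe_mul, SymplecticGroup.coe_inv, SymplecticGroup.coe_J, hgb,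
      Matrix.J, Matrix.fromBlocks_transpose, Matrix.fromBlocks_neg, fromBlocks_multiply, fromBlocks_multiply,
      fromBlocks_multiply, fromBlocks_multiply] at this
    simpa using this
  have hS : ∀ S : M, S.IsSymm → S * A = D * S := fun S hS => by
    have := hne (uu S hS)
    rw [inv_eq_of_mul_eq_one_right (a := uu S hS) (b := uu (-S) hS.neg)
      (by rw [uu_mul, ← uu_zero]; congr 1; simp)] at this
    rw [Submonoid.coe_mul, Submonoid.coe_mul, coe_uu, coe_uu, hgb, fromBlocks_multiply, fromBlocks_multiply] at this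
    simpa [hB, hC, sub_eq_zero, ← sub_eq_add_neg] using this
  have hAD : A = D := by simpa using hS 1 Matrix.isSymm_one
  subst hAD
  have hdiag : ∀ i j, i ≠ j → A i j = 0 := fun i j hij => by
    have := congrFun (congrFun (hS (Matrix.single i i 1) (by simp [Matrix.IsSymm])) i) j
    simpa [Matrix.single_mul_apply_same, Matrix.mul_single_apply_of_ne, hij.symm] using this
  have heq : ∀ i j, A i i = A j j := fun i j => by
    rcases eq_or_ne i j with rfl | hij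
    · rfl
    have := congrFun (congrFun (hS (Matrix.single i j 1 + Matrix.single j i 1)
      (by simp [Matrix.IsSymm, add_comm])) i) j
    simp [Matrix.add_mul, Matrix.mul_add, Matrix.single_mul_apply_same, Matrix.mul_single_apply_same,
      Matrix.mul_single_apply_of_ne, Matrix.single_mul_apply_of_ne, hij, hij.symm] at this
    exact this.symm
  have hA : A = A 0 0 • (1 : M) := by
    ext i j
    rcases eq_or_ne i j with rfl | hij
    · simp [heq i 0]
    · simp [hdiag i j hij, hij]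
  refine Subgroup.mem_center_iff.2 fun x => Subtype.ext ?_
  have hgs : (g : M4) = A 0 0 • (1 : M4) := by
    rw [hgb, hB, hC, ← fromBlocks_one, fromBlocks_smul, ← hA]
    simp
  rw [Submonoid.coe_mul, Submonoid.coe_mul, hgs]
  simp

/-- The decomposition with a chosen Levi part. -/
theorem exists_decomp (g : Sp) (hg : g ∉ Subgroup.center Sp) {δ : F} (hδ : δ ≠ 0) {c : F} (hc : c ≠ 0)
    (hc2 : c * c ≠ 1) :
    ∃ (h : Sp) (v u : Sp) (A : GLm), v ∈ Vm ∧ u ∈ Vp ∧ h * g * h⁻¹ = v * dd A * u ∧ (A : M).det = δ ∧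
      ∀ a : F, (A : M) ≠ a • 1 := by
  obtain ⟨h0, hh0⟩ := exists_conj_lower g hg
  set g0 := h0 * g * h0⁻¹ with hg0
  obtain ⟨hsym, hinj⟩ := blocks_facts g0
  obtain ⟨S, hS, hSd, hSn⟩ := exists_shift _ _ hsym hinj hh0 (by omega) hδ hc hc2
  set g1 := vv S hS * g0 * (vv S hS)⁻¹
  obtain ⟨A, B, C, D, hgb⟩ : ∃ A B C D, (g1 : M4) = fromBlocks A B C D :=
    ⟨_, _, _, _, (fromBlocks_toBlocks _).symm⟩
  have hA : A = (g0 : M4).toBlocks₁₁ + S * (g0 : M4).toBlocks₂₁ := by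
    have h1 : (g1 : M4).toBlocks₁₁ = A := by rw [hgb, toBlocks_fromBlocks₁₁]
    rw [← h1, show g1 = vv S hS * g0 * vv (-S) hS.neg by
      show _ * _ * _ = _
      rw [inv_eq_of_mul_eq_one_right (a := vv S hS) (b := vv (-S) hS.neg)
        (by rw [vv_mul, ← vv_zero]; congr 1; simp)]]
    rw [Submonoid.coe_mul, Submonoid.coe_mul, coe_vv, coe_vv]
    conv_lhs => rw [← fromBlocks_toBlocks (g0 : M4)]
    rw [fromBlocks_multiply, fromBlocks_multiply, toBlocks_fromBlocks₁₁]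
    simp
  have hAd : A.det = δ := hA ▸ hSd
  let P : GLm := Matrix.GeneralLinearGroup.mkOfDetNeZero A (hAd ▸ hδ)
  have hmem : fromBlocks A B C D ∈ Matrix.symplecticGroup (Fin (k + 2)) F := hgb ▸ g1.2
  obtain ⟨e1, -, e3⟩ := SymplecticGroup.fromBlocks_mem_iff.1 hmem
  have hmemT : fromBlocks Aᵀ Cᵀ Bᵀ Dᵀ ∈ Matrix.symplecticGroup (Fin (k + 2)) F := by
    rw [← Matrix.fromBlocks_transpose]; exact SymplecticGroup.transpose_mem hmem
  obtain ⟨e4, -, -⟩ := SymplecticGroup.fromBlocks_mem_iff.1 hmemT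
  rw [Matrix.transpose_transpose, Matrix.transpose_transpose] at e4
  set Pi : M := ((P⁻¹ : GLm) : M)
  have hPA : Pi * A = 1 := Units.inv_mul P
  have hAP : A * Pi = 1 := Units.mul_inv P
  have hPtA : Piᵀ * Aᵀ = 1 := by rw [← Matrix.transpose_mul, hAP, Matrix.transpose_one]
  have hAtP : Aᵀ * Piᵀ = 1 := by rw [← Matrix.transpose_mul, hPA, Matrix.transpose_one]
  have hT1 : (C * Pi).IsSymm := by
    rw [Matrix.IsSymm, Matrix.transpose_mul]
    calc Piᵀ * Cᵀ = Piᵀ * (Cᵀ * A) * Pi := by rw [Matrix.mul_assoc, Matrix.mul_assoc, hAP, Matrix.mul_one]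
      _ = C * Pi := by rw [← e1, ← Matrix.mul_assoc Piᵀ, hPtA, Matrix.one_mul]
  have hT2 : (Pi * B).IsSymm := by
    rw [Matrix.IsSymm, Matrix.transpose_mul]
    calc Bᵀ * Piᵀ = Pi * (A * Bᵀ) * Piᵀ := by rw [← Matrix.mul_assoc Pi A, hPA, Matrix.one_mul]
      _ = Pi * B := by rw [e4, Matrix.mul_assoc, Matrix.mul_assoc, hAtP, Matrix.mul_one]
  refine ⟨vv S hS * h0, uu _ hT1, vv _ hT2, P, ⟨_, _, rfl⟩, ⟨_, _, rfl⟩, ?_, hAd, fun a ha => ?_⟩
  · have hD : C * Pi * B + Piᵀ = D := by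
      have hCB : C * Pi = Piᵀ * Cᵀ := by
        have := hT1.eq
        rwa [Matrix.transpose_mul, eq_comm] at this
      calc C * Pi * B + Piᵀ = Piᵀ * (Cᵀ * B) + Piᵀ * 1 := by rw [hCB, Matrix.mul_one, Matrix.mul_assoc]
        _ = Piᵀ * (Aᵀ * D) := by
          rw [← Matrix.mul_add, ← e3]
          congr 1
          abel
        _ = D := by rw [← Matrix.mul_assoc, hPtA, Matrix.one_mul]
    rw [show vv S hS * h0 * g * (vv S hS * h0)⁻¹ = g1 by simp only [g1, hg0]; group]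
    apply Subtype.ext
    rw [hgb, Submonoid.coe_mul, Submonoid.coe_mul, coe_uu, coe_vv, coe_dd, fromBlocks_multiply, fromBlocks_multiply]
    show fromBlocks A B C D = _
    simp only [Matrix.one_mul, Matrix.mul_one, Matrix.zero_mul, Matrix.mul_zero, add_zero, zero_add]
    rw [show (P : M) = A from rfl, ← Matrix.mul_assoc A, hAP, Matrix.one_mul, Matrix.mul_assoc C Pi A, hPA,
      Matrix.mul_one, ← Matrix.mul_assoc C Pi B, show ((P⁻¹ : GLm) : M) = Pi from rfl, hD]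
  · exact hSn a (hA ▸ ha)

variable [Fintype F]

theorem exists_pow_ne (hq : 8 ≤ Fintype.card F) : ∃ c : F, c ≠ 0 ∧ ∀ i, 1 ≤ i → i ≤ 6 → c ^ i ≠ 1 := by
  classical
  obtain ⟨g, hg⟩ := IsCyclic.exists_generator (α := Fˣ)
  refine ⟨g, g.ne_zero, fun i h1 h6 h => ?_⟩
  have hord : orderOf g = Fintype.card Fˣ := orderOf_eq_card_of_forall_mem_zpowers hg |>.trans Nat.card_eq_fintype_card
  have := orderOf_dvd_of_pow_eq_one (show g ^ i = 1 from Units.ext (by simpa using h))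
  rw [hord, Fintype.card_units] at this
  have := Nat.le_of_dvd (by omega) this
  omega

theorem psp_square (hq : 8 ≤ Fintype.card F) (m : ℕ) (hm : 2 ≤ m) :
    ∃ c : Cfsg.PSp m F, ∀ g : Cfsg.PSp m F, ∃ x y, g = (x * c * x⁻¹) * (y * c * y⁻¹) := by
  obtain ⟨k, rfl⟩ : ∃ k, m = k + 2 := ⟨m - 2, by omega⟩
  classical
  haveI : Finite (Matrix.symplecticGroup (Fin (k + 2)) F) := Subtype.finite
  obtain ⟨c, hc, hcp⟩ := exists_pow_ne hq
  have hq4 : 4 ≤ Fintype.card F := by omega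
  have hc2 : c * c ≠ 1 := by simpa [sq] using hcp 2 (by omega) (by omega)
  set lam := c ^ 2 with hlam
  have hl : lam ≠ 0 := pow_ne_zero _ hc
  obtain ⟨D₀, hD₀, -⟩ := exists_mReg hq4 hc hc2 k
  let D : Matrix.GeneralLinearGroup (Fin (k + 2)) F :=
    Matrix.GeneralLinearGroup.mkOfDetNeZero D₀ (hD₀.det_ne_zero hc)
  let X : Matrix.GeneralLinearGroup (Fin (k + 2)) F :=
    Matrix.GeneralLinearGroup.mkOfDetNeZero (lam • D₀) (by
      rw [Matrix.det_smul, hD₀.det_eq_one hc, mul_one]; exact pow_ne_zero _ hl)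
  have hcond : ∀ i, 1 ≤ i → i ≤ 6 → c ^ i ≠ 1 := hcp
  have h1 : lam * lam ≠ 1 := by rw [hlam, ← pow_add]; exact hcond 4 (by omega) (by omega)
  have h2 : lam * lam ≠ c := fun h => hcond 3 (by omega) (by omega)
    (mul_right_cancel₀ hc (by rw [hlam] at h; linear_combination h))
  have h3 : lam * lam ≠ c⁻¹ := fun h => hcond 5 (by omega) (by omega) (by
    rw [show c ^ 5 = lam * lam * c by rw [hlam]; ring, h, inv_mul_cancel₀ hc])
  have h4 : lam * lam ≠ c ^ 2 := fun h => hc2 (mul_right_cancel₀ (pow_ne_zero 2 hc) (by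
    rw [hlam] at h; linear_combination h))
  have h5 : lam * lam ≠ (c ^ 2)⁻¹ := fun h => hcond 6 (by omega) (by omega) (by
    rw [show c ^ 6 = lam * lam * c ^ 2 by rw [hlam]; ring, h, inv_mul_cancel₀ (pow_ne_zero _ hc)])
  obtain ⟨hfm, hfp⟩ := fixFree hc hl h1 h2 h3 h4 h5 D X hD₀ rfl
  have toLevi : ∀ E : Matrix (Fin (k + 2)) (Fin (k + 2)) F, MReg c k E →
      ∀ Q : Matrix.GeneralLinearGroup (Fin (k + 2)) F, (Q : Matrix (Fin (k + 2)) (Fin (k + 2)) F) = lam • E →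
      ∃ P, Q = P * X * P⁻¹ := by
    intro E hE Q hQ
    obtain ⟨P, hP, hPE⟩ := hD₀.similar hE hc hc2
    refine ⟨Matrix.GeneralLinearGroup.mkOfDetNeZero P hP, eq_mul_inv_iff_mul_eq.2 (Units.ext ?_)⟩
    show (Q : Matrix (Fin (k + 2)) (Fin (k + 2)) F) * P = P * (lam • D₀)
    rw [hQ, Matrix.smul_mul, Matrix.mul_smul, hPE]
  have hreal : ∃ w, (dd X)⁻¹ = w * dd X * w⁻¹ := by
    obtain ⟨T, hT⟩ := SimTranspose.isConj_transpose (X : Matrix (Fin (k + 2)) (Fin (k + 2)) F)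
    have hT' : (T : Matrix (Fin (k + 2)) (Fin (k + 2)) F) * X = (X : Matrix (Fin (k + 2)) (Fin (k + 2)) F)ᵀ * T := hT
    let XT : Matrix.GeneralLinearGroup (Fin (k + 2)) F :=
      ⟨(X : Matrix (Fin (k + 2)) (Fin (k + 2)) F)ᵀ, ((X⁻¹ : Matrix.GeneralLinearGroup (Fin (k + 2)) F) : Matrix (Fin (k + 2)) (Fin (k + 2)) F)ᵀ,
        by rw [← Matrix.transpose_mul, Units.inv_mul, Matrix.transpose_one],
        by rw [← Matrix.transpose_mul, Units.mul_inv, Matrix.transpose_one]⟩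
    have e1 : XT = T * X * T⁻¹ := eq_mul_inv_iff_mul_eq.2 (Units.ext hT'.symm)
    have e2 : (dd X)⁻¹ = SymplecticGroup.symJ _ _ * dd XT * (SymplecticGroup.symJ _ _)⁻¹ := by
      rw [eq_mul_inv_iff_mul_eq]
      apply Subtype.ext
      rw [← map_inv, Submonoid.coe_mul, Submonoid.coe_mul, coe_dd, coe_dd, SymplecticGroup.coe_J,
        Matrix.J, fromBlocks_multiply, fromBlocks_multiply]
      simp [XT]
    exact ⟨SymplecticGroup.symJ _ _ * dd T, by rw [e2, e1, map_mul, map_mul, map_inv]; group⟩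
  refine square_of_surjective (QuotientGroup.mk' _) (QuotientGroup.mk'_surjective _) (dd X) hreal
    (fun g => g ∉ Subgroup.center _) (fun g hg => (QuotientGroup.eq_one_iff g).2 (not_not.1 hg)) fun g hg => ?_
  have hn : Fintype.card (Fin (k + 2)) = k + 2 := Fintype.card_fin _
  obtain ⟨h, v, u, A, hv, hu, hdec, hAd, hAn⟩ :=
    exists_decomp g hg (δ := (lam * lam) ^ (k + 2)) (pow_ne_zero _ (mul_ne_zero hl hl)) hc hc2
  set L1 := (lam * lam)⁻¹ • (A : Matrix (Fin (k + 2)) (Fin (k + 2)) F) with hL1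
  have hL1d : L1.det = 1 := by
    rw [hL1, Matrix.det_smul, hn, hAd, ← mul_pow, inv_mul_cancel₀ (mul_ne_zero hl hl), one_pow]
  obtain ⟨y, hy, hLy, -⟩ := exists_cover hq4 hc hc2 L1 hL1d fun a ha => hAn (lam * lam * a) (by
    rw [← smul_smul (lam * lam) a, ← ha, hL1, smul_smul, mul_inv_cancel₀ (mul_ne_zero hl hl), one_smul])
  let Q1 : Matrix.GeneralLinearGroup (Fin (k + 2)) F :=
    Matrix.GeneralLinearGroup.mkOfDetNeZero (lam • (L1 * y)) (by
      rw [Matrix.det_smul, hLy.det_eq_one hc, mul_one]; exact pow_ne_zero _ hl)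
  let Q2 : Matrix.GeneralLinearGroup (Fin (k + 2)) F :=
    Matrix.GeneralLinearGroup.mkOfDetNeZero (lam • y⁻¹) (by
      rw [Matrix.det_smul, (hy.inv hc).det_eq_one hc, mul_one]; exact pow_ne_zero _ hl)
  obtain ⟨P1, hP1⟩ := toLevi _ hLy Q1 rfl
  obtain ⟨P2, hP2⟩ := toLevi _ (hy.inv hc) Q2 rfl
  have hA12 : A = P1 * X * P1⁻¹ * (P2 * X * P2⁻¹) := by
    rw [← hP1, ← hP2]
    apply Units.ext
    show (A : Matrix (Fin (k + 2)) (Fin (k + 2)) F) = lam • (L1 * y) * (lam • y⁻¹)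
    rw [Matrix.smul_mul, Matrix.mul_smul, smul_smul, Matrix.mul_assoc, Matrix.mul_nonsing_inv _
      (hy.det_ne_zero hc).isUnit, Matrix.mul_one, hL1, smul_smul, mul_inv_cancel₀ (mul_ne_zero hl hl), one_smul]
  obtain ⟨p, q, hpq⟩ := mem_product hfm hfp hv hu (dd_norm P1).1 (dd_norm P2).2 (l := dd A)
    (by rw [hA12]; simp only [map_mul, map_inv])
  refine ⟨h⁻¹ * p, h⁻¹ * q, ?_⟩
  calc g = h⁻¹ * (h * g * h⁻¹) * h := by group
    _ = _ := by rw [hdec, hpq]; group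

end Cfsg.Agent.Thompson.Symp
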