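import Cfsg.Agent.Lib.Thompson.OrthDecomp
import Cfsg.Agent.Lib.Thompson.Symplectic

/-!
Every nonscalar element of `Omega` of `x ⬝ y + z ⬝ z` (`|Z| ≤ 1`, and `m` even if `Z` is empty) is a product of two
conjugates of one real element, which fixes no nonzero vector of the hyperbolic part, over fields with at least eight
elements.
-/

set_option autoImplicit false

open Matrix
open Cfsg.Agent

noncomputable section

namespace Cfsg.Agent.Thompson.Orth

universe u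

variable {F : Type u} [Field F] {k : ℕ} {Z : Type} [Fintype Z] [DecidableEq Z]

local notation "κ" => (Fin (k + 2) ⊕ Fin (k + 2)) ⊕ Z
local notation "M" => Matrix (Fin (k + 2)) (Fin (k + 2)) F
local notation "GLm" => Matrix.GeneralLinearGroup (Fin (k + 2)) F
local notation "MZ" => Matrix Z (Fin (k + 2)) F
set_option quotPrecheck false in
local notation "OG" => ↥(isometryGroup F ⇑(Q0 F (k + 2) Z))
set_option quotPrecheck false in
local notation "ΩG" => Omega F ⇑(Q0 F (k + 2) Z)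

theorem _root_.Cfsg.Agent.Thompson.FixFree.subgroupOf {G : Type*} [Group G] {V : Subgroup G} {x : G}
    (h : FixFree V x) {H : Subgroup G} (hx : x ∈ H) : FixFree (V.subgroupOf H) (⟨x, hx⟩ : H) where
  norm_mem v hv := h.norm_mem _ hv
  eq_one v hv hc := Subtype.ext (h.eq_one _ hv (congrArg Subtype.val hc))

theorem tinv_mul {m : ℕ} (A B : Matrix.GeneralLinearGroup (Fin m) F) : tinv (A * B) = tinv A * tinv B :=
  Units.ext (by simp [coe_tinv, _root_.mul_inv_rev, Matrix.transpose_mul])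

theorem tinv_tinv {m : ℕ} (A : Matrix.GeneralLinearGroup (Fin m) F) : tinv (tinv A) = A :=
  Units.ext (by rw [coe_tinv, coe_tinv_inv, Matrix.transpose_transpose])

/-- The inverse transpose as a homomorphism. -/
def tinvHom {m : ℕ} : Matrix.GeneralLinearGroup (Fin m) F →* Matrix.GeneralLinearGroup (Fin m) F :=
  MonoidHom.mk' tinv tinv_mul

theorem tinvHom_apply {m : ℕ} (A : Matrix.GeneralLinearGroup (Fin m) F) : tinvHom A = tinv A := rfl

open Cfsg.Agent.Commutator in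
theorem no_fixed {c lam : F} (hl : lam ≠ 0) (h1 : lam⁻¹ ≠ 1) (h2 : lam⁻¹ ≠ c) (h3 : lam⁻¹ ≠ c⁻¹) {E : M}
    (hE : E.charpoly = (Polynomial.X - Polynomial.C 1) ^ k * Regular.pairPoly c) (v : Fin (k + 2) → F)
    (hv : (lam • E) *ᵥ v = v) : v = 0 := by
  by_contra hne
  have hd : (Matrix.scalar (Fin (k + 2)) lam⁻¹ - E).det = 0 := by
    refine Matrix.exists_mulVec_eq_zero_iff.1 ⟨v, hne, ?_⟩
    rw [Matrix.sub_mulVec, Matrix.scalar_apply, ← Matrix.smul_one_eq_diagonal, Matrix.smul_mulVec,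
      Matrix.one_mulVec]
    conv_lhs => arg 1; rw [← hv, Matrix.smul_mulVec, inv_smul_smul₀ hl]
    exact sub_self _
  rw [← Matrix.eval_charpoly, hE] at hd
  simp [Regular.pairPoly, sub_eq_zero, h1, h2, h3] at hd

open Cfsg.Agent.Commutator in
theorem fixFree_scaled {c lam : F} (hc : c ≠ 0) (hl : lam ≠ 0) (e1 : lam⁻¹ ≠ 1) (e2 : lam⁻¹ ≠ c)
    (e3 : lam⁻¹ ≠ c⁻¹) (h1 : lam * lam ≠ 1) (h2 : lam * lam ≠ c) (h3 : lam * lam ≠ c⁻¹)
    (h4 : lam * lam ≠ c ^ 2) (h5 : lam * lam ≠ (c ^ 2)⁻¹) (X : GLm) (E : M) (hX : (X : M) = lam • E)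
    (hE : E.charpoly = (Polynomial.X - Polynomial.C 1) ^ k * Regular.pairPoly c)
    (hEi : E⁻¹.charpoly = (Polynomial.X - Polynomial.C 1) ^ k * Regular.pairPoly c) :
    FixFree (Vp : Subgroup OG) (dd X) := by
  refine fixFree_Vp X (fun p hp => ?_) fun S hS => ?_
  · refine Matrix.ext fun z j => ?_
    refine congrFun (no_fixed hl e1 e2 e3 hE (fun i => p z i) ?_) j
    funext i
    have h := congrFun (congrFun hp z) i
    rw [← hX]
    simpa [Matrix.mulVec, Matrix.mul_apply, dotProduct, mul_comm] using h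
  · have hEu : IsUnit E.det := by
      have hXu : IsUnit (X : M).det := (Matrix.isUnit_iff_isUnit_det _).1 X.isUnit
      rw [hX, Matrix.det_smul] at hXu
      exact isUnit_of_mul_isUnit_right hXu
    rw [hX, Matrix.transpose_smul, Matrix.mul_smul, Matrix.smul_mul, Matrix.smul_mul, smul_smul] at hS
    refine eq_zero_of_intertwine hc E (E⁻¹)ᵀ S hE (by rw [Matrix.charpoly_transpose, hEi])
      (mul_ne_zero hl hl) h1 h2 h3 h4 h5 ?_
    calc ((lam * lam) • E) * S = ((lam * lam) • (E * S * Eᵀ)) * (E⁻¹)ᵀ := by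
          rw [Matrix.smul_mul, Matrix.smul_mul, Matrix.mul_assoc (E * S), ← Matrix.transpose_mul,
            Matrix.nonsing_inv_mul _ hEu, Matrix.transpose_one, Matrix.mul_one]
      _ = S * (E⁻¹)ᵀ := by rw [hS]

variable [Subsingleton Z] [Fintype F]

/-- The base case. -/
theorem base_square (hq : 8 ≤ Fintype.card F) (h2 : Nonempty Z → (2 : F) ≠ 0) (hm : 3 ≤ k + 2)
    (hpar : IsEmpty Z → Even (k + 2)) :
    ∃ x : OG, x ∈ ΩG ∧ (∃ w : OG, w ∈ ΩG ∧ x⁻¹ = w * x * w⁻¹) ∧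
      (∀ v : κ → F, mat x *ᵥ v = v → ∀ i, v (Sum.inl i) = 0) ∧
      ∀ g : OG, g ∈ ΩG → (∀ a : F, mat g ≠ a • 1) →
        ∃ p : OG, p ∈ ΩG ∧ ∃ q : OG, q ∈ ΩG ∧ g = p * x * p⁻¹ * (q * x * q⁻¹) := by
  classical
  obtain ⟨c, hc, hcp⟩ := Symp.exists_pow_ne hq
  have hq4 : 4 ≤ Fintype.card F := by omega
  have hc2 : c * c ≠ 1 := by simpa [sq] using hcp 2 (by omega) (by omega)
  set lam := c ^ 2 with hlam
  have hl : lam ≠ 0 := pow_ne_zero _ hc
  obtain ⟨D₀, hD₀, -⟩ := exists_mReg hq4 hc hc2 k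
  have hDu : IsUnit D₀.det := (hD₀.det_ne_zero hc).isUnit
  let X : GLm := Matrix.GeneralLinearGroup.mkOfDetNeZero (lam • D₀) (by
    rw [Matrix.det_smul, hD₀.det_eq_one hc, mul_one]; exact pow_ne_zero _ hl)
  have h1 : lam * lam ≠ 1 := by rw [hlam, ← pow_add]; exact hcp 4 (by omega) (by omega)
  have h2' : lam * lam ≠ c := fun h => hcp 3 (by omega) (by omega)
    (mul_right_cancel₀ hc (by rw [hlam] at h; linear_combination h))
  have h3 : lam * lam ≠ c⁻¹ := fun h => hcp 5 (by omega) (by omega) (by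
    rw [show c ^ 5 = lam * lam * c by rw [hlam]; ring, h, inv_mul_cancel₀ hc])
  have h4 : lam * lam ≠ c ^ 2 := fun h => hc2 (mul_right_cancel₀ (pow_ne_zero 2 hc) (by
    rw [hlam] at h; linear_combination h))
  have h5 : lam * lam ≠ (c ^ 2)⁻¹ := fun h => hcp 6 (by omega) (by omega) (by
    rw [show c ^ 6 = lam * lam * c ^ 2 by rw [hlam]; ring, h, inv_mul_cancel₀ (pow_ne_zero _ hc)])
  have l1 : lam ≠ 1 := by rw [hlam]; exact hcp 2 (by omega) (by omega)
  have l2 : lam ≠ c := fun h => hcp 1 (by omega) (by omega)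
    (mul_right_cancel₀ hc (by rw [hlam] at h; linear_combination h))
  have l3 : lam ≠ c⁻¹ := fun h => hcp 3 (by omega) (by omega) (by
    rw [show c ^ 3 = lam * c by rw [hlam]; ring, h, inv_mul_cancel₀ hc])
  have e1 : lam⁻¹ ≠ 1 := fun h => l1 (inv_eq_one.1 h)
  have e2 : lam⁻¹ ≠ c := fun h => l3 (by rw [← h, inv_inv])
  have e3 : lam⁻¹ ≠ c⁻¹ := fun h => l2 (inv_injective h)
  have hcD : D₀⁻¹.charpoly = _ := (hD₀.inv hc).charpoly_eq
  have hXp : FixFree (Vp : Subgroup OG) (dd X) :=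
    fixFree_scaled hc hl e1 e2 e3 h1 h2' h3 h4 h5 X D₀ rfl hD₀.charpoly_eq hcD
  have hXi : ((tinv X : GLm) : M) = lam⁻¹ • (D₀⁻¹)ᵀ := by
    rw [coe_tinv, show ((X⁻¹ : GLm) : M) = lam⁻¹ • D₀⁻¹ from Units.inv_eq_of_mul_eq_one_right (by
      show (lam • D₀) * _ = 1
      rw [Matrix.smul_mul, Matrix.mul_smul, Matrix.mul_nonsing_inv _ hDu, smul_smul, mul_inv_cancel₀ hl, one_smul]),
      Matrix.transpose_smul]
  have hTc : (D₀⁻¹)ᵀ.charpoly = _ := (Matrix.charpoly_transpose _).trans hcD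
  have hXm : FixFree (Vm : Subgroup OG) (dd X) := by
    refine fixFree_Vm X (fixFree_scaled hc (inv_ne_zero hl) (by rwa [inv_inv]) (by rwa [inv_inv]) (by rwa [inv_inv])
      ?_ ?_ ?_ ?_ ?_ (tinv X) (D₀⁻¹)ᵀ hXi hTc ?_)
    · rwa [← mul_inv, ne_eq, inv_eq_one]
    · exact fun h => h3 (by rw [← h, ← mul_inv, inv_inv])
    · exact fun h => h2' (inv_injective (by rw [← h, mul_inv]))
    · exact fun h => h5 (by rw [← h, ← mul_inv, inv_inv])
    · exact fun h => h4 (inv_injective (by rw [← h, mul_inv]))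
    · rw [← Matrix.transpose_nonsing_inv, Matrix.charpoly_transpose, Matrix.nonsing_inv_nonsing_inv _ hDu,
        hD₀.charpoly_eq]
  have hdX : (X : M).det = lam ^ (k + 2) := by
    show (lam • D₀).det = _
    rw [Matrix.det_smul, hD₀.det_eq_one hc, mul_one, Fintype.card_fin]
  have hxΩ : (dd X : OG) ∈ ΩG := (dd_mem_omega_iff hq4 h2 (by omega) X).2
    ⟨c ^ (k + 2), by rw [hdX, hlam, ← mul_pow, sq]⟩
  have ddΩ : ∀ P : GLm, (P : M).det = 1 → (dd P : OG) ∈ ΩG := fun P hP =>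
    (dd_mem_omega_iff hq4 h2 (by omega) P).2 ⟨1, by rw [hP, mul_one]⟩
  have toLevi : ∀ E : M, MReg c k E → ∀ Q : GLm, (Q : M) = lam • E →
      ∃ P : GLm, (P : M).det = 1 ∧ Q = P * X * P⁻¹ := by
    intro E hE Q hQ
    obtain ⟨P, hP, hPE⟩ := hD₀.similar_det hq4 hc hc2 hE one_ne_zero
    refine ⟨Matrix.GeneralLinearGroup.mkOfDetNeZero P (by rw [hP]; exact one_ne_zero), hP,
      eq_mul_inv_iff_mul_eq.2 (Units.ext ?_)⟩
    show (Q : M) * P = P * (lam • D₀)
    rw [hQ, Matrix.smul_mul, Matrix.mul_smul, hPE]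
  refine ⟨dd X, hxΩ, ?_, fun v hv i => ?_, fun g hg hns => ?_⟩
  · obtain ⟨S, T, w, hST, K, hK, hKm⟩ := exists_flip (F := F) (m := k + 2) (Z := Z) hq4 (by omega) hpar
    have hS'T : Sᵀ * T = 1 := by
      refine mul_eq_one_comm.1 ?_
      rw [← Matrix.transpose_one, ← hST, Matrix.transpose_mul, Matrix.transpose_transpose]
    let uS : GLm := ⟨S, Tᵀ, hST, mul_eq_one_comm.1 hST⟩
    have hKd : ∀ A : GLm, K * dd A * K⁻¹ = (dd (uS * tinv A * uS⁻¹) : OG) := fun A => by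
      rw [mul_inv_eq_iff_eq_mul]
      refine mat_inj ?_
      rw [mat_mul, mat_mul, hKm, mat_dd, mat_dd, blk_mul, blk_mul]
      have ea : ((uS * tinv A * uS⁻¹ : GLm) : M) * S = S * ((A⁻¹ : GLm) : M)ᵀ := by
        show ((uS * tinv A * uS⁻¹ * uS : GLm) : M) = ((uS * tinv A : GLm) : M)
        rw [inv_mul_cancel_right]
      have eb : (((uS * tinv A * uS⁻¹)⁻¹ : GLm) : M)ᵀ * T = T * (A : M) := by
        have e : (((uS * tinv A * uS⁻¹)⁻¹ : GLm) : M) = S * ((A : M)ᵀ * Tᵀ) := by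
          rw [_root_.mul_inv_rev, _root_.mul_inv_rev, inv_inv]
          rfl
        rw [e, Matrix.transpose_mul, Matrix.transpose_mul, Matrix.transpose_transpose, Matrix.transpose_transpose,
          Matrix.mul_assoc, hS'T, Matrix.mul_one]
      congr 1 <;> simp only [Matrix.zero_mul, Matrix.mul_zero, add_zero, zero_add, ea, eb, Matrix.one_mul,
        Matrix.mul_one]
    obtain ⟨T₀, hT₀⟩ := SimTranspose.isConj_transpose (X : M)
    let XT : GLm := tinv X⁻¹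
    have hXT : XT = T₀ * X * T₀⁻¹ := eq_mul_inv_iff_mul_eq.2 (Units.ext (by
      rw [Units.val_mul, Units.val_mul, coe_tinv, inv_inv]
      exact hT₀.symm))
    obtain ⟨Z₁, hZ₁, hZX⟩ := hD₀.exists_commute_det hq4 hc hc2
      (d := (((tinv uS)⁻¹ * T₀ : GLm) : M).det⁻¹)
      (inv_ne_zero ((Matrix.isUnit_iff_isUnit_det _).1 ((tinv uS)⁻¹ * T₀).isUnit).ne_zero)
    let Z₂ : GLm := Matrix.GeneralLinearGroup.mkOfDetNeZero Z₁ (by
      rw [hZ₁]; exact inv_ne_zero ((Matrix.isUnit_iff_isUnit_det _).1 ((tinv uS)⁻¹ * T₀).isUnit).ne_zero)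
    have hZc : Z₂ * X = X * Z₂ := Units.ext (by
      show Z₁ * (lam • D₀) = (lam • D₀) * Z₁
      rw [Matrix.mul_smul, hZX, Matrix.smul_mul])
    set T' : GLm := (tinv uS)⁻¹ * T₀ * Z₂
    have hT' : (T' : M).det = 1 := by
      rw [Units.val_mul, Matrix.det_mul, show (Z₂ : M) = Z₁ from rfl, hZ₁]
      exact mul_inv_cancel₀ ((Matrix.isUnit_iff_isUnit_det _).1 ((tinv uS)⁻¹ * T₀).isUnit).ne_zero
    refine ⟨K * dd T', mul_mem hK (ddΩ T' hT'), ?_⟩
    rw [show K * dd T' * dd X * (K * dd T' : OG)⁻¹ = K * (dd T' * dd X * (dd T')⁻¹) * K⁻¹ by group, ← map_inv,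
      ← map_inv, ← map_mul, ← map_mul, hKd]
    congr 1
    rw [show T' * X * T'⁻¹ = (tinv uS)⁻¹ * XT * tinv uS by
      rw [hXT, _root_.mul_inv_rev, _root_.mul_inv_rev, inv_inv]
      simp only [T', mul_assoc]
      rw [← mul_assoc Z₂ X, hZc]
      group]
    rw [← tinvHom_apply ((tinv uS)⁻¹ * XT * tinv uS), map_mul, map_mul, map_inv, tinvHom_apply, tinvHom_apply,
      tinv_tinv, show tinv XT = X⁻¹ from tinv_tinv _]
    group
  · rw [← vec_eta v, mat_dd, blk_mulVec] at hv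
    simp only [Matrix.zero_mulVec, add_zero, zero_add] at hv
    have hx := no_fixed hl e1 e2 e3 hD₀.charpoly_eq (fun i => v (.inl (.inl i)))
      (funext fun j => congrFun hv (.inl (.inl j)))
    have hy := no_fixed (inv_ne_zero hl) (by rwa [inv_inv]) (by rwa [inv_inv]) (by rwa [inv_inv]) hTc
      (fun i => v (.inl (.inr i))) (by rw [← hXi]; exact funext fun j => congrFun hv (.inl (.inr j)))
    rcases i with i | i
    · exact congrFun hx i
    · exact congrFun hy i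
  · obtain ⟨h, hh, v, hv, u, hu, hvΩ, huΩ, A, hdec, hAd, hAn⟩ :=
      exists_decomp hq4 h2 hm hpar g hg hns (η := lam ^ (k + 2)) (pow_ne_zero _ hl)
    set L1 := (lam * lam)⁻¹ • (A : M) with hL1
    have hll : lam * lam ≠ 0 := mul_ne_zero hl hl
    have hL1d : L1.det = 1 := by
      rw [hL1, Matrix.det_smul, Fintype.card_fin, hAd, ← mul_pow lam lam, ← mul_pow ((lam * lam)⁻¹), inv_mul_cancel₀ hll, one_pow]
    obtain ⟨y, hy, hLy, -⟩ := exists_cover hq4 hc hc2 L1 hL1d fun a ha => hAn (lam * lam * a) (by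
      rw [← smul_smul (lam * lam) a, ← ha, hL1, smul_smul, mul_inv_cancel₀ hll, one_smul])
    let Q1 : GLm := Matrix.GeneralLinearGroup.mkOfDetNeZero (lam • (L1 * y)) (by
      rw [Matrix.det_smul, hLy.det_eq_one hc, mul_one]; exact pow_ne_zero _ hl)
    let Q2 : GLm := Matrix.GeneralLinearGroup.mkOfDetNeZero (lam • y⁻¹) (by
      rw [Matrix.det_smul, (hy.inv hc).det_eq_one hc, mul_one]; exact pow_ne_zero _ hl)
    obtain ⟨P1, hP1d, hP1⟩ := toLevi _ hLy Q1 rfl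
    obtain ⟨P2, hP2d, hP2⟩ := toLevi _ (hy.inv hc) Q2 rfl
    have hA12 : A = P1 * X * P1⁻¹ * (P2 * X * P2⁻¹) := by
      rw [← hP1, ← hP2]
      apply Units.ext
      show (A : M) = lam • (L1 * y) * (lam • y⁻¹)
      rw [Matrix.smul_mul, Matrix.mul_smul, smul_smul, Matrix.mul_assoc, Matrix.mul_nonsing_inv _
        (hy.det_ne_zero hc).isUnit, Matrix.mul_one, hL1, smul_smul, mul_inv_cancel₀ hll, one_smul]
    have hAΩ : (dd A : OG) ∈ ΩG := (dd_mem_omega_iff hq4 h2 (by omega) A).2 ⟨_, hAd⟩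
    obtain ⟨p, q, hpq⟩ := mem_product (hXm.subgroupOf hxΩ) (hXp.subgroupOf hxΩ)
      (v := (⟨v, hvΩ⟩ : ΩG)) (u := (⟨u, huΩ⟩ : ΩG)) (l := (⟨dd A, hAΩ⟩ : ΩG))
      (a := (⟨dd P1, ddΩ P1 hP1d⟩ : ΩG)) (b := (⟨dd P2, ddΩ P2 hP2d⟩ : ΩG)) hv hu
      (fun z => dd_norm_Vm P1 (z : OG)) (fun z => by rw [Subgroup.mem_subgroupOf, Subgroup.mem_subgroupOf]; exact dd_norm_Vp P2 (z : OG))
      (Subtype.ext (by
        show dd A = dd P1 * dd X * (dd P1)⁻¹ * (dd P2 * dd X * (dd P2)⁻¹)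
        rw [hA12]; simp only [map_mul, map_inv]))
    refine ⟨h⁻¹ * p, mul_mem (inv_mem hh) p.2, h⁻¹ * q, mul_mem (inv_mem hh) q.2, ?_⟩
    calc g = h⁻¹ * (h * g * h⁻¹) * h := by group
      _ = h⁻¹ * ((p * ⟨dd X, hxΩ⟩ * p⁻¹ * (q * ⟨dd X, hxΩ⟩ * q⁻¹) : ΩG) : OG) * h := by rw [hdec, ← hpq]; rfl
      _ = _ := by push_cast; group

end Cfsg.Agent.Thompson.Orth
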