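import Cfsg.Agent.Lib.Thompson.OrthSelectPair
import Cfsg.Agent.Lib.Thompson.OrthSquare

/-!
From rank `n` to rank `n + 1` for hyperbolic spaces: if a real `x` without fixed vectors covers the nonscalar part of
`Omega` in rank `n`, its extension by the identity covers the nonscalar part in rank `n + 1`, through the parabolic
of a singular line.
-/

set_option autoImplicit false

open Matrix
open Cfsg.Agent

noncomputable section

namespace Cfsg.Agent.Thompson.OrthStep

universe u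

variable {F : Type u} [Field F] {n : ℕ}

local notation "ι" => (Fin n ⊕ Fin n) ⊕ (Fin 1 ⊕ Fin 1)
set_option quotPrecheck false in
local notation "OS" => ↥(isometryGroup F ⇑(QS F n))
set_option quotPrecheck false in
local notation "OP" => ↥(isometryGroup F ⇑(QForm.plusForm F n))
set_option quotPrecheck false in
local notation "P" => QForm.plusForm F n
set_option quotPrecheck false in
local notation "B'" => QuadraticMap.polar ⇑(QForm.plusForm F n)

/-- The component in the rank `n` summand. -/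
abbrev pa (v : (Fin n ⊕ Fin n) ⊕ (Fin 1 ⊕ Fin 1) → F) : Fin n ⊕ Fin n → F := fun i => v (Sum.inl i)
/-- The coordinate along `e`. -/
abbrev ps (v : (Fin n ⊕ Fin n) ⊕ (Fin 1 ⊕ Fin 1) → F) : F := v (Sum.inr (Sum.inl 0))
/-- The coordinate along `f`. -/
abbrev pt (v : (Fin n ⊕ Fin n) ⊕ (Fin 1 ⊕ Fin 1) → F) : F := v (Sum.inr (Sum.inr 0))

/-- A vector by its three components. -/
abbrev v3 (a : Fin n ⊕ Fin n → F) (s t : F) : (Fin n ⊕ Fin n) ⊕ (Fin 1 ⊕ Fin 1) → F :=
  Sum.elim a (Sum.elim (fun _ => s) (fun _ => t))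

omit [Field F] in
theorem v3_eta (v : ι → F) : v3 (pa v) (ps v) (pt v) = v := by
  funext i
  rcases i with i | (i | i)
  · rfl
  · rw [Fin.eq_zero i]; rfl
  · rw [Fin.eq_zero i]; rfl

omit [Field F] in
@[simp] theorem pa_v3 (a : Fin n ⊕ Fin n → F) (s t : F) : pa (v3 a s t) = a := rfl

omit [Field F] in
@[simp] theorem ps_v3 (a : Fin n ⊕ Fin n → F) (s t : F) : ps (v3 a s t) = s := rfl

omit [Field F] in
@[simp] theorem pt_v3 (a : Fin n ⊕ Fin n → F) (s t : F) : pt (v3 a s t) = t := rfl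

theorem QS_v3 (a : Fin n ⊕ Fin n → F) (s t : F) : QS F n (v3 a s t) = P a + s * t := by
  show P (v3 a s t ∘ Sum.inl) + QForm.plusForm F 1 (v3 a s t ∘ Sum.inr) = _
  rw [Sum.elim_comp_inl, Sum.elim_comp_inr, QForm.plusForm_apply _ 1, quadFormPlus]
  simp

theorem polar_v3 (a a' : Fin n ⊕ Fin n → F) (s t s' t' : F) :
    QuadraticMap.polar ⇑(QS F n) (v3 a s t) (v3 a' s' t') = B' a a' + (s * t' + t * s') := by
  rw [QS, QForm.polar_sumForm, Sum.elim_comp_inl, Sum.elim_comp_inl, Sum.elim_comp_inr, Sum.elim_comp_inr,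
    QForm.coe_plusForm F 1, QForm.polar_plus]
  simp

theorem addP (v w : Fin n ⊕ Fin n → F) : P (v + w) = P v + P w + B' v w := QuadraticMap.map_add _ v w

/-- An isometry from a linear map with an inverse. -/
def mkL (L L' : (ι → F) →ₗ[F] (ι → F)) (h : ∀ v, L (L' v) = v) (hQ : ∀ v, QS F n (L v) = QS F n v) : OS :=
  ⟨⟨LinearMap.toMatrix' L, LinearMap.toMatrix' L',
    by rw [← LinearMap.toMatrix'_comp, show L ∘ₗ L' = LinearMap.id from LinearMap.ext h, LinearMap.toMatrix'_id],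
    mul_eq_one_comm.1 (by
      rw [← LinearMap.toMatrix'_comp, show L ∘ₗ L' = LinearMap.id from LinearMap.ext h, LinearMap.toMatrix'_id])⟩,
    fun v _ => by
      show QS F n (LinearMap.toMatrix' L *ᵥ v) = QS F n v
      rw [LinearMap.toMatrix'_mulVec]
      exact hQ v⟩

theorem act_mkL (L L' : (ι → F) →ₗ[F] (ι → F)) (h : ∀ v, L (L' v) = v) (hQ : ∀ v, QS F n (L v) = QS F n v)
    (v : ι → F) : QForm.act _ (mkL L L' h hQ) v = L v :=
  LinearMap.toMatrix'_mulVec L v

/-- The radical element fixing `e`, as a linear map. -/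
def eLin (a : Fin n ⊕ Fin n → F) : (ι → F) →ₗ[F] (ι → F) where
  toFun v := v3 (pa v + pt v • a) (ps v - B' a (pa v) - pt v * P a) (pt v)
  map_add' v w := by
    funext i
    rcases i with i | (i | i)
    · simp [pa, pt]; ring
    · have : B' a (pa (v + w)) = B' a (pa v) + B' a (pa w) := QuadraticMap.polar_add_right _ a _ _
      simp [this]; ring
    · simp
  map_smul' c v := by
    funext i
    rcases i with i | (i | i)
    · simp [pa, pt]; ring
    · have : B' a (pa (c • v)) = c * B' a (pa v) := QuadraticMap.polar_smul_right _ c a _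
      simp [this]; ring
    · simp

/-- The radical element fixing `f`, as a linear map. -/
def fLin (a : Fin n ⊕ Fin n → F) : (ι → F) →ₗ[F] (ι → F) where
  toFun v := v3 (pa v + ps v • a) (ps v) (pt v - B' a (pa v) - ps v * P a)
  map_add' v w := by
    funext i
    rcases i with i | (i | i)
    · simp [pa, ps]; ring
    · simp
    · have : B' a (pa (v + w)) = B' a (pa v) + B' a (pa w) := QuadraticMap.polar_add_right _ a _ _
      simp [this]; ring
  map_smul' c v := by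
    funext i
    rcases i with i | (i | i)
    · simp [pa, ps]; ring
    · simp
    · have : B' a (pa (c • v)) = c * B' a (pa v) := QuadraticMap.polar_smul_right _ c a _
      simp [this]; ring

theorem eLin_apply (a : Fin n ⊕ Fin n → F) (v : ι → F) :
    eLin a v = v3 (pa v + pt v • a) (ps v - B' a (pa v) - pt v * P a) (pt v) := rfl

theorem fLin_apply (a : Fin n ⊕ Fin n → F) (v : ι → F) :
    fLin a v = v3 (pa v + ps v • a) (ps v) (pt v - B' a (pa v) - ps v * P a) := rfl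

theorem eLin_add (a b : Fin n ⊕ Fin n → F) (v : ι → F) : eLin a (eLin b v) = eLin (a + b) v := by
  simp only [eLin_apply]
  funext i
  rcases i with i | (i | i)
  · simp [pa]; ring
  · have h1 : B' a (pa v + pt v • b) = B' a (pa v) + pt v * B' a b := by
      rw [QuadraticMap.polar_add_right, QuadraticMap.polar_smul_right, smul_eq_mul]
    have h2 := QuadraticMap.polar_add_left (P) a b (pa v)
    show ps v - B' b (pa v) - pt v * P b - B' a (pa v + pt v • b) - pt v * P a =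
      ps v - B' (a + b) (pa v) - pt v * P (a + b)
    rw [h1, h2, addP]; ring
  · simp

theorem fLin_add (a b : Fin n ⊕ Fin n → F) (v : ι → F) : fLin a (fLin b v) = fLin (a + b) v := by
  simp only [fLin_apply]
  funext i
  rcases i with i | (i | i)
  · simp [pa]; ring
  · simp
  · have h1 : B' a (pa v + ps v • b) = B' a (pa v) + ps v * B' a b := by
      rw [QuadraticMap.polar_add_right, QuadraticMap.polar_smul_right, smul_eq_mul]
    have h2 := QuadraticMap.polar_add_left (P) a b (pa v)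
    show pt v - B' b (pa v) - ps v * P b - B' a (pa v + ps v • b) - ps v * P a =
      pt v - B' (a + b) (pa v) - ps v * P (a + b)
    rw [h1, h2, addP]; ring

theorem eLin_zero (v : ι → F) : eLin (0 : Fin n ⊕ Fin n → F) v = v := by
  rw [eLin_apply]; simp only [smul_zero, add_zero, QuadraticMap.polar_zero_left, QuadraticMap.map_zero, mul_zero,
    sub_zero]; exact v3_eta v

theorem fLin_zero (v : ι → F) : fLin (0 : Fin n ⊕ Fin n → F) v = v := by
  rw [fLin_apply]; simp only [smul_zero, add_zero, QuadraticMap.polar_zero_left, QuadraticMap.map_zero, mul_zero,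
    sub_zero]; exact v3_eta v

theorem QS_eLin (a : Fin n ⊕ Fin n → F) (v : ι → F) : QS F n (eLin a v) = QS F n v := by
  conv_rhs => rw [← v3_eta v]
  rw [eLin_apply, QS_v3, QS_v3, addP, QuadraticMap.map_smul, QuadraticMap.polar_smul_right,
    QuadraticMap.polar_comm _ (pa v) a, smul_eq_mul, smul_eq_mul]
  ring

theorem QS_fLin (a : Fin n ⊕ Fin n → F) (v : ι → F) : QS F n (fLin a v) = QS F n v := by
  conv_rhs => rw [← v3_eta v]
  rw [fLin_apply, QS_v3, QS_v3, addP, QuadraticMap.map_smul, QuadraticMap.polar_smul_right,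
    QuadraticMap.polar_comm _ (pa v) a, smul_eq_mul, smul_eq_mul]
  ring

/-- The radical element fixing `e`. -/
def vE (a : Fin n ⊕ Fin n → F) : OS :=
  mkL (eLin a) (eLin (-a)) (fun v => by rw [eLin_add, add_neg_cancel, eLin_zero]) (QS_eLin a)

/-- The radical element fixing `f`. -/
def vF (a : Fin n ⊕ Fin n → F) : OS :=
  mkL (fLin a) (fLin (-a)) (fun v => by rw [fLin_add, add_neg_cancel, fLin_zero]) (QS_fLin a)

theorem act_vE (a : Fin n ⊕ Fin n → F) (v : ι → F) : QForm.act _ (vE a) v = eLin a v := act_mkL _ _ _ _ v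
theorem act_vF (a : Fin n ⊕ Fin n → F) (v : ι → F) : QForm.act _ (vF a) v = fLin a v := act_mkL _ _ _ _ v

theorem vE_mul (a b : Fin n ⊕ Fin n → F) : vE a * vE b = (vE (a + b) : OS) :=
  QForm.isometry_ext _ fun v => by rw [QForm.act_mul, act_vE, act_vE, act_vE, eLin_add]

theorem vF_mul (a b : Fin n ⊕ Fin n → F) : vF a * vF b = (vF (a + b) : OS) :=
  QForm.isometry_ext _ fun v => by rw [QForm.act_mul, act_vF, act_vF, act_vF, fLin_add]

theorem vE_zero : (vE 0 : OS) = 1 :=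
  QForm.isometry_ext _ fun v => by rw [act_vE, eLin_zero, QForm.act_one]

theorem vF_zero : (vF 0 : OS) = 1 :=
  QForm.isometry_ext _ fun v => by rw [act_vF, fLin_zero, QForm.act_one]

/-- The radical fixing `e`. -/
def VE : Subgroup OS where
  carrier := {g | ∃ a, g = vE a}
  one_mem' := ⟨0, vE_zero.symm⟩
  mul_mem' := by rintro _ _ ⟨a, rfl⟩ ⟨b, rfl⟩; exact ⟨_, vE_mul a b⟩
  inv_mem' := by
    rintro _ ⟨a, rfl⟩
    exact ⟨-a, inv_eq_of_mul_eq_one_right (by rw [vE_mul, add_neg_cancel, vE_zero])⟩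

/-- The radical fixing `f`. -/
def VF : Subgroup OS where
  carrier := {g | ∃ a, g = vF a}
  one_mem' := ⟨0, vF_zero.symm⟩
  mul_mem' := by rintro _ _ ⟨a, rfl⟩ ⟨b, rfl⟩; exact ⟨_, vF_mul a b⟩
  inv_mem' := by
    rintro _ ⟨a, rfl⟩
    exact ⟨-a, inv_eq_of_mul_eq_one_right (by rw [vF_mul, add_neg_cancel, vF_zero])⟩

/-- Extension by the identity. -/
def emb : OP →* OS :=
  (QForm.sumHom ⇑(QForm.plusForm F n) ⇑(QForm.plusForm F 1)).comp (MonoidHom.inl _ _)

theorem act_emb (l : OP) (v : ι → F) : QForm.act _ (emb l) v = v3 (QForm.act _ l (pa v)) (ps v) (pt v) := by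
  conv_lhs => rw [← v3_eta v]
  show (Matrix.fromBlocks _ 0 0 (1 : Matrix (Fin 1 ⊕ Fin 1) (Fin 1 ⊕ Fin 1) F)) *ᵥ _ = _
  rw [Matrix.fromBlocks_mulVec]
  simp

theorem emb_vE (l : OP) (a : Fin n ⊕ Fin n → F) : emb l * vE a = vE (QForm.act _ l a) * (emb l : OS) :=
  QForm.isometry_ext _ fun v => by
    rw [QForm.act_mul, QForm.act_mul, act_vE, act_emb, act_emb, act_vE, eLin_apply, eLin_apply]
    have e : ∀ (x : Fin n ⊕ Fin n → F) (s t : F), pa (v3 x s t) = x ∧ ps (v3 x s t) = s ∧ pt (v3 x s t) = t :=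
      fun x s t => ⟨rfl, rfl, rfl⟩
    simp only [(e _ _ _).1, (e _ _ _).2.1, (e _ _ _).2.2, QForm.act_polar, QForm.act_map]
    congr 1
    show _ *ᵥ _ = _
    rw [Matrix.mulVec_add, Matrix.mulVec_smul]

theorem emb_vF (l : OP) (a : Fin n ⊕ Fin n → F) : emb l * vF a = vF (QForm.act _ l a) * (emb l : OS) :=
  QForm.isometry_ext _ fun v => by
    rw [QForm.act_mul, QForm.act_mul, act_vF, act_emb, act_emb, act_vF, fLin_apply, fLin_apply]
    have e : ∀ (x : Fin n ⊕ Fin n → F) (s t : F), pa (v3 x s t) = x ∧ ps (v3 x s t) = s ∧ pt (v3 x s t) = t :=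
      fun x s t => ⟨rfl, rfl, rfl⟩
    simp only [(e _ _ _).1, (e _ _ _).2.1, (e _ _ _).2.2, QForm.act_polar, QForm.act_map]
    congr 1
    show _ *ᵥ _ = _
    rw [Matrix.mulVec_add, Matrix.mulVec_smul]

theorem emb_conj_VE (l : OP) {z : OS} (hz : z ∈ (VE : Subgroup OS)) : emb l * z * (emb l)⁻¹ ∈ (VE : Subgroup OS) := by
  obtain ⟨a, rfl⟩ := hz
  rw [emb_vE, mul_inv_cancel_right]
  exact ⟨_, rfl⟩

theorem emb_conj_VF (l : OP) {z : OS} (hz : z ∈ (VF : Subgroup OS)) : emb l * z * (emb l)⁻¹ ∈ (VF : Subgroup OS) := by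
  obtain ⟨a, rfl⟩ := hz
  rw [emb_vF, mul_inv_cancel_right]
  exact ⟨_, rfl⟩

theorem emb_norm_VE (l : OP) (z : OS) : z ∈ (VE : Subgroup OS) ↔ emb l * z * (emb l)⁻¹ ∈ (VE : Subgroup OS) := by
  refine ⟨emb_conj_VE l, fun h => ?_⟩
  have := emb_conj_VE l⁻¹ h
  rwa [map_inv, show (emb l)⁻¹ * (emb l * z * (emb l)⁻¹) * (emb l : OS)⁻¹⁻¹ = z by group] at this

theorem emb_norm_VF (l : OP) (z : OS) : z ∈ (VF : Subgroup OS) ↔ emb l * z * (emb l)⁻¹ ∈ (VF : Subgroup OS) := by
  refine ⟨emb_conj_VF l, fun h => ?_⟩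
  have := emb_conj_VF l⁻¹ h
  rwa [map_inv, show (emb l)⁻¹ * (emb l * z * (emb l)⁻¹) * (emb l : OS)⁻¹⁻¹ = z by group] at this

theorem fixFree_VE (x : OP) (hx : ∀ a, QForm.act _ x a = a → a = 0) : FixFree (VE : Subgroup OS) (emb x) where
  norm_mem v hv := emb_conj_VE x hv
  eq_one v hv hc := by
    obtain ⟨a, rfl⟩ := hv
    rw [emb_vE, mul_left_inj] at hc
    have h1 := congrArg (fun g : OS => pa (QForm.act _ g (v3 0 0 1))) hc
    simp only [act_vE, eLin_apply] at h1
    rw [hx a (by simpa [pa] using h1), vE_zero]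

theorem fixFree_VF (x : OP) (hx : ∀ a, QForm.act _ x a = a → a = 0) : FixFree (VF : Subgroup OS) (emb x) where
  norm_mem v hv := emb_conj_VF x hv
  eq_one v hv hc := by
    obtain ⟨a, rfl⟩ := hv
    rw [emb_vF, mul_left_inj] at hc
    have h1 := congrArg (fun g : OS => pa (QForm.act _ g (v3 0 1 0))) hc
    simp only [act_vF, fLin_apply] at h1
    rw [hx a (by simpa [pa] using h1), vF_zero]

/-- The decomposition of an isometry whose value at `e` has `e`-coordinate one. -/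
theorem exists_parabolic (g : OS) (hg : ps (QForm.act _ g (v3 0 1 0)) = 1) :
    ∃ (a b : Fin n ⊕ Fin n → F) (l : OP), g = vF b * emb l * vE a := by
  classical
  set ge := QForm.act _ g (v3 0 1 0)
  set b := pa ge
  have hQ0 : QS F n ge = 0 := by rw [QForm.act_map, QS_v3]; simp
  have hFe : QForm.act _ (vF b) (v3 0 1 0) = ge := by
    rw [act_vF, fLin_apply]
    have ht : pt ge = -P b := by
      rw [← v3_eta ge, QS_v3, hg, one_mul] at hQ0
      linear_combination hQ0
    conv_rhs => rw [← v3_eta ge, hg, ht]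
    simp [pa, ps, pt, b, QuadraticMap.polar_zero_right]
  set h := (vF b)⁻¹ * g
  have hhe : QForm.act _ h (v3 0 1 0) = v3 0 1 0 := by
    show QForm.act _ ((vF b)⁻¹ * g) _ = _
    rw [QForm.act_mul]
    show QForm.act _ _ ge = _
    rw [← hFe, QForm.act_inv_act]
  set hf := QForm.act _ h (v3 0 0 1)
  set a := pa hf
  have hta : pt hf = 1 := by
    have h1 := QForm.act_polar _ h (v3 0 1 0) (v3 0 0 1)
    rw [hhe] at h1
    change QuadraticMap.polar ⇑(QS F n) (v3 0 1 0) hf = _ at h1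
    rw [← v3_eta hf, polar_v3, polar_v3] at h1
    simpa [QuadraticMap.polar_zero_left, QuadraticMap.polar_zero_right] using h1
  have hEf : QForm.act _ (vE a) (v3 0 0 1) = hf := by
    rw [act_vE, eLin_apply]
    have hs : ps hf = -P a := by
      have h1 : QS F n hf = 0 := by rw [QForm.act_map, QS_v3]; simp
      rw [← v3_eta hf, QS_v3, hta, mul_one] at h1
      linear_combination h1
    conv_rhs => rw [← v3_eta hf, hs, hta]
    simp [pa, ps, pt, a, QuadraticMap.polar_zero_right]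
  set k := (vE a)⁻¹ * h
  have hEe : QForm.act _ (vE a) (v3 0 1 0) = v3 0 1 0 := by
    rw [act_vE, eLin_apply]
    simp [pa, ps, pt, QuadraticMap.polar_zero_right]
  have hke : QForm.act _ k (v3 0 1 0) = v3 0 1 0 := by
    show QForm.act _ ((vE a)⁻¹ * h) _ = _
    rw [QForm.act_mul, hhe]
    conv_lhs => rw [← hEe]
    exact QForm.act_inv_act _ _ _
  have hkf : QForm.act _ k (v3 0 0 1) = v3 0 0 1 := by
    show QForm.act _ ((vE a)⁻¹ * h) _ = _
    rw [QForm.act_mul]
    show QForm.act _ _ hf = _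
    conv_lhs => rw [← hEf]
    exact QForm.act_inv_act _ _ _
  have hfix : ∀ (k : OS), QForm.act _ k (v3 0 1 0) = v3 0 1 0 → QForm.act _ k (v3 0 0 1) = v3 0 0 1 →
      ∀ v : Fin n ⊕ Fin n → F, QForm.act _ k (v3 v 0 0) = v3 (pa (QForm.act _ k (v3 v 0 0))) 0 0 := by
    intro k hke hkf v
    have h1 := QForm.act_polar _ k (v3 v 0 0) (v3 0 1 0)
    have h2 := QForm.act_polar _ k (v3 v 0 0) (v3 0 0 1)
    rw [hke] at h1
    rw [hkf] at h2
    rw [← v3_eta (QForm.act _ k (v3 v 0 0)), polar_v3, polar_v3] at h1 h2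
    simp [QuadraticMap.polar_zero_right] at h1 h2
    conv_lhs => rw [← v3_eta (QForm.act _ k (v3 v 0 0))]
    rw [show ps (QForm.act _ k (v3 v 0 0)) = 0 from h2, show pt (QForm.act _ k (v3 v 0 0)) = 0 from h1]
  let Lk : OS → ((Fin n ⊕ Fin n → F) →ₗ[F] (Fin n ⊕ Fin n → F)) := fun k =>
    (LinearMap.funLeft F F Sum.inl) ∘ₗ ((k : Matrix.GeneralLinearGroup ι F) : Matrix ι ι F).mulVecLin ∘ₗ
      { toFun := fun v => v3 v 0 0
        map_add' := fun v w => by funext i; rcases i with i | (i | i) <;> simp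
        map_smul' := fun c v => by funext i; rcases i with i | (i | i) <;> simp }
  have hLk : ∀ k v, Lk k v = pa (QForm.act _ k (v3 v 0 0)) := fun k v => rfl
  have hki : ∀ v, Lk k (Lk k⁻¹ v) = v := by
    intro v
    have e1 : QForm.act _ k⁻¹ (v3 0 1 0) = v3 0 1 0 := by
      conv_lhs => rw [← hke]
      exact QForm.act_inv_act _ _ _
    have e2 : QForm.act _ k⁻¹ (v3 0 0 1) = v3 0 0 1 := by
      conv_lhs => rw [← hkf]
      exact QForm.act_inv_act _ _ _
    rw [hLk, hLk, ← hfix k⁻¹ e1 e2 v, QForm.act_act_inv]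
    rfl
  have hkQ : ∀ v, P (Lk k v) = P v := fun v => by
    have h1 := QForm.act_map _ k (v3 v 0 0)
    rw [hfix k hke hkf v, QS_v3, QS_v3] at h1
    simpa [hLk] using h1
  let l : OP := ⟨⟨LinearMap.toMatrix' (Lk k), LinearMap.toMatrix' (Lk k⁻¹),
    by rw [← LinearMap.toMatrix'_comp, show Lk k ∘ₗ Lk k⁻¹ = LinearMap.id from LinearMap.ext hki,
      LinearMap.toMatrix'_id],
    mul_eq_one_comm.1 (by rw [← LinearMap.toMatrix'_comp, show Lk k ∘ₗ Lk k⁻¹ = LinearMap.id from LinearMap.ext hki,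
      LinearMap.toMatrix'_id])⟩, fun v _ => by
      show P (LinearMap.toMatrix' (Lk k) *ᵥ v) = P v
      rw [LinearMap.toMatrix'_mulVec]
      exact hkQ v⟩
  have hk : k = emb l := QForm.isometry_ext _ fun v => by
    rw [act_emb, show QForm.act _ l (pa v) = Lk k (pa v) from LinearMap.toMatrix'_mulVec _ _]
    have hdec : v = v3 (pa v) 0 0 + (ps v • v3 0 1 0 + pt v • v3 0 0 1) := by
      conv_lhs => rw [← v3_eta v]
      funext i
      rcases i with i | (i | i) <;> simp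
    conv_lhs => rw [hdec]
    show _ *ᵥ _ = _
    have e1 : ((k : Matrix.GeneralLinearGroup ι F) : Matrix ι ι F) *ᵥ v3 (pa v) 0 0 = _ :=
      hfix k hke hkf (pa v)
    have e2 : ((k : Matrix.GeneralLinearGroup ι F) : Matrix ι ι F) *ᵥ v3 0 1 0 = v3 0 1 0 := hke
    have e3 : ((k : Matrix.GeneralLinearGroup ι F) : Matrix ι ι F) *ᵥ v3 0 0 1 = v3 0 0 1 := hkf
    rw [Matrix.mulVec_add, Matrix.mulVec_add, Matrix.mulVec_smul, Matrix.mulVec_smul, e1, e2, e3, ← hLk]
    funext i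
    rcases i with i | (i | i) <;> simp
  refine ⟨QForm.act _ l⁻¹ a, b, l, ?_⟩
  rw [mul_assoc, emb_vE, QForm.act_act_inv, ← hk]
  show g = vF b * (vE a * ((vE a)⁻¹ * ((vF b)⁻¹ * g)))
  group

variable [Fintype F]

/-- Every isometry is an element of `Omega` times one commuting with `emb x`. -/
theorem exists_split (hq : 4 ≤ Fintype.card F) (x : OP) (h : OS) :
    ∃ c : OS, c * emb x = emb x * c ∧ h * c⁻¹ ∈ Omega F ⇑(QS F n) := by
  classical
  set y : OS := emb x
  have hF : Fintype.card F ≠ 2 := by omega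
  have hQ := QS_nondegenerate F n
  let A : Subgroup OS := ((Subgroup.centralizer {y}).map Abelianization.of).comap Abelianization.of
  have hr : ∀ v (hv : QS F n v ≠ 0), QForm.refl (QS F n) v hv ∈ A := by
    intro v hv
    set w : ι → F := v3 0 1 (QS F n v)
    have hw : QS F n w = QS F n v := by rw [QS_v3, QuadraticMap.map_zero, one_mul, zero_add]
    refine ⟨QForm.refl (QS F n) w (by rwa [hw]), ?_, ?_⟩
    · refine Subgroup.mem_centralizer_singleton_iff.2 ?_
      have e := QForm.conj_refl _ y w (by rwa [hw])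
      have hyw : QForm.act _ y w = w := by
        show QForm.act _ (emb x) _ = _
        rw [act_emb]
        show v3 (_ *ᵥ pa w) _ _ = _
        rw [show pa w = 0 from rfl, Matrix.mulVec_zero]
        rfl
      rw [QForm.refl_congr (QS F n) (v := w) (w := QForm.act _ y w) (by rwa [hw]) (by rwa [hyw, hw]) (c := 1)
        (hyw.trans (one_smul F w).symm)] at e
      rw [mul_inv_eq_iff_eq_mul] at e
      exact e.symm
    · exact (QForm.of_refl_eq hQ _ _ (by rw [hw]; exact ⟨_, rfl⟩))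
  have hall : ∀ g : OS, g ∈ A := by
    intro g
    obtain ⟨vs, hvs, hg⟩ := QForm.exists_list hQ (Or.inl hF) g
    induction vs generalizing g with
    | nil =>
      obtain rfl : g = 1 := Subtype.ext (Units.ext hg)
      exact one_mem A
    | cons v vs ih =>
      obtain ⟨g', hg'⟩ := QForm.exists_prod_refl _ vs fun w hw => hvs w (List.mem_cons_of_mem _ hw)
      obtain rfl : g = QForm.refl _ v (hvs v List.mem_cons_self) * g' := Subtype.ext (Units.ext (by
        rw [hg, List.map_cons, List.prod_cons, ← hg']; rfl))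
      exact mul_mem (hr _ _) (ih g' (fun w hw => hvs w (List.mem_cons_of_mem _ hw)) hg')
  obtain ⟨c, hc, hch⟩ := hall h
  refine ⟨c, Subgroup.mem_centralizer_singleton_iff.1 hc, ?_⟩
  rw [QForm.mem_omega_iff_abelianization, map_mul, map_inv, hch, mul_inv_cancel]

theorem act_plus_one (g : OS) (u : ι → F) :
    QForm.act _ g u + u = ((((g : Matrix.GeneralLinearGroup ι F) : Matrix ι ι F)) + 1) *ᵥ u := by
  rw [Matrix.add_mulVec, Matrix.one_mulVec]

theorem act_vFlE (a b : Fin n ⊕ Fin n → F) (l : OP) (v : ι → F) :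
    QForm.act _ (vF b * emb l * vE a) v = fLin b (v3 (QForm.act _ l (pa v + pt v • a))
      (ps v - B' a (pa v) - pt v * P a) (pt v)) := by
  rw [QForm.act_mul, QForm.act_mul, act_vE, act_emb, act_vF, eLin_apply, pa_v3, ps_v3, pt_v3]

theorem act_vFlE_e0 (a b : Fin n ⊕ Fin n → F) (l : OP) :
    QForm.act _ (vF b * emb l * vE a) (v3 0 1 0) = v3 b 1 (-P b) := by
  rw [act_vFlE, fLin_apply]
  simp [QuadraticMap.polar_zero_right]

/-- With Levi part `-1`, the range of `g + 1` is spanned by four vectors. -/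
theorem plus_one_formula (a b : Fin n ⊕ Fin n → F) (l : OP) (hl : ∀ v, QForm.act _ l v = (-1 : F) • v) (v : ι → F) :
    QForm.act _ (vF b * emb l * vE a) v + v = pt v • v3 (-a) 0 2 +
      (ps v - B' a (pa v) - pt v * P a) • v3 b 1 (-P b) + ps v • v3 0 1 0 +
      B' b (pa v + pt v • a) • v3 0 0 1 := by
  rw [act_vFlE, fLin_apply, pa_v3, ps_v3, pt_v3, hl, QuadraticMap.polar_smul_right, smul_eq_mul]
  conv_lhs => arg 2; rw [← v3_eta v]
  funext i
  rcases i with i | (i | i)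
  · simp; ring
  · simp
  · simp; ring

theorem exists_pairing (b : Fin n ⊕ Fin n → F) (hb : b ≠ 0) : ∃ v, B' b v = 1 := by
  by_contra hno
  push Not at hno
  refine hb ((QForm.plusForm_nondegenerate F n).1 b fun v => ?_)
  show B' b v = 0
  by_contra hne
  exact hno ((B' b v)⁻¹ • v) (by
    rw [QuadraticMap.polar_smul_right, smul_eq_mul, inv_mul_cancel₀ hne])

/-- The choice of the hyperbolic pair. -/
theorem exists_select (hn : 4 ≤ n) (g : OS)
    (hns : ∀ a : F, ((g : Matrix.GeneralLinearGroup ι F) : Matrix ι ι F) ≠ a • 1) :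
    ∃ h : OS, ps (QForm.act _ (h * g * h⁻¹) (v3 0 1 0)) = 1 ∧
      ∀ (a b : Fin n ⊕ Fin n → F) (l : OP), h * g * h⁻¹ = vF b * emb l * vE a →
        ∀ c : F, (∀ v, QForm.act _ l v = c • v) → c = 1 := by
  classical
  obtain ⟨e, heQ, he0, hmov⟩ := exists_moved (by omega) g hns
  set ge := QForm.act _ g e with hgedef
  have hge : QS F n ge = 0 := by rw [hgedef, QForm.act_map]; exact heQ
  let W : Submodule F (ι → F) :=
    LinearMap.range (((g : Matrix.GeneralLinearGroup ι F) : Matrix ι ι F) + 1).mulVecLin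
  obtain ⟨U, hU, hUW⟩ : ∃ U : Submodule F (ι → F), Module.finrank F U ≤ 5 ∧
      (Module.finrank F W ≤ 4 → W ⊔ Submodule.span F {ge} ≤ U) := by
    by_cases hW : Module.finrank F W ≤ 4
    · refine ⟨W ⊔ Submodule.span F {ge}, ?_, fun _ => le_rfl⟩
      have h1 := Submodule.finrank_add_le_finrank_add_finrank W (Submodule.span F {ge})
      have h2 : Module.finrank F ↥(Submodule.span F ({ge} : Set (ι → F))) ≤ 1 :=
        (finrank_span_le_card _).trans (by simp)
      omega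
    · exact ⟨⊥, by rw [finrank_bot]; omega, fun h => absurd h hW⟩
  obtain ⟨f, hfQ, hef, hfge, hfU⟩ := exists_partner hn e ge heQ hge he0 hmov U hU
  have hfe : ∀ c : F, f ≠ c • e := fun c hc => by
    rw [hc, QuadraticMap.polar_smul_right, QuadraticMap.polar_self, heQ, smul_zero, smul_zero] at hef
    exact zero_ne_one hef
  have he0Q : QS F n (v3 0 1 0) = 0 := by rw [QS_v3]; simp
  have hf0Q : QS F n (v3 0 0 1) = 0 := by rw [QS_v3]; simp
  have hef0 : QuadraticMap.polar ⇑(QS F n) (v3 0 1 0) (v3 0 0 1) = 1 := by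
    rw [polar_v3, QuadraticMap.polar_zero_left]; ring
  have hind0 : LinearIndependent F ![(v3 0 1 0 : ι → F), v3 0 0 1] := indep_of_ne
    (fun h0 => by simpa using congrFun h0 (Sum.inr (Sum.inl 0)))
    fun c hc => by simpa using congrFun hc (Sum.inr (Sum.inr 0))
  obtain ⟨h, hh⟩ := exists_act_pair ![e, f] ![v3 0 1 0, v3 0 0 1] (indep_of_ne he0 hfe) hind0
    (fun i => by fin_cases i <;> simp [he0Q, hf0Q, heQ, hfQ])
    (fun i j => by
      have hfe0 : QuadraticMap.polar ⇑(QS F n) (v3 0 0 1) (v3 0 1 0) = 1 := by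
        rw [QuadraticMap.polar_comm, hef0]
      fin_cases i <;> fin_cases j <;> simp [hef, hef0, hfe0, QuadraticMap.polar_self, he0Q, hf0Q, heQ, hfQ,
        QuadraticMap.polar_comm _ f e])
  have hhe : QForm.act _ h e = v3 0 1 0 := hh 0
  have hhf : QForm.act _ h f = v3 0 0 1 := hh 1
  have hinv : ∀ u, QForm.act _ h⁻¹ (QForm.act _ (h * g * h⁻¹) u) = QForm.act _ g (QForm.act _ h⁻¹ u) :=
    fun u => by rw [QForm.act_mul, QForm.act_mul, QForm.act_inv_act]
  have hg'e : QForm.act _ (h * g * h⁻¹) (v3 0 1 0) = QForm.act _ h ge := by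
    rw [← hhe, QForm.act_mul, QForm.act_mul, QForm.act_inv_act]
  refine ⟨h, ?_, fun a b l hdec c hlv => ?_⟩
  · have h1 : QuadraticMap.polar ⇑(QS F n) (v3 0 0 1) (QForm.act _ h ge) = 1 := by
      rw [← hhf, QForm.act_polar, hfge]
    rw [← v3_eta (QForm.act _ h ge), polar_v3, QuadraticMap.polar_zero_left] at h1
    rw [hg'e]
    linear_combination h1
  have hcc : c * c = 1 := by
    obtain ⟨v, hv⟩ := QForm.exists_ne_zero (QForm.plusForm_nondegenerate F n) (by simp; omega)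
    have h1 := QForm.act_map _ l v
    rw [hlv, QuadraticMap.map_smul, smul_eq_mul] at h1
    exact mul_right_cancel₀ hv (h1.trans (one_mul _).symm)
  refine (mul_self_eq_one_iff.1 hcc).resolve_right fun hneg => ?_
  subst hneg
  have hform := plus_one_formula a b l hlv
  rw [← hdec] at hform
  have hge0 : QForm.act _ h ge = v3 b 1 (-P b) := by rw [← hg'e, hdec, act_vFlE_e0]
  have hb : b ≠ 0 := fun hb0 => hmov 1 (by
    rw [one_smul]
    have h1 : QForm.act _ h ge = QForm.act _ h e := by rw [hhe, hge0, hb0]; simp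
    simpa [QForm.act_inv_act] using congrArg (QForm.act _ h⁻¹) h1)
  let W4 : Fin 4 → ι → F := ![v3 (-a) 0 2, v3 b 1 (-P b), v3 0 1 0, v3 0 0 1]
  have hW : Module.finrank F W ≤ 4 := by
    have hle : W ≤ (Submodule.span F (Set.range W4)).map
        (((h⁻¹ : OS) : Matrix.GeneralLinearGroup ι F) : Matrix ι ι F).mulVecLin := by
      rintro _ ⟨u, rfl⟩
      refine ⟨QForm.act _ (h * g * h⁻¹) (QForm.act _ h u) + QForm.act _ h u, ?_, ?_⟩
      · rw [hform]
        refine add_mem (add_mem (add_mem ?_ ?_) ?_) ?_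
        · exact Submodule.smul_mem _ _ (Submodule.subset_span ⟨0, rfl⟩)
        · exact Submodule.smul_mem _ _ (Submodule.subset_span ⟨1, rfl⟩)
        · exact Submodule.smul_mem _ _ (Submodule.subset_span ⟨2, rfl⟩)
        · exact Submodule.smul_mem _ _ (Submodule.subset_span ⟨3, rfl⟩)
      · rw [Matrix.mulVecLin_apply, Matrix.mulVecLin_apply, ← act_plus_one]
        show QForm.act _ h⁻¹ _ = _
        rw [act_add, hinv, QForm.act_inv_act]
    refine ((Submodule.finrank_mono hle).trans (Submodule.finrank_map_le _ _)).trans ?_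
    exact (finrank_range_le_card W4).trans (by simp)
  apply hfU
  apply hUW hW
  obtain ⟨v, hv⟩ := exists_pairing b hb
  have h1 := hform (v3 v 0 0)
  simp only [pa_v3, ps_v3, pt_v3, zero_smul, zero_mul, sub_zero, zero_sub, zero_add, add_zero, hv, one_smul] at h1
  have h3 : v3 0 0 1 = (QForm.act _ (h * g * h⁻¹) (v3 v 0 0) + v3 v 0 0) +
      B' a v • QForm.act _ h ge := by
    rw [h1, hge0, neg_smul]
    abel
  have h4 := congrArg (QForm.act _ h⁻¹) h3
  rw [← hhf, QForm.act_inv_act, act_add, act_add, act_smul, QForm.act_inv_act, hinv] at h4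
  rw [h4]
  exact Submodule.add_mem_sup ⟨QForm.act _ h⁻¹ (v3 v 0 0), by rw [Matrix.mulVecLin_apply, act_plus_one]⟩
    (Submodule.smul_mem _ _ (Submodule.mem_span_singleton_self ge))

theorem emb_mem_omega (l : OP) (hl : l ∈ Omega F ⇑(QForm.plusForm F n)) : (emb l : OS) ∈ Omega F ⇑(QS F n) :=
  QForm.sumHom_mem_omega ⇑(QForm.plusForm F n) ⇑(QForm.plusForm F 1) hl
    (one_mem (Omega F ⇑(QForm.plusForm F 1)))

/-- The recursion step. -/
theorem step_square (hq : 4 ≤ Fintype.card F) (hn : 4 ≤ n) (x : OP) (hx : x ∈ Omega F ⇑(QForm.plusForm F n))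
    (hreal : ∃ w, w ∈ Omega F ⇑(QForm.plusForm F n) ∧ x⁻¹ = w * x * w⁻¹)
    (hfix : ∀ a, QForm.act _ x a = a → a = 0)
    (hcov : ∀ l : OP, l ∈ Omega F ⇑(QForm.plusForm F n) →
      (∀ a : F, ((l : Matrix.GeneralLinearGroup (Fin n ⊕ Fin n) F) : Matrix (Fin n ⊕ Fin n) (Fin n ⊕ Fin n) F) ≠
        a • 1) →
      ∃ p, p ∈ Omega F ⇑(QForm.plusForm F n) ∧ ∃ q, q ∈ Omega F ⇑(QForm.plusForm F n) ∧
        l = p * x * p⁻¹ * (q * x * q⁻¹)) :
    ∃ y : OS, y ∈ Omega F ⇑(QS F n) ∧ (∃ w, w ∈ Omega F ⇑(QS F n) ∧ y⁻¹ = w * y * w⁻¹) ∧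
      ∀ g : OS, g ∈ Omega F ⇑(QS F n) →
        (∀ a : F, ((g : Matrix.GeneralLinearGroup ι F) : Matrix ι ι F) ≠ a • 1) →
        ∃ p, p ∈ Omega F ⇑(QS F n) ∧ ∃ q, q ∈ Omega F ⇑(QS F n) ∧ g = p * y * p⁻¹ * (q * y * q⁻¹) := by
  classical
  have hF : Fintype.card F ≠ 2 := by omega
  have hembΩ : ∀ l, l ∈ Omega F ⇑(QForm.plusForm F n) → (emb l : OS) ∈ Omega F ⇑(QS F n) := emb_mem_omega
  have hyΩ := hembΩ x hx
  refine ⟨emb x, hyΩ, ?_, fun g hg hns => ?_⟩
  · obtain ⟨w, hw, hxw⟩ := hreal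
    exact ⟨emb w, hembΩ w hw, by rw [← map_inv, hxw, map_mul, map_mul, map_inv]⟩
  have hfE := fixFree_VE x hfix
  have hfF := fixFree_VF x hfix
  have radΩ : ∀ (V : Subgroup OS), FixFree V (emb x) → ∀ z ∈ V, z ∈ Omega F ⇑(QS F n) := by
    intro V hV z hz
    obtain ⟨w, hw⟩ := hV.exists_conj_left hz
    have e : z = w * emb x * w⁻¹ * (emb x)⁻¹ := by rw [← hw, mul_inv_cancel_right]
    rw [e, ← commutatorElement_def]
    exact Subgroup.commutator_mem_commutator (Subgroup.mem_top _) (Subgroup.mem_top _)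
  obtain ⟨h, hs1, hone⟩ := exists_select hn g hns
  have hg' : h * g * h⁻¹ ∈ Omega F ⇑(QS F n) := Subgroup.Normal.conj_mem inferInstance _ hg h
  obtain ⟨a, b, l, hdec⟩ := exists_parabolic (h * g * h⁻¹) hs1
  have hbΩ := radΩ _ hfF (vF b) ⟨b, rfl⟩
  have haΩ := radΩ _ hfE (vE a) ⟨a, rfl⟩
  have hlΩ : (emb l : OS) ∈ Omega F ⇑(QS F n) := by
    rw [show (emb l : OS) = (vF b)⁻¹ * (h * g * h⁻¹) * (vE a)⁻¹ by rw [hdec]; group]
    exact mul_mem (mul_mem (inv_mem hbΩ) hg') (inv_mem haΩ)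
  have hlΩ' : l ∈ Omega F ⇑(QForm.plusForm F n) :=
    Orth.mem_omega_of_sum (QForm.plusForm_nondegenerate F n) (QForm.plusForm_nondegenerate F 1) hF hlΩ
  obtain ⟨p0, hp0, q0, hq0, hl⟩ : ∃ p, p ∈ Omega F ⇑(QForm.plusForm F n) ∧ ∃ q,
      q ∈ Omega F ⇑(QForm.plusForm F n) ∧ l = p * x * p⁻¹ * (q * x * q⁻¹) := by
    by_cases hls : ∀ c : F, ((l : Matrix.GeneralLinearGroup (Fin n ⊕ Fin n) F) :
        Matrix (Fin n ⊕ Fin n) (Fin n ⊕ Fin n) F) ≠ c • 1
    · exact hcov l hlΩ' hls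
    push Not at hls
    obtain ⟨c, hc⟩ := hls
    have hlv : ∀ v, QForm.act _ l v = c • v := fun v => by
      show _ *ᵥ v = _
      rw [hc, Matrix.smul_mulVec, Matrix.one_mulVec]
    have hl1 : l = 1 := QForm.isometry_ext _ fun v => by
      rw [hlv, hone a b l hdec c hlv, one_smul, QForm.act_one]
    obtain ⟨w, hw, hxw⟩ := hreal
    exact ⟨1, one_mem _, w, hw, by rw [hl1, one_mul, inv_one, mul_one, ← hxw, mul_inv_cancel]⟩
  obtain ⟨p, q, hpq⟩ := mem_product (hfF.subgroupOf hyΩ) (hfE.subgroupOf hyΩ)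
    (v := (⟨vF b, hbΩ⟩ : Omega F ⇑(QS F n))) (u := (⟨vE a, haΩ⟩ : Omega F ⇑(QS F n)))
    (l := (⟨emb l, hlΩ⟩ : Omega F ⇑(QS F n))) (a := (⟨emb p0, hembΩ p0 hp0⟩ : Omega F ⇑(QS F n)))
    (b := (⟨emb q0, hembΩ q0 hq0⟩ : Omega F ⇑(QS F n))) ⟨b, rfl⟩ ⟨a, rfl⟩
    (fun z => by rw [Subgroup.mem_subgroupOf, Subgroup.mem_subgroupOf]; exact emb_norm_VF p0 (z : OS))
    (fun z => by rw [Subgroup.mem_subgroupOf, Subgroup.mem_subgroupOf]; exact emb_norm_VE q0 (z : OS))
    (Subtype.ext (by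
      show emb l = emb p0 * emb x * (emb p0)⁻¹ * (emb q0 * emb x * (emb q0)⁻¹)
      rw [hl]; simp only [map_mul, map_inv]))
  obtain ⟨c, hcx, hcΩ⟩ := exists_split hq x h
  have hpq' : h * g * h⁻¹ = (p : OS) * emb x * (p : OS)⁻¹ * ((q : OS) * emb x * (q : OS)⁻¹) := by
    rw [hdec]; exact congrArg Subtype.val hpq
  have hn' : ∀ z : OS, z ∈ Omega F ⇑(QS F n) → c⁻¹ * ((h * c⁻¹)⁻¹ * z) * c ∈ Omega F ⇑(QS F n) := fun z hz => by
    have := Subgroup.Normal.conj_mem inferInstance _ (mul_mem (inv_mem hcΩ) hz) c⁻¹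
    rwa [inv_inv] at this
  refine ⟨c⁻¹ * ((h * c⁻¹)⁻¹ * p) * c, hn' _ p.2, c⁻¹ * ((h * c⁻¹)⁻¹ * q) * c, hn' _ q.2, ?_⟩
  have hcy : c * emb x * c⁻¹ = emb x := by rw [hcx, mul_inv_cancel_right]
  have hz : ∀ z : OS, c⁻¹ * ((h * c⁻¹)⁻¹ * z) * c * emb x * (c⁻¹ * ((h * c⁻¹)⁻¹ * z) * c)⁻¹ =
      h⁻¹ * (z * emb x * z⁻¹) * h :=
    fun z => by
      calc c⁻¹ * ((h * c⁻¹)⁻¹ * z) * c * emb x * (c⁻¹ * ((h * c⁻¹)⁻¹ * z) * c)⁻¹
          = c⁻¹ * ((h * c⁻¹)⁻¹ * z) * (c * emb x * c⁻¹) * (c⁻¹ * ((h * c⁻¹)⁻¹ * z))⁻¹ := by group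
        _ = _ := by rw [hcy]; group
  rw [hz, hz]
  calc g = h⁻¹ * (h * g * h⁻¹) * h := by group
    _ = _ := by rw [hpq']; group

end Cfsg.Agent.Thompson.OrthStep
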