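import Cfsg.Agent.Lib.Commutator.Regular

/-!
Matrices in the class with characteristic polynomial `(X - 1)^k (X - c) (X - c⁻¹)` and one Jordan block for `1`:
similarity, inverses, determinants of centralisers, and the covering property for nonscalar matrices of determinant
one over fields with at least four elements.
-/

set_option autoImplicit false

open Polynomial Matrix

namespace Cfsg.Agent.Thompson

universe u

variable {F : Type u} [Field F] {k : ℕ} {c : F}

open Cfsg.Agent.Commutator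

/-- A regular matrix with eigenvalues `1` (`k` times), `c`, `c⁻¹`. -/
def MReg (c : F) (k : ℕ) (A : Matrix (Fin (k + 2)) (Fin (k + 2)) F) : Prop :=
  Regular.IsReg c k (Matrix.toLinAlgEquiv' A)

theorem MReg.charpoly_eq {A : Matrix (Fin (k + 2)) (Fin (k + 2)) F} (h : MReg c k A) :
    A.charpoly = (Polynomial.X - C 1) ^ k * Regular.pairPoly c := by
  rw [← Matrix.charpoly_toLin' A]
  exact Regular.IsReg.charpoly_eq h

theorem MReg.det_eq_one {A : Matrix (Fin (k + 2)) (Fin (k + 2)) F} (h : MReg c k A) (hc : c ≠ 0) :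
    A.det = 1 := by
  rw [Matrix.det_eq_sign_charpoly_coeff, h.charpoly_eq, coeff_zero_eq_eval_zero, Fintype.card_fin]
  simp [Regular.pairPoly, mul_inv_cancel₀ hc, ← mul_pow, pow_add]

theorem MReg.similar {A B : Matrix (Fin (k + 2)) (Fin (k + 2)) F} (hA : MReg c k A) (hB : MReg c k B)
    (hc : c ≠ 0) (hc2 : c * c ≠ 1) :
    ∃ P : Matrix (Fin (k + 2)) (Fin (k + 2)) F, P.det ≠ 0 ∧ P * A = B * P := by
  obtain ⟨e, he⟩ := Regular.IsReg.intertwine hA hB hc hc2
  refine ⟨LinearMap.toMatrix' e.toLinearMap, by rw [LinearMap.det_toMatrix']; exact e.isUnit_det'.ne_zero, ?_⟩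
  apply (Matrix.toLinAlgEquiv' : Matrix _ _ F ≃ₐ[F] Module.End F (Fin (k + 2) → F)).injective
  rw [map_mul, map_mul]
  refine LinearMap.ext fun x => ?_
  have h1 : (Matrix.toLinAlgEquiv' (LinearMap.toMatrix' e.toLinearMap) : Module.End F (Fin (k + 2) → F)) =
      e.toLinearMap := Matrix.toLin'_toMatrix' _
  rw [h1]
  exact he x

theorem MReg.det_ne_zero {A : Matrix (Fin (k + 2)) (Fin (k + 2)) F} (h : MReg c k A) (hc : c ≠ 0) :
    A.det ≠ 0 := by
  rw [h.det_eq_one hc]; exact one_ne_zero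

theorem reverse_X_sub (a : F) : (Polynomial.X - C a).reverse = 1 - C a * Polynomial.X := by
  have hd : (Polynomial.X - C a).natDegree = 1 := natDegree_X_sub_C a
  ext i
  rw [coeff_reverse, hd]
  rcases i with _ | _ | i
  · simp [revAt_le]
  · simp [revAt_le, coeff_one]
  · rw [revAt_eq_self_of_lt (by omega)]
    simp [coeff_X, coeff_one, coeff_C]

theorem reverse_one_pow (j : ℕ) :
    ((Polynomial.X - C (1 : F)) ^ j).reverse = ((1 : F[X]) - Polynomial.X) ^ j := by
  induction j with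
  | zero =>
    rw [pow_zero, pow_zero, show reverse (1 : F[X]) = 1 by simpa using reverse_C (1 : F)]
  | succ j ih => rw [pow_succ, reverse_mul_of_domain, ih, reverse_X_sub, pow_succ]; simp

theorem MReg.inv {A : Matrix (Fin (k + 2)) (Fin (k + 2)) F} (h : MReg c k A) (hc : c ≠ 0) :
    MReg c k A⁻¹ := by
  have hu : IsUnit A.det := (h.det_ne_zero hc).isUnit
  refine ⟨?_, ?_⟩
  · show (Matrix.toLin' A⁻¹).charpoly = _
    rw [Matrix.charpoly_toLin', Matrix.charpoly_inv A ((Matrix.isUnit_iff_isUnit_det A).2 hu), h.det_eq_one hc,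
      Ring.inverse_one, map_one, mul_one, Fintype.card_fin, ← Matrix.reverse_charpoly, h.charpoly_eq,
      Regular.pairPoly, reverse_mul_of_domain, reverse_mul_of_domain, reverse_X_sub, reverse_X_sub, reverse_one_pow]
    have hcc : C c * C c⁻¹ = (1 : F[X]) := by rw [← C_mul, mul_inv_cancel₀ hc, C_1]
    rw [← neg_sub Polynomial.X (1 : F[X]), neg_pow (Polynomial.X - 1) k, pow_add]
    have h1 : ((-1 : F[X]) ^ k) * (-1) ^ k = 1 := by rw [← mul_pow]; simp
    have h2 : (1 - C c * Polynomial.X) * (1 - C c⁻¹ * Polynomial.X) =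
        (Polynomial.X - C c) * (Polynomial.X - C c⁻¹) := by
      linear_combination (Polynomial.X ^ 2 - 1) * hcc
    rw [h2]
    linear_combination ((Polynomial.X - 1) ^ k * ((Polynomial.X - C c) * (Polynomial.X - C c⁻¹))) * h1
  · refine le_trans (Submodule.finrank_mono fun x hx => ?_) h.ker_le
    rw [LinearMap.mem_ker, LinearMap.sub_apply, Module.End.one_apply, sub_eq_zero] at hx ⊢
    change A⁻¹ *ᵥ x = x at hx
    show A *ᵥ x = x
    conv_lhs => rw [← hx]
    rw [Matrix.mulVec_mulVec, Matrix.mul_nonsing_inv _ hu, Matrix.one_mulVec]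

theorem MReg.conj {A : Matrix (Fin (k + 2)) (Fin (k + 2)) F} (h : MReg c k A)
    {P : Matrix (Fin (k + 2)) (Fin (k + 2)) F} (hP : IsUnit P.det) : MReg c k (P * A * P⁻¹) := by
  refine Regular.IsReg.conj h (Matrix.toLinearEquiv' P (Matrix.invertibleOfIsUnitDet P hP)) fun x => ?_
  show P *ᵥ (A *ᵥ x) = (P * A * P⁻¹) *ᵥ (P *ᵥ x)
  rw [Matrix.mulVec_mulVec, Matrix.mulVec_mulVec, Matrix.mul_assoc (P * A), Matrix.nonsing_inv_mul _ hP,
    Matrix.mul_one]

variable [Fintype F]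

/-- The covering property. -/
theorem exists_cover (hq : 4 ≤ Fintype.card F) (hc : c ≠ 0) (hc2 : c * c ≠ 1)
    (A : Matrix (Fin (k + 2)) (Fin (k + 2)) F) (hd : A.det = 1) (hns : ∀ a : F, A ≠ a • 1) :
    ∃ y : Matrix (Fin (k + 2)) (Fin (k + 2)) F, MReg c k y ∧ MReg c k (A * y) ∧
      Regular.DetFull (Matrix.toLinAlgEquiv' y) := by
  obtain ⟨y, h1, h2, h3⟩ := Regular.exists_mul_reg hq c hc hc2 (k := k) (Matrix.toLinAlgEquiv' A) (by simp)
    (by show LinearMap.det (Matrix.toLin' A) = 1; rw [LinearMap.det_toLin', hd]) (fun a ha => hns a (by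
      apply (Matrix.toLinAlgEquiv' : Matrix _ _ F ≃ₐ[F] Module.End F (Fin (k + 2) → F)).injective
      rw [ha, map_smul, map_one]
      rfl))
  refine ⟨(Matrix.toLinAlgEquiv' : Matrix _ _ F ≃ₐ[F] Module.End F (Fin (k + 2) → F)).symm y, ?_, ?_, ?_⟩
  · unfold MReg; rwa [AlgEquiv.apply_symm_apply]
  · unfold MReg; rwa [map_mul, AlgEquiv.apply_symm_apply]
  · rwa [AlgEquiv.apply_symm_apply]

theorem exists_mReg (hq : 4 ≤ Fintype.card F) (hc : c ≠ 0) (hc2 : c * c ≠ 1) (k : ℕ) :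
    ∃ A : Matrix (Fin (k + 2)) (Fin (k + 2)) F, MReg c k A ∧ Regular.DetFull (Matrix.toLinAlgEquiv' A) := by
  obtain ⟨y, h1, -, h3⟩ := exists_cover hq hc hc2 (k := k) (Matrix.transvection 0 1 (1 : F))
    (Matrix.det_transvection_of_ne _ _ (by simp) _) (fun a ha => by
      have := congrFun (congrFun ha 0) 1
      simp [Matrix.transvection] at this)
  exact ⟨y, h1, h3⟩

theorem MReg.exists_commute_det (hq : 4 ≤ Fintype.card F) (hc : c ≠ 0) (hc2 : c * c ≠ 1)
    {A : Matrix (Fin (k + 2)) (Fin (k + 2)) F} (h : MReg c k A) {d : F} (hd : d ≠ 0) :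
    ∃ Z : Matrix (Fin (k + 2)) (Fin (k + 2)) F, Z.det = d ∧ Z * A = A * Z := by
  obtain ⟨A₀, h₀, hdf⟩ := exists_mReg hq hc hc2 k
  obtain ⟨e, he⟩ := Regular.IsReg.intertwine h₀ h hc hc2
  obtain ⟨Q, -, hQ⟩ := (hdf.conj e he) d hd
  refine ⟨(Matrix.toLinAlgEquiv' : Matrix _ _ F ≃ₐ[F] Module.End F (Fin (k + 2) → F)).symm
    (aeval (Matrix.toLinAlgEquiv' A) Q), ?_, ?_⟩
  · rw [← hQ]
    exact LinearMap.det_toMatrix' _
  · apply (Matrix.toLinAlgEquiv' : Matrix _ _ F ≃ₐ[F] Module.End F (Fin (k + 2) → F)).injective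
    rw [map_mul, map_mul, AlgEquiv.apply_symm_apply]
    nth_rewrite 2 [← aeval_X (R := F) (Matrix.toLinAlgEquiv' A)]
    nth_rewrite 3 [← aeval_X (R := F) (Matrix.toLinAlgEquiv' A)]
    rw [← map_mul, ← map_mul, mul_comm]

/-- Two regular matrices are conjugate by a matrix of any prescribed nonzero determinant. -/
theorem MReg.similar_det (hq : 4 ≤ Fintype.card F) (hc : c ≠ 0) (hc2 : c * c ≠ 1)
    {A B : Matrix (Fin (k + 2)) (Fin (k + 2)) F} (hA : MReg c k A) (hB : MReg c k B) {d : F} (hd : d ≠ 0) :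
    ∃ P : Matrix (Fin (k + 2)) (Fin (k + 2)) F, P.det = d ∧ P * A = B * P := by
  obtain ⟨P, hP, hPA⟩ := hA.similar hB hc hc2
  obtain ⟨Z, hZ, hZA⟩ := hA.exists_commute_det hq hc hc2 (div_ne_zero hd hP)
  refine ⟨P * Z, by rw [det_mul, hZ, mul_div_cancel₀ _ hP], ?_⟩
  rw [Matrix.mul_assoc, hZA, ← Matrix.mul_assoc, hPA, Matrix.mul_assoc]

end Cfsg.Agent.Thompson
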