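import Cfsg.Agent.Lib.Thompson.UnipPair

/-!
A matrix of determinant one with top left entry one is a product of two conjugates of a Jordan block.
-/

set_option autoImplicit false

open Module Polynomial Matrix

namespace Cfsg.Agent.Thompson.UnipMatrix

open Cfsg.Agent.Thompson.UnipPair Cfsg.Agent.Commutator

universe u

variable {F : Type u} [Field F] {n : ℕ}

/-- A regular unipotent matrix. -/
def MRU (M : Matrix (Fin n) (Fin n) F) : Prop := RU (Matrix.toLinAlgEquiv' M : End F (Fin n → F))

/-- The Jordan block. -/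
def jordan (n : ℕ) (F : Type u) [Field F] : Matrix (Fin n) (Fin n) F :=
  Matrix.of fun i j => if i = j ∨ i.val + 1 = j.val then 1 else 0

/-- Upper unitriangular. -/
def UpperU (M : Matrix (Fin n) (Fin n) F) : Prop := (∀ i j, j < i → M i j = 0) ∧ ∀ i, M i i = 1

theorem upperU_jordan : UpperU (jordan n F) := by
  refine ⟨fun i j h => ?_, fun i => by simp [jordan]⟩
  have : j.val < i.val := h
  simp only [jordan, Matrix.of_apply]
  rw [if_neg]
  rintro (rfl | h') <;> omega

theorem UpperU.det_eq_one {M : Matrix (Fin n) (Fin n) F} (h : UpperU M) : M.det = 1 := by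
  rw [Matrix.det_of_upperTriangular (fun i j hij => h.1 i j hij)]
  exact Finset.prod_eq_one fun i _ => h.2 i

theorem charpoly_upperU {M : Matrix (Fin n) (Fin n) F} (h : UpperU M) :
    M.charpoly = (Polynomial.X - C 1) ^ n := by
  rw [Matrix.charpoly_of_upperTriangular M (fun i j hij => h.1 i j hij)]
  simp [h.2]

theorem nilp_of_charpoly {M : Matrix (Fin n) (Fin n) F} (h : M.charpoly = (Polynomial.X - C 1) ^ n) :
    (Matrix.toLinAlgEquiv' M - 1 : End F (Fin n → F)) ^ finrank F (Fin n → F) = 0 := by
  rw [Module.finrank_fin_fun, ← map_one (Matrix.toLinAlgEquiv' (n := Fin n) (R := F)), ← map_sub, ← map_pow]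
  have := Matrix.aeval_self_charpoly M
  simp only [h, map_pow, map_sub, aeval_X, aeval_C, map_one] at this
  rw [this, map_zero]

theorem mru_of_upper {M : Matrix (Fin n) (Fin n) F} (h : UpperU M)
    (hs : ∀ i j : Fin n, i.val + 1 = j.val → M i j ≠ 0) : MRU M := by
  refine ⟨nilp_of_charpoly (charpoly_upperU h), ?_⟩
  rcases Nat.eq_zero_or_pos n with rfl | hn
  · exact (Submodule.finrank_le _).trans (by simp)
  set i0 : Fin n := ⟨0, hn⟩
  refine (LinearMap.finrank_le_finrank_of_injective
    (f := (LinearMap.proj i0).comp (LinearMap.ker (Matrix.toLinAlgEquiv' M - 1 : End F (Fin n → F))).subtype)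
    ?_).trans (le_of_eq (Module.finrank_self F))
  rw [injective_iff_map_eq_zero]
  intro x hx
  have hx0 : (x : Fin n → F) i0 = 0 := hx
  have h0 := LinearMap.mem_ker.1 x.2
  rw [LinearMap.sub_apply, Module.End.one_apply, sub_eq_zero, Matrix.toLinAlgEquiv'_apply] at h0
  have key : ∀ k, ∀ j : Fin n, n ≤ j.val + k → 0 < j.val → (x : Fin n → F) j = 0 := by
    intro k
    induction k with
    | zero => intro j hj; exact absurd j.2 (by omega)
    | succ k ih =>
      intro j hj hj0
      obtain ⟨i, hi⟩ : ∃ i : Fin n, i.val + 1 = j.val := ⟨⟨j.val - 1, by omega⟩, by simp; omega⟩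
      have e := congrFun h0 i
      rw [Matrix.mulVec, dotProduct, Finset.sum_eq_add (a := i) (b := j) (fun he => by rw [he] at hi; omega)] at e
      · rw [h.2, one_mul, add_eq_left, mul_eq_zero] at e
        exact e.resolve_left (hs i j hi)
      · intro m _ hm
        have hmi : m.val ≠ i.val := fun he => hm.1 (Fin.ext he)
        have hmj : m.val ≠ j.val := fun he => hm.2 (Fin.ext he)
        rcases Nat.lt_or_ge m.val i.val with hlt | hge
        · rw [h.1 i m hlt, zero_mul]
        · rw [ih m (by omega) (by omega), mul_zero]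
      · exact fun h => absurd (Finset.mem_univ _) h
      · exact fun h => absurd (Finset.mem_univ _) h
  apply Subtype.ext
  funext j
  rcases Nat.eq_zero_or_pos j.val with hj | hj
  · rw [show j = i0 from Fin.ext hj]; exact hx0
  · exact key n j (by omega) hj

theorem mru_jordan : MRU (jordan n F) := by
  refine mru_of_upper upperU_jordan fun i j h => ?_
  simp [jordan, h]

theorem MRU.transpose {M : Matrix (Fin n) (Fin n) F} (h : MRU M) : MRU Mᵀ := by
  have hT : (Matrix.toLinAlgEquiv' Mᵀ - 1 : End F (Fin n → F)) = Matrix.toLin' (M - 1)ᵀ := by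
    rw [Matrix.transpose_sub, Matrix.transpose_one, map_sub, Matrix.toLin'_one]
    rfl
  have hM : (Matrix.toLinAlgEquiv' M - 1 : End F (Fin n → F)) = Matrix.toLin' (M - 1) := by
    rw [map_sub, Matrix.toLin'_one]
    rfl
  refine ⟨?_, ?_⟩
  · have h1 : (Matrix.toLinAlgEquiv' ((M - 1) ^ finrank F (Fin n → F)) : End F (Fin n → F)) = 0 := by
      rw [map_pow, map_sub, map_one]; exact h.nilp
    have h2 : (M - 1) ^ finrank F (Fin n → F) = 0 :=
      (map_eq_zero_iff _ (Matrix.toLinAlgEquiv' (n := Fin n) (R := F)).injective).1 h1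
    rw [← map_one (Matrix.toLinAlgEquiv' (n := Fin n) (R := F)), ← map_sub, ← map_pow,
      show Mᵀ - 1 = (M - 1)ᵀ by simp, ← Matrix.transpose_pow, h2, Matrix.transpose_zero, map_zero]
  · have h1 := (Matrix.toLin' (M - 1)).finrank_range_add_finrank_ker
    have h2 := (Matrix.toLin' (M - 1)ᵀ).finrank_range_add_finrank_ker
    have h3 := Matrix.rank_transpose (M - 1)
    have h4 := h.ker_le
    rw [hM] at h4
    rw [hT]
    have e1 : finrank F (LinearMap.range (Matrix.toLin' (M - 1)ᵀ)) =
        finrank F (LinearMap.range (Matrix.toLin' (M - 1))) := h3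
    omega

/-- Lower unitriangular with nonzero subdiagonal. -/
theorem mru_of_lower {M : Matrix (Fin n) (Fin n) F} (h : UpperU Mᵀ)
    (hs : ∀ i j : Fin n, i.val + 1 = j.val → M j i ≠ 0) : MRU M := by
  have := (mru_of_upper h fun i j hij => hs i j hij).transpose
  rwa [Matrix.transpose_transpose] at this

theorem exists_conj {p : Matrix (Fin n) (Fin n) F} (h : MRU p) :
    ∃ S : Matrix (Fin n) (Fin n) F, IsUnit S.det ∧ p = S * jordan n F * S⁻¹ := by
  obtain ⟨e, he⟩ := RU.intertwine (mru_jordan (n := n) (F := F)) h rfl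
  have hS : IsUnit (LinearMap.toMatrix' (e : (Fin n → F) →ₗ[F] Fin n → F)).det := by
    rw [LinearMap.det_toMatrix']; exact e.isUnit_det'
  refine ⟨LinearMap.toMatrix' (e : (Fin n → F) →ₗ[F] Fin n → F), hS, ?_⟩
  have key : LinearMap.toMatrix' (e : (Fin n → F) →ₗ[F] Fin n → F) * jordan n F =
      p * LinearMap.toMatrix' (e : (Fin n → F) →ₗ[F] Fin n → F) := by
    apply (Matrix.toLinAlgEquiv' : Matrix _ _ F ≃ₐ[F] End F (Fin n → F)).injective
    rw [map_mul, map_mul]
    have h1 : (Matrix.toLinAlgEquiv' (LinearMap.toMatrix' (e : (Fin n → F) →ₗ[F] Fin n → F)) :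
        End F (Fin n → F)) = (e : (Fin n → F) →ₗ[F] Fin n → F) := Matrix.toLin'_toMatrix' _
    rw [h1]
    exact LinearMap.ext he
  rw [key, Matrix.mul_assoc, Matrix.mul_nonsing_inv _ hS, Matrix.mul_one]

theorem MRU.conj_mat {p : Matrix (Fin n) (Fin n) F} (h : MRU p) (e : (Fin n → F) ≃ₗ[F] (Fin n → F)) :
    MRU (LinearMap.toMatrix' (e.conj (Matrix.toLinAlgEquiv' p : End F (Fin n → F)))) := by
  unfold MRU
  rw [show (Matrix.toLinAlgEquiv' (LinearMap.toMatrix' (e.conj (Matrix.toLinAlgEquiv' p : End F (Fin n → F)))) :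
    End F (Fin n → F)) = e.conj (Matrix.toLinAlgEquiv' p : End F (Fin n → F)) from Matrix.toLin'_toMatrix' _]
  exact RU.conj h e

variable [Fintype F]

/-- An upper unitriangular matrix is a product of two regular ones. -/
theorem pair_of_upper (hq : 3 ≤ Fintype.card F) {U : Matrix (Fin n) (Fin n) F} (hU : UpperU U) :
    ∃ p r, U = p * r ∧ MRU p ∧ MRU r := by
  classical
  have hc : ∀ a : F, ∃ c : F, c ≠ 0 ∧ c ≠ a := fun a => by
    obtain ⟨c, -, hc⟩ := Finset.exists_mem_notMem_of_card_lt_card (s := ({0, a} : Finset F))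
      (t := (Finset.univ : Finset F)) (lt_of_le_of_lt Finset.card_le_two (by rw [Finset.card_univ]; omega))
    simp only [Finset.mem_insert, Finset.mem_singleton, not_or] at hc
    exact ⟨c, hc⟩
  choose cf hcf using hc
  let p : Matrix (Fin n) (Fin n) F :=
    Matrix.of fun i j => if i = j then 1 else if i.val + 1 = j.val then cf (U i j) else 0
  have hp : UpperU p := by
    refine ⟨fun i j h => ?_, fun i => by simp [p]⟩
    have h' : j.val < i.val := h
    simp only [p, Matrix.of_apply]
    rw [if_neg (by rintro rfl; omega), if_neg (by omega)]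
  have hpu : IsUnit p.det := by rw [hp.det_eq_one]; exact isUnit_one
  have htri : BlockTriangular p⁻¹ id := by
    haveI := p.invertibleOfIsUnitDet hpu
    exact Matrix.blockTriangular_inv_of_blockTriangular (fun i j hij => hp.1 i j hij)
  have hr0 : BlockTriangular (p⁻¹ * U) id := htri.mul (fun i j hij => hU.1 i j hij)
  have hUeq : U = p * (p⁻¹ * U) := by rw [← Matrix.mul_assoc, Matrix.mul_nonsing_inv _ hpu, Matrix.one_mul]
  set r := p⁻¹ * U
  have hdiag : ∀ i, r i i = 1 := by
    intro i
    have e := congrFun (congrFun hUeq i) i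
    rw [Matrix.mul_apply, Finset.sum_eq_single i, hU.2, hp.2, one_mul] at e
    · exact e.symm
    · intro m _ hm
      rcases lt_or_gt_of_ne hm with h | h
      · rw [hp.1 i m h, zero_mul]
      · rw [hr0 h, mul_zero]
    · exact fun h => absurd (Finset.mem_univ _) h
  refine ⟨p, r, hUeq, mru_of_upper hp fun i j hij => ?_, mru_of_upper ⟨fun i j hij => hr0 hij, hdiag⟩ fun i j hij hz => ?_⟩
  · have : i ≠ j := fun h => by rw [h] at hij; omega
    simp [p, this, hij, (hcf (U i j)).1]
  · have hne : i ≠ j := fun h => by rw [h] at hij; omega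
    have e := congrFun (congrFun hUeq i) j
    rw [Matrix.mul_apply, Finset.sum_eq_add (a := i) (b := j) hne, hp.2, one_mul, hdiag, mul_one, hz, zero_add] at e
    · simp [p, hne, hij] at e
      exact (hcf (U i j)).2 e.symm
    · intro m _ hm
      have h1 : m.val ≠ i.val := fun he => hm.1 (Fin.ext he)
      have h2 : m.val ≠ j.val := fun he => hm.2 (Fin.ext he)
      rcases Nat.lt_or_ge m.val i.val with h | h
      · rw [hp.1 i m h, zero_mul]
      · rw [hr0 (show j < m from Fin.lt_def.2 (by omega)), mul_zero]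
    · exact fun h => absurd (Finset.mem_univ _) h
    · exact fun h => absurd (Finset.mem_univ _) h

/-- **The covering property.** -/
theorem exists_pair (hq : 5 ≤ Fintype.card F) (hn : 2 ≤ n) (M : Matrix (Fin n) (Fin n) F) (hd : M.det = 1)
    (h00 : M ⟨0, by omega⟩ ⟨0, by omega⟩ = 1) : ∃ p r, M = p * r ∧ MRU p ∧ MRU r := by
  classical
  set g : End F (Fin n → F) := Matrix.toLinAlgEquiv' M with hg
  set N := g - LinearMap.id with hN
  have hdet : LinearMap.det g = 1 := (LinearMap.det_toLin' M).trans hd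
  have hfr : finrank F (Fin n → F) = n := Module.finrank_fin_fun F
  by_cases hr : 2 ≤ finrank F (LinearMap.range N)
  · have hns : ∀ a : F, g ≠ a • LinearMap.id := by
      intro a ha
      have hM : M = a • 1 := by
        apply (Matrix.toLinAlgEquiv' : Matrix _ _ F ≃ₐ[F] End F (Fin n → F)).injective
        rw [map_smul, map_one]
        exact ha
      rw [hM] at h00
      simp at h00
      rw [hN, ha, h00, one_smul, sub_self, LinearMap.range_zero, finrank_bot] at hr
      omega
    have hadm : Adm g := by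
      refine Or.inr ⟨hns, ?_⟩
      rcases eq_or_lt_of_le hn with h2 | h3
      · refine Or.inl ⟨by omega, fun ht => ?_⟩
        obtain ⟨-, hCH⟩ := cayley_two g (by omega) hdet
        have hNN : LinearMap.range N ≤ LinearMap.ker N := by
          rintro _ ⟨x, rfl⟩
          rw [LinearMap.mem_ker, hN]
          simp only [LinearMap.sub_apply, LinearMap.id_apply, map_sub, hCH, ht, two_smul]
          abel
        have := Submodule.finrank_mono hNN
        have := N.finrank_range_add_finrank_ker
        omega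
      · exact Or.inr ⟨by omega, hr⟩
    haveI : Nonempty (Fin n) := ⟨⟨0, by omega⟩⟩
    obtain ⟨X, hX⟩ := exists_ne (0 : Fin n → F)
    obtain ⟨Y, hY⟩ := Module.Projective.exists_dual_ne_zero F hX
    obtain ⟨l, u, hgl, hl, hu, -, -⟩ := split_all hq (n - 1) (Fin n → F) g (by omega) hdet hadm X Y hX
      (fun h => hY (by rw [h]; rfl))
    refine ⟨LinearMap.toMatrix' l, LinearMap.toMatrix' u, ?_, ?_, ?_⟩
    · apply (Matrix.toLinAlgEquiv' : Matrix _ _ F ≃ₐ[F] End F (Fin n → F)).injective
      rw [map_mul, ← hg, hgl]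
      exact (congrArg₂ (· * ·) (Matrix.toLin'_toMatrix' l) (Matrix.toLin'_toMatrix' u)).symm
    · unfold MRU; rw [show (Matrix.toLinAlgEquiv' (LinearMap.toMatrix' l) : End F (Fin n → F)) = l from
        Matrix.toLin'_toMatrix' l]; exact hl
    · unfold MRU; rw [show (Matrix.toLinAlgEquiv' (LinearMap.toMatrix' u) : End F (Fin n → F)) = u from
        Matrix.toLin'_toMatrix' u]; exact hu
  rcases Nat.eq_zero_or_pos (finrank F (LinearMap.range N)) with h0 | h1
  · have hg1 : g = 1 := by
      rw [Submodule.finrank_eq_zero, LinearMap.range_eq_bot, hN, sub_eq_zero] at h0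
      exact h0
    have hM : M = 1 := (Matrix.toLinAlgEquiv' : Matrix _ _ F ≃ₐ[F] End F (Fin n → F)).injective
      (by rw [map_one]; exact hg1)
    exact hM ▸ pair_of_upper (by omega) ⟨fun i j h => Matrix.one_apply_ne (ne_of_gt h), fun i => Matrix.one_apply_eq i⟩
  -- a transvection
  obtain ⟨z, hz⟩ : ∃ z, N z ≠ 0 := by
    by_contra hall
    push Not at hall
    rw [show LinearMap.range N = ⊥ from LinearMap.range_eq_bot.2 (LinearMap.ext hall), finrank_bot] at h1
    omega
  set u := N z with hu
  have hspan : LinearMap.range N = Submodule.span F {u} :=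
    (Submodule.eq_of_le_of_finrank_le ((Submodule.span_singleton_le_iff_mem _ _).2 (LinearMap.mem_range_self N z))
      (by rw [finrank_span_singleton hz]; omega)).symm
  obtain ⟨ψ, hψ⟩ : ∃ ψ : Dual F (Fin n → F), ψ u = 1 := by
    obtain ⟨ψ, hψ⟩ := Module.Projective.exists_dual_ne_zero F hz
    exact ⟨(ψ u)⁻¹ • ψ, by simp [hψ]⟩
  set φ0 := ψ.comp N with hφ0d
  have hNf : ∀ x, N x = φ0 x • u := fun x => by
    obtain ⟨a, ha⟩ := Submodule.mem_span_singleton.1 (hspan.le (LinearMap.mem_range_self N x))
    rw [hφ0d, LinearMap.comp_apply, ← ha, map_smul, hψ, smul_eq_mul, mul_one]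
  have hgeq : g = LinearMap.transvection φ0 u := LinearMap.ext fun x => by
    rw [LinearMap.transvection.apply, ← hNf, hN]
    simp
  have hφu : φ0 u = 0 := by
    rwa [hgeq, LinearMap.transvection.det, add_eq_left] at hdet
  have hφ0 : φ0 ≠ 0 := fun h0 => hz (by rw [hu, hNf, h0, LinearMap.zero_apply, zero_smul])
  set i0 : Fin n := ⟨0, by omega⟩
  set i1 : Fin n := ⟨1, by omega⟩
  have h01 : i0 ≠ i1 := by simp [i0, i1]
  have hU : UpperU (Matrix.transvection i0 i1 (1 : F)) := by
    refine ⟨fun i j h => ?_, fun i => ?_⟩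
    · rw [Matrix.transvection, Matrix.add_apply, Matrix.one_apply_ne (ne_of_gt h), zero_add,
        Matrix.single_apply, if_neg]
      rintro ⟨rfl, rfl⟩
      exact absurd h (by simp [i0, i1, Fin.lt_def])
    · rw [Matrix.transvection, Matrix.add_apply, Matrix.one_apply_eq, Matrix.single_apply, if_neg, add_zero]
      rintro ⟨h, h'⟩
      exact h01 (h.trans h'.symm)
  obtain ⟨p, r, hpr, hp, hr'⟩ := pair_of_upper (by omega) hU
  obtain ⟨e, he1, he2⟩ := Regular.exists_pair_equiv (V := Fin n → F) (u := Pi.single i0 (1 : F)) (u' := u)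
    (φ := LinearMap.proj i1) (φ' := φ0) (fun h => by simpa using congrFun h i0) hz
    (fun h => by simpa using LinearMap.congr_fun h (Pi.single i1 1)) hφ0 (by simp [h01.symm]) hφu
  refine ⟨_, _, ?_, hp.conj_mat e, hr'.conj_mat e⟩
  apply (Matrix.toLinAlgEquiv' : Matrix _ _ F ≃ₐ[F] End F (Fin n → F)).injective
  rw [map_mul, ← hg, hgeq]
  simp only [show ∀ f : End F (Fin n → F), (Matrix.toLinAlgEquiv' (LinearMap.toMatrix' f) : End F (Fin n → F)) = f
    from fun f => Matrix.toLin'_toMatrix' f]
  refine LinearMap.ext fun x => ?_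
  obtain ⟨x, rfl⟩ := e.surjective x
  simp only [Module.End.mul_apply, LinearEquiv.conj_apply_apply, LinearEquiv.symm_apply_apply,
    LinearMap.transvection.apply, he2]
  rw [← Module.End.mul_apply, ← map_mul, ← hpr, Matrix.toLinAlgEquiv'_apply, Matrix.transvection,
    Matrix.add_mulVec, Matrix.one_mulVec, map_add, Matrix.single_mulVec, ← he1, ← map_smul]
  congr 2
  funext j
  simp [Pi.single_apply, Pi.smul_apply, Function.update_apply]

end Cfsg.Agent.Thompson.UnipMatrix
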