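import Cfsg.Agent.Lib.Commutator.Regular

/-!
Sourour's factorisation, unipotent case: over at least five elements a matrix of determinant one whose
top left entry is one is a product of two regular unipotent matrices.
-/

set_option autoImplicit false

open Module Submodule Polynomial

namespace Cfsg.Agent.Thompson.UnipPair

open Cfsg.Agent.Commutator

universe u

variable {F : Type u} [Field F] {V W : Type u} [AddCommGroup V] [Module F V] [FiniteDimensional F V]
  [AddCommGroup W] [Module F W] [FiniteDimensional F W]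

/-- A regular unipotent operator. -/
structure RU (u : End F V) : Prop where
  nilp : (u - 1) ^ finrank F V = 0
  ker_le : finrank F (LinearMap.ker (u - 1)) ≤ 1

theorem RU.intertwine {f : End F V} {f' : End F W} (h : RU f) (h' : RU f') (hd : finrank F V = finrank F W) :
    ∃ e : V ≃ₗ[F] W, ∀ x, e (f x) = f' (e x) := by
  obtain ⟨e, he⟩ := Regular.nilp_intertwine _ _ hd ⟨_, h.nilp⟩ ⟨_, h'.nilp⟩ h.ker_le h'.ker_le
  refine ⟨e, fun x => ?_⟩
  have := he x
  rw [LinearMap.sub_apply, LinearMap.sub_apply, map_sub, Module.End.one_apply, Module.End.one_apply] at this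
  exact sub_left_inj.1 this

theorem RU.conj {u : End F V} (h : RU u) (e : V ≃ₗ[F] W) : RU (e.conj u) := by
  have h1 : e.conj u - 1 = e.conjAlgEquiv F (u - 1) := by
    refine LinearMap.ext fun x => ?_
    simp [LinearEquiv.conj_apply_apply]
  refine ⟨?_, ?_⟩
  · rw [h1, ← map_pow, ← e.finrank_eq, h.nilp, map_zero]
  · have : LinearMap.ker (e.conj u - 1) = (LinearMap.ker (u - 1)).map (e : V →ₗ[F] W) := by
      ext x
      rw [Submodule.mem_map_equiv, LinearMap.mem_ker, LinearMap.mem_ker, ← e.map_eq_zero_iff]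
      simp [LinearEquiv.conj_apply_apply]
    rw [this, LinearEquiv.finrank_map_eq]
    exact h.ker_le

/-- The invariant: a factorisation adapted to the pair `(X, Y)`. -/
def Split (g : End F V) (X : V) (Y : Dual F V) : Prop :=
  ∃ l u : End F V, g = l * u ∧ RU l ∧ RU u ∧ X ∉ LinearMap.range (l - 1) ∧ ∃ w, u w = w ∧ Y w ≠ 0

theorem split_one (g : End F V) (hn : finrank F V = 1) (hd : LinearMap.det g = 1) {X : V} (hX : X ≠ 0)
    {Y : Dual F V} (hY : Y ≠ 0) : Split g X Y := by
  obtain ⟨v, hv, hspan⟩ := finrank_eq_one_iff'.1 hn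
  obtain ⟨a, ha⟩ := hspan (g v)
  have hg : g = a • LinearMap.id := LinearMap.ext fun x => by
    obtain ⟨b, rfl⟩ := hspan x
    rw [map_smul, ← ha, LinearMap.smul_apply, LinearMap.id_apply, smul_smul, smul_smul, mul_comm]
  rw [hg, LinearMap.det_smul, LinearMap.det_id, hn, pow_one, mul_one] at hd
  rw [hd, one_smul] at hg
  have h1 : RU (1 : End F V) := ⟨by rw [sub_self, hn, pow_one], by
    rw [sub_self, LinearMap.ker_zero, finrank_top, hn]⟩
  refine ⟨1, 1, by rw [one_mul, hg]; rfl, h1, h1, ?_, ?_⟩
  · rw [sub_self, LinearMap.range_zero, Submodule.mem_bot]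
    exact hX
  · obtain ⟨w, hw⟩ : ∃ w, Y w ≠ 0 := by
      by_contra h; push Not at h; exact hY (LinearMap.ext h)
    exact ⟨w, rfl, hw⟩

/-- The inductive step. -/
theorem split_step (g : End F V) (v : V) (φ : Dual F V) (hv : φ v = 1) (hgv : φ (g v) = 1) {X : V}
    {Y : Dual F V} (hX : φ X ≠ 0) (hY : Y v ≠ 0)
    (h : Split (schur v φ hv g) (proj v φ hv (g v)) ((φ.comp g).comp (LinearMap.ker φ).subtype)) :
    Split g X Y := by
  set Y1 := (φ.comp g).comp (LinearMap.ker φ).subtype
  set X1 := proj v φ hv (g v) with hX1d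
  set P := proj v φ hv with hP
  obtain ⟨l1, u1, hg1, hl1, hu1, hX1, w1, hw1, hY1⟩ := h
  have hd : finrank F (LinearMap.ker φ) + 1 = finrank F V :=
    Module.Dual.finrank_ker_add_one_of_ne_zero (f := φ) (fun h => by simp [h] at hv)
  let l : End F V := φ.smulRight (g v) + (LinearMap.ker φ).subtype.comp (l1.comp P)
  let u : End F V := tri v φ hv Y1 u1
  have hl : ∀ z, l z = φ z • g v + (l1 (P z) : V) := fun z => rfl
  have hu : ∀ z, u z = (φ z + Y1 (P z)) • v + (u1 (P z) : V) := fun z => rfl
  have hgd : g v = v + (X1 : V) := by rw [hX1d, hP, proj_coe, hgv, one_smul]; abel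
  have hlN : ∀ z, (l - 1) z = ((φ z • X1 + (l1 - 1) (P z) : LinearMap.ker φ) : V) := fun z => by
    rw [LinearMap.sub_apply, hl, Module.End.one_apply, hgd, smul_add]
    conv_lhs => arg 2; rw [decomp v φ hv z]
    simp only [LinearMap.sub_apply, Module.End.one_apply, Submodule.coe_add, Submodule.coe_smul,
      Submodule.coe_sub, ← hP]
    abel
  have huN : ∀ z, (u - 1) z = Y1 (P z) • v + ((u1 - 1) (P z) : V) := fun z => by
    rw [LinearMap.sub_apply, hu, Module.End.one_apply, add_smul]
    conv_lhs => arg 2; rw [decomp v φ hv z]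
    simp only [LinearMap.sub_apply, Module.End.one_apply, Submodule.coe_sub, ← hP]
    abel
  have hPc : ∀ r : LinearMap.ker φ, P (r : V) = r := fun r => proj_ker v φ hv r
  refine ⟨l, u, ?_, ⟨?_, ?_⟩, ⟨?_, ?_⟩, ?_, v, ?_, hY⟩
  · refine LinearMap.ext fun z => ?_
    rw [Module.End.mul_apply, hl, show φ (u z) = φ z + Y1 (P z) from phi_tri v φ hv Y1 u1 z,
      show P (u z) = u1 (P z) from proj_tri v φ hv Y1 u1 z,
      show l1 (u1 (P z)) = schur v φ hv g (P z) by rw [hg1]; rfl, schur_coe v φ hv g hgv]
    conv_lhs => rw [decomp v φ hv z, map_add, map_smul]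
    simp only [Y1, LinearMap.comp_apply, Submodule.coe_subtype, add_smul, ← hP]
    abel
  · have key : ∀ (j : ℕ) (r : LinearMap.ker φ), ((l - 1) ^ j) (r : V) = (((l1 - 1) ^ j) r : LinearMap.ker φ) := by
      intro j
      induction j with
      | zero => intro r; rfl
      | succ j ih =>
        intro r
        rw [pow_succ, pow_succ, Module.End.mul_apply, Module.End.mul_apply, hlN,
          LinearMap.mem_ker.1 r.2, zero_smul, zero_add, hPc, ih]
    refine LinearMap.ext fun z => ?_
    rw [← hd, pow_succ, Module.End.mul_apply, hlN, key, hl1.nilp]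
    simp
  · refine le_trans (LinearMap.finrank_le_finrank_of_injective
      (f := LinearMap.codRestrict (LinearMap.ker (l1 - 1)) (P ∘ₗ (LinearMap.ker (l - 1)).subtype) ?_) ?_)
      hl1.ker_le
    · intro x
      have h0 := LinearMap.mem_ker.1 x.2
      rw [hlN, Submodule.coe_eq_zero] at h0
      have : φ (x : V) = 0 := by
        by_contra hne
        refine hX1 ⟨-(φ (x : V))⁻¹ • P (x : V), ?_⟩
        rw [map_smul, eq_neg_of_add_eq_zero_right h0]
        simp [smul_smul, hne]
      rw [this, zero_smul, zero_add] at h0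
      exact LinearMap.mem_ker.2 h0
    · rw [injective_iff_map_eq_zero]
      intro x hx
      have hx' : P (x : V) = 0 := congrArg Subtype.val hx
      have h0 := LinearMap.mem_ker.1 x.2
      rw [hlN, Submodule.coe_eq_zero, hx', map_zero, add_zero] at h0
      have hφ : φ (x : V) = 0 := by
        by_contra hne
        refine hX1 ?_
        rw [(smul_eq_zero.1 h0).resolve_left hne]
        exact zero_mem _
      apply Subtype.ext
      rw [decomp v φ hv (x : V), ← hP, hx', hφ]
      simp
  · have key : ∀ j : ℕ, ∀ z, ∃ a : F, ((u - 1) ^ j) z = a • v + (((u1 - 1) ^ j) (P z) : V) := by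
      intro j
      induction j with
      | zero => intro z; exact ⟨φ z, by simp only [pow_zero, Module.End.one_apply]; exact decomp v φ hv z⟩
      | succ j ih =>
        intro z
        obtain ⟨a, ha⟩ := ih z
        refine ⟨Y1 (((u1 - 1) ^ j) (P z)), ?_⟩
        rw [pow_succ', pow_succ', Module.End.mul_apply, Module.End.mul_apply, ha, huN, map_add, map_smul,
          show P v = 0 from proj_self v φ hv, smul_zero, zero_add, hPc]
    refine LinearMap.ext fun z => ?_
    obtain ⟨a, ha⟩ := key (finrank F (LinearMap.ker φ)) z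
    rw [← hd, pow_succ', Module.End.mul_apply, ha, hu1.nilp, huN, map_add, map_smul,
      show P v = 0 from proj_self v φ hv]
    simp
  · refine le_trans (Submodule.finrank_mono (t := span F {v}) fun x hx => ?_)
      ((finrank_span_le_card _).trans (by simp))
    have h0 := LinearMap.mem_ker.1 hx
    rw [huN] at h0
    have h1 : Y1 (P x) = 0 := by
      have := congrArg φ h0
      simpa [hv, LinearMap.mem_ker.1 ((u1 - 1) (P x)).2] using this
    rw [h1, zero_smul, zero_add, Submodule.coe_eq_zero] at h0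
    obtain ⟨b, hb⟩ : ∃ b : F, b • w1 = P x := by
      have hw0 : w1 ≠ 0 := fun h => hY1 (by rw [h, map_zero])
      have hle : span F {w1} ≤ LinearMap.ker (u1 - 1) := (span_singleton_le_iff_mem _ _).2 (by
        simp [hw1])
      have := Submodule.eq_of_le_of_finrank_le hle (by rw [finrank_span_singleton hw0]; exact hu1.ker_le)
      exact Submodule.mem_span_singleton.1 (this ▸ LinearMap.mem_ker.2 h0)
    rw [← hb, map_smul, smul_eq_mul] at h1
    rw [(mul_eq_zero.1 h1).resolve_right hY1, zero_smul] at hb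
    rw [decomp v φ hv x, ← hP, ← hb]
    simp only [Submodule.coe_zero, add_zero]
    exact Submodule.smul_mem _ _ (Submodule.mem_span_singleton_self v)
  · rintro ⟨z, hz⟩
    rw [hlN] at hz
    exact hX (by rw [← hz]; exact LinearMap.mem_ker.1 (Subtype.prop _))
  · rw [hu, hv, show P v = 0 from proj_self v φ hv, map_zero, map_zero, add_zero, one_smul,
      Submodule.coe_zero, add_zero]

theorem trace_schur (g : End F V) (v : V) (φ : Dual F V) (hv : φ v = 1) (hgv : φ (g v) = 1) :
    LinearMap.trace F _ (schur v φ hv g) = LinearMap.trace F V g - φ (g (g v)) := by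
  have h1 : LinearMap.trace F _ ((proj v φ hv).comp (g.comp (LinearMap.ker φ).subtype)) =
      LinearMap.trace F V g - 1 := by
    rw [LinearMap.trace_comp_comm', LinearMap.comp_assoc]
    have : (LinearMap.ker φ).subtype.comp (proj v φ hv) = LinearMap.id - φ.smulRight v :=
      LinearMap.ext fun z => proj_coe v φ hv z
    rw [this, LinearMap.comp_sub, LinearMap.comp_id, map_sub,
      show g.comp (φ.smulRight v) = φ.smulRight (g v) from LinearMap.ext fun z => by simp,
      LinearMap.trace_smulRight, hgv]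
  rw [schur, map_sub, h1, LinearMap.trace_smulRight]
  simp only [LinearMap.comp_apply, Submodule.coe_subtype, proj_coe, hgv, one_smul, map_sub]
  ring

theorem cayley_two (g : End F V) (hn : finrank F V = 2) (hd : LinearMap.det g = 1) :
    g.charpoly = Polynomial.X ^ 2 - C (LinearMap.trace F V g) * Polynomial.X + 1 ∧
      ∀ x, g (g x) = LinearMap.trace F V g • g x - x := by
  let b := (Module.finBasis F V).reindex (finCongr hn)
  have h : g.charpoly = Polynomial.X ^ 2 - C (LinearMap.trace F V g) * Polynomial.X + 1 := by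
    rw [← LinearMap.charpoly_toMatrix g b, Matrix.charpoly_fin_two, LinearMap.det_toMatrix, hd, C_1,
      LinearMap.trace_eq_matrix_trace F b]
  refine ⟨h, fun x => ?_⟩
  have h2 := LinearMap.congr_fun (h ▸ LinearMap.aeval_self_charpoly g) x
  simp only [map_add, map_sub, map_mul, map_pow, aeval_X, aeval_C, map_one, LinearMap.zero_apply,
    LinearMap.add_apply, LinearMap.sub_apply, Module.End.mul_apply, Module.algebraMap_end_apply,
    Module.End.one_apply, pow_two] at h2
  rw [sub_add_eq_add_sub, sub_eq_zero] at h2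
  exact eq_sub_of_add_eq h2

/-- From dimension two to dimension one. -/
theorem split_two [Fintype F] (hq : 4 ≤ Fintype.card F) (g : End F V) (hn : finrank F V = 2)
    (hd : LinearMap.det g = 1) (hns : ∀ a : F, g ≠ a • LinearMap.id) (ht : LinearMap.trace F V g ≠ 2)
    {X : V} (hX : X ≠ 0) {Y : Dual F V} (hY : Y ≠ 0) : Split g X Y := by
  classical
  obtain ⟨hch, hCH⟩ := cayley_two g hn hd
  set N := g - LinearMap.id with hN
  have hNinj : ∀ z, N z = 0 → z = 0 := by
    intro z hz
    by_contra hz0
    have h1 : g.charpoly.IsRoot 1 := (Module.End.hasEigenvalue_iff_isRoot_charpoly g 1).1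
      (Module.End.hasEigenvalue_of_hasEigenvector (x := z) ⟨by
        rw [Module.End.mem_eigenspace_iff, one_smul]; exact sub_eq_zero.1 hz, hz0⟩)
    simp [hch] at h1
    exact ht (by linear_combination -h1)
  obtain ⟨u, hu⟩ : ∃ u, Y u ≠ 0 := by
    by_contra h; push Not at h; exact hY (LinearMap.ext h)
  have hk1 := Module.Dual.finrank_ker_add_one_of_ne_zero (f := Y) hY
  obtain ⟨k, hk, hk0⟩ := Submodule.exists_mem_ne_zero_of_ne_bot (p := LinearMap.ker Y) (fun h => by
    rw [h, finrank_bot] at hk1; omega)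
  have hone : ∀ H : Submodule F V, H ≠ ⊤ → (Finset.univ.filter fun c : F => u + c • k ∈ H).card ≤ 1 := by
    intro H hH
    refine Finset.card_le_one.2 fun a ha b hb => ?_
    by_contra hab
    apply hH
    have h1 := sub_mem (Finset.mem_filter.1 ha).2 (Finset.mem_filter.1 hb).2
    rw [add_sub_add_left_eq_sub, ← sub_smul] at h1
    have hkH : k ∈ H := by
      have := H.smul_mem (a - b)⁻¹ h1
      rwa [smul_smul, inv_mul_cancel₀ (sub_ne_zero.2 hab), one_smul] at this
    have huH : u ∈ H := (add_mem_cancel_right (H.smul_mem a hkH)).1 (Finset.mem_filter.1 ha).2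
    refine eq_top_iff.2 (le_trans ?_ (sup_le ((span_singleton_le_iff_mem _ _).2 hkH)
      ((span_singleton_le_iff_mem _ _).2 huH) : span F {k} ⊔ span F {u} ≤ H))
    rw [Submodule.eq_top_of_finrank_eq (S := span F {k} ⊔ span F {u})]
    rw [finrank_sup_singleton, finrank_span_singleton hk0, hn]
    intro h
    obtain ⟨c, hc⟩ := Submodule.mem_span_singleton.1 h
    exact hu (by rw [← hc, map_smul, LinearMap.mem_ker.1 hk, smul_zero])
  set R := g.charpoly.roots.toFinset with hR
  have hRc : R.card ≤ 2 := by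
    refine (Multiset.toFinset_card_le _).trans ((Polynomial.card_roots' _).trans ?_)
    rw [LinearMap.charpoly_natDegree, hn]
  set T := Submodule.comap N (span F {X}) with hT
  have hTt : T ≠ ⊤ := by
    refine ne_top_of_finrank_lt ?_
    have h1 := finrank_comap_span_le N X
    have h2 : finrank F (LinearMap.range N) = finrank F V := LinearMap.finrank_range_of_inj
      ((injective_iff_map_eq_zero N).2 hNinj)
    rw [← hT, h2] at h1
    omega
  have hE : ∀ a : F, LinearMap.ker (g - a • LinearMap.id) ≠ ⊤ := fun a h =>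
    hns a (sub_eq_zero.1 (LinearMap.ker_eq_top.1 h))
  obtain ⟨c, -, hc⟩ : ∃ c ∈ (Finset.univ : Finset F), c ∉ (Finset.univ.filter fun c : F => u + c • k ∈ T) ∪
      R.biUnion fun a => Finset.univ.filter fun c : F => u + c • k ∈ LinearMap.ker (g - a • LinearMap.id) := by
    refine Finset.exists_mem_notMem_of_card_lt_card ?_
    refine lt_of_le_of_lt (Finset.card_union_le _ _) ?_
    have h1 := hone T hTt
    have h2 := (Finset.card_biUnion_le (s := R)
      (t := fun a => Finset.univ.filter fun c : F => u + c • k ∈ LinearMap.ker (g - a • LinearMap.id))).trans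
      (Finset.sum_le_card_nsmul R _ 1 fun a _ => hone _ (hE a))
    rw [smul_eq_mul, mul_one] at h2
    rw [Finset.card_univ]
    omega
  simp only [Finset.mem_union, Finset.mem_filter, Finset.mem_univ, true_and, Finset.mem_biUnion, not_or,
    not_exists, not_and] at hc
  obtain ⟨hcT, hcE⟩ := hc
  set v := u + c • k with hvd
  have hYv : Y v ≠ 0 := by rwa [hvd, map_add, map_smul, LinearMap.mem_ker.1 hk, smul_zero, add_zero]
  have hv0 : v ≠ 0 := fun h => hYv (by rw [h, map_zero])
  have hno : ∀ a : F, g v ≠ a • v := by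
    intro a ha
    refine hcE a ?_ (LinearMap.mem_ker.2 (by simp [ha]))
    rw [hR, Multiset.mem_toFinset, Polynomial.mem_roots g.charpoly_monic.ne_zero]
    exact (Module.End.hasEigenvalue_iff_isRoot_charpoly g a).1
      (Module.End.hasEigenvalue_of_hasEigenvector (x := v) ⟨Module.End.mem_eigenspace_iff.2 ha, hv0⟩)
  have hli := li_pair hno
  let b : Basis (Fin 2) F V := basisOfLinearIndependentOfCardEqFinrank hli (by simp [hn])
  have hb : ⇑b = ![v, g v] := coe_basisOfLinearIndependentOfCardEqFinrank _ _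
  obtain ⟨φ, hφ⟩ : ∃ φ : Dual F V, φ = b.constr F fun _ => (1 : F) := ⟨_, rfl⟩
  have hv : φ v = 1 := by
    have := Basis.constr_basis b F (fun _ => (1 : F)) 0
    rwa [← hφ, hb] at this
  have hgv : φ (g v) = 1 := by
    have := Basis.constr_basis b F (fun _ => (1 : F)) 1
    rwa [← hφ, hb] at this
  have hNv : g v - v ∈ LinearMap.ker φ := by simp [hv, hgv]
  have hker : LinearMap.ker φ = span F {g v - v} :=
    (Submodule.eq_of_le_of_finrank_le ((span_singleton_le_iff_mem _ _).2 hNv) (by
      rw [finrank_span_singleton (sub_ne_zero.2 fun h => hno 1 (by rw [one_smul]; exact h))]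
      have := Module.Dual.finrank_ker_add_one_of_ne_zero (f := φ) (fun h => by simp [h] at hv)
      omega)).symm
  have hφX : φ X ≠ 0 := by
    intro h
    obtain ⟨a, ha⟩ := Submodule.mem_span_singleton.1 (hker ▸ LinearMap.mem_ker.2 h)
    apply hcT
    rw [hT, Submodule.mem_comap, hN, LinearMap.sub_apply, LinearMap.id_apply]
    refine Submodule.mem_span_singleton.2 ⟨a⁻¹, ?_⟩
    have ha0 : a ≠ 0 := fun h0 => hX (by rw [← ha, h0, zero_smul])
    rw [← ha, smul_smul, inv_mul_cancel₀ ha0, one_smul]
  refine split_step g v φ hv hgv hφX hYv (split_one _ ?_ ((det_schur v φ hv g hgv).trans hd) ?_ ?_)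
  · have := Module.Dual.finrank_ker_add_one_of_ne_zero (f := φ) (fun h => by simp [h] at hv)
    omega
  · intro h
    have := congrArg Subtype.val h
    rw [proj_coe, hgv, one_smul, Submodule.coe_zero, sub_eq_zero] at this
    exact hno 1 (by rw [one_smul]; exact this)
  · intro h
    have h1 := LinearMap.congr_fun h ⟨g v - v, hNv⟩
    simp only [LinearMap.comp_apply, Submodule.coe_subtype, map_sub, hgv, LinearMap.zero_apply, hCH, map_smul,
      smul_eq_mul, mul_one, hv] at h1
    exact ht (by linear_combination h1)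

variable [Fintype F]

/-- From dimension three to dimension two. -/
theorem exists_step_three (hq : 5 ≤ Fintype.card F) (g : End F V) (hn : finrank F V = 3)
    (hd : LinearMap.det g = 1) (hns : ∀ a : F, g ≠ a • LinearMap.id)
    (hr : 2 ≤ finrank F (LinearMap.range (g - LinearMap.id))) {X : V} (hX : X ≠ 0) {Y : Dual F V} (hY : Y ≠ 0) :
    ∃ (v : V) (φ : Dual F V) (hv : φ v = 1), φ (g v) = 1 ∧ φ X ≠ 0 ∧ Y v ≠ 0 ∧
      proj v φ hv (g v) ≠ 0 ∧ (φ.comp g).comp (LinearMap.ker φ).subtype ≠ 0 ∧
      (∀ a : F, schur v φ hv g ≠ a • LinearMap.id) ∧ LinearMap.trace F _ (schur v φ hv g) ≠ 2 := by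
  classical
  haveI : Finite (Dual F V) := Module.finite_of_finite F
  set N := g - LinearMap.id with hN
  set r := finrank F (LinearMap.range N) with hr'
  obtain ⟨v, hYv, hXv, hno, hvim, -⟩ := exists_vec g hd hns (by omega) (by rw [if_neg (by omega)]; exact hr) X Y hY
  have hli := li_pair hno
  set W := span F (Set.range ![v, g v]) with hW
  have hWd : finrank F W = 2 := by rw [hW, finrank_span_eq_card hli, Fintype.card_fin]
  set A : Set (Dual F V) := {φ | φ v = 1 ∧ φ (g v) = 1}
  have hAge : Fintype.card F ≤ A.ncard := by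
    have := ncard_affine_ge v (g v) hli
    rwa [hn, pow_one] at this
  have onepoint : ∀ (S : Set (Dual F V)) (z : V) (c : F), z ∉ W → (∀ φ ∈ S, φ ∈ A ∧ φ z = c) → S.ncard ≤ 1 := by
    intro S z c hz hS
    have hU : finrank F ↥(W ⊔ span F {z}) = 3 := by rw [finrank_sup_singleton hz, hWd]
    have := ncard_le_of_eqOn S (W ⊔ span F {z}) (fun φ hφ ψ hψ y hy => by
      rw [hW, ← span_union] at hy
      refine LinearMap.eqOn_span (f := φ) (g := ψ) (fun x hx => ?_) hy
      rcases hx with ⟨i, rfl⟩ | rfl
      · fin_cases i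
        · exact (hS φ hφ).1.1.trans (hS ψ hψ).1.1.symm
        · exact (hS φ hφ).1.2.trans (hS ψ hψ).1.2.symm
      · exact (hS φ hφ).2.trans (hS ψ hψ).2.symm)
    rwa [hU, hn, Nat.sub_self, pow_zero] at this
  set B1 : Set (Dual F V) := {φ | φ ∈ A ∧ φ X = 0}
  set B2 : Set (Dual F V) := {φ | φ ∈ A ∧ ∀ z, φ (N z) = 0}
  set B4 : Set (Dual F V) := {φ | φ ∈ A ∧ φ (g (g v)) = LinearMap.trace F V g - 2}
  set Bs : Set (Dual F V) := {φ | φ ∈ A ∧ ∃ a : F, ∀ w, φ w = 0 → g w - φ (g w) • g v = a • w}
  have hginj : ∀ z, g z = 0 → z = 0 := LinearMap.ker_eq_bot'.1 (by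
    by_contra hk
    exact one_ne_zero (hd.symm.trans (LinearMap.det_eq_zero_iff_ker_ne_bot.2 hk)))
  have hbs : Bs.ncard ≤ 1 := by
    refine (Set.ncard_le_one (Set.toFinite _)).2 fun φ ⟨⟨hφv, hφg⟩, a, ha⟩ ψ ⟨⟨hψv, hψg⟩, b, hb⟩ => ?_
    exact scalar_unique g hginj v (by omega) hno φ ψ hφv hφg hψv hψg a b ha hb
  have hvW : v ∈ W := subset_span ⟨0, rfl⟩
  have hgvW : g v ∈ W := subset_span ⟨1, rfl⟩
  have hb1 : B1.ncard ≤ 1 := by
    by_cases hXW : X ∈ W
    · have : B1 = ∅ := Set.eq_empty_of_forall_notMem fun φ ⟨⟨h1, h2⟩, h3⟩ => by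
        rw [hW, Matrix.range_cons, Matrix.range_cons, Matrix.range_empty, Set.union_empty, ← Set.insert_eq] at hXW
        obtain ⟨a, b, hab⟩ := Submodule.mem_span_pair.1 hXW
        have h4 : a + b = 0 := by
          rw [← hab, map_add, map_smul, map_smul, h1, h2] at h3
          simpa using h3
        have h5 : X = b • (g v - v) := by
          rw [← hab, eq_neg_of_add_eq_zero_left h4, smul_sub, neg_smul]; abel
        rcases eq_or_ne b 0 with rfl | hb
        · exact hX (by rw [h5, zero_smul])
        · exact hXv (Submodule.mem_span_singleton.2 ⟨b⁻¹, by rw [h5, smul_smul, inv_mul_cancel₀ hb, one_smul]⟩)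
      simp [this]
    · exact onepoint _ X 0 hXW fun φ h => h
  have hrW : r < 3 → ¬ LinearMap.range N ≤ W := fun h3 hle => by
    have := Submodule.eq_of_le_of_finrank_le hle (by rw [hWd]; exact hr)
    exact hvim (by change r < _; omega) (this ▸ hvW)
  have hNW : ¬ LinearMap.range N ≤ W := fun hle => hrW (by
    have := Submodule.finrank_mono hle
    rw [hWd] at this
    change r < 3; omega) hle
  have hb2 : B2.ncard ≤ 1 := by
    obtain ⟨z, ⟨y, rfl⟩, hz⟩ := SetLike.not_le_iff_exists.1 hNW
    exact onepoint _ (N y) 0 hz fun φ h => ⟨h.1, h.2 y⟩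
  have hb4 : B4.ncard ≤ 1 := by
    by_cases hggW : g (g v) ∈ W
    swap
    · exact onepoint _ _ _ hggW fun φ h => h
    have : B4 = ∅ := Set.eq_empty_of_forall_notMem fun φ ⟨⟨h1, h2⟩, h3⟩ => hNW (by
      obtain ⟨e, he⟩ := exists_notMem (ne_top_of_finrank_lt (H := W) (by omega))
      have hli3 : LinearIndependent F ![v, g v, e] := by
        have h := (linearIndependent_fin_snoc (v := ![v, g v]) (x := e)).2 ⟨hli, he⟩
        rwa [show (Fin.snoc ![v, g v] e : Fin 3 → V) = ![v, g v, e] by funext i; fin_cases i <;> rfl] at h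
      let b : Basis (Fin 3) F V := basisOfLinearIndependentOfCardEqFinrank hli3 (by simp [hn])
      have hb : ⇑b = ![v, g v, e] := coe_basisOfLinearIndependentOfCardEqFinrank _ _
      set G := LinearMap.toMatrix b b g with hG
      have col : ∀ i j, G i j = b.repr (g (b j)) i := fun i j => by rw [hG, LinearMap.toMatrix_apply]
      have c0 : ∀ i, G i 0 = if i = 1 then 1 else 0 := fun i => by
        rw [col, show g (b 0) = b 1 by simp [hb], Basis.repr_self, Finsupp.single_apply]; simp [eq_comm]
      rw [hW, Matrix.range_cons, Matrix.range_cons, Matrix.range_empty, Set.union_empty, ← Set.insert_eq] at hggW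
      obtain ⟨α, β, hab⟩ := Submodule.mem_span_pair.1 hggW
      have c1 : ∀ i, G i 1 = if i = 0 then α else if i = 1 then β else 0 := fun i => by
        rw [col, show g (b 1) = α • b 0 + β • b 1 by simp [hb, hab]]
        fin_cases i <;> simp [Basis.repr_self, Finsupp.single_apply]
      have hdet : G.det = 1 := by rw [hG, LinearMap.det_toMatrix, hd]
      have htr : LinearMap.trace F V g = β + G 2 2 := by
        rw [LinearMap.trace_eq_matrix_trace F b, ← hG, Matrix.trace_fin_three, c0, c1]; simp
      rw [Matrix.det_fin_three] at hdet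
      simp [c0, c1] at hdet
      rw [← hab, map_add, map_smul, map_smul, h1, h2, htr] at h3
      simp only [smul_eq_mul, mul_one] at h3
      have ha1 : G 2 2 = 1 := by
        have : (G 2 2 - 1) ^ 2 = 0 := by linear_combination (-1) * hdet + (-(G 2 2)) * h3
        exact sub_eq_zero.1 (pow_eq_zero_iff two_ne_zero |>.1 this)
      rintro _ ⟨z, rfl⟩
      rw [← b.sum_repr z, Fin.sum_univ_three, map_add, map_add, map_smul, map_smul, map_smul]
      have hN0 : N (b 0) ∈ W := by simpa [hN, hb] using sub_mem hgvW hvW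
      have hN1 : N (b 1) ∈ W := by
        have : g (g v) ∈ W := hab ▸ add_mem (W.smul_mem _ hvW) (W.smul_mem _ hgvW)
        simpa [hN, hb] using sub_mem this hgvW
      have hN2 : N (b 2) ∈ W := by
        have e2 : g (b 2) = G 0 2 • b 0 + G 1 2 • b 1 + G 2 2 • b 2 := by
          conv_lhs => rw [← b.sum_repr (g (b 2)), Fin.sum_univ_three]
          rw [col, col, col]
        have : N (b 2) = G 0 2 • b 0 + G 1 2 • b 1 := by
          rw [hN, LinearMap.sub_apply, LinearMap.id_apply, e2, ha1, one_smul, add_sub_cancel_right]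
        rw [this]
        simp only [hb]
        exact add_mem (W.smul_mem _ hvW) (W.smul_mem _ hgvW)
      exact add_mem (add_mem (W.smul_mem _ hN0) (W.smul_mem _ hN1)) (W.smul_mem _ hN2))
    simp [this]
  obtain ⟨φ, hφA, hφ⟩ : ∃ φ, φ ∈ A ∧ φ ∉ B1 ∪ B2 ∪ B4 ∪ Bs :=
    Set.exists_mem_notMem_of_ncard_lt_ncard (by
      have e1 := Set.ncard_union_le (B1 ∪ B2 ∪ B4) Bs
      have e2 := Set.ncard_union_le (B1 ∪ B2) B4
      have e3 := Set.ncard_union_le B1 B2
      omega) (Set.toFinite _)
  simp only [Set.mem_union, not_or] at hφ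
  obtain ⟨⟨⟨h1, h2⟩, h4⟩, hs⟩ := hφ
  have hv := hφA.1
  have hgv := hφA.2
  refine ⟨v, φ, hv, hgv, fun h => h1 ⟨hφA, h⟩, hYv, fun h => ?_, fun h => h2 ⟨hφA, fun z => ?_⟩,
    fun a ha => hs ⟨hφA, a, fun w hw => ?_⟩, fun h => h4 ⟨hφA, ?_⟩⟩
  · have := congrArg Subtype.val h
    rw [proj_coe, hgv, one_smul, Submodule.coe_zero, sub_eq_zero] at this
    exact hno 1 (by rw [one_smul]; exact this)
  · have h5 := LinearMap.congr_fun h (proj v φ hv z)
    simp only [LinearMap.comp_apply, Submodule.coe_subtype, LinearMap.zero_apply] at h5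
    conv_lhs => rw [decomp v φ hv z]
    rw [map_add, map_smul, hN, LinearMap.sub_apply, LinearMap.sub_apply, LinearMap.id_apply, LinearMap.id_apply,
      map_add φ, map_smul φ, map_sub, map_sub, hv, hgv, h5, LinearMap.mem_ker.1 (proj v φ hv z).2]
    simp
  · have := congrArg Subtype.val (LinearMap.congr_fun ha ⟨w, hw⟩)
    rw [schur_coe v φ hv g hgv] at this
    simpa using this
  · rw [trace_schur g v φ hv hgv] at h
    linear_combination -h

/-- Operators to which the induction applies. -/
def Adm (g : End F V) : Prop :=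
  finrank F V = 1 ∨ (∀ a : F, g ≠ a • LinearMap.id) ∧
    ((finrank F V = 2 ∧ LinearMap.trace F V g ≠ 2) ∨
      (3 ≤ finrank F V ∧ 2 ≤ finrank F (LinearMap.range (g - LinearMap.id))))

theorem split_all (hq : 5 ≤ Fintype.card F) :
    ∀ (n : ℕ) (V : Type u) [AddCommGroup V] [Module F V] [FiniteDimensional F V] (g : End F V),
      finrank F V = n + 1 → LinearMap.det g = 1 → Adm g →
      ∀ (X : V) (Y : Dual F V), X ≠ 0 → Y ≠ 0 → Split g X Y := by
  intro n
  induction n with
  | zero => exact fun V _ _ _ g hn hd _ X Y hX hY => split_one g hn hd hX hY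
  | succ n ih =>
    intro V _ _ _ g hn hd hg X Y hX hY
    rcases hg with h1 | ⟨hns, ⟨h2, ht⟩ | ⟨h3, hr⟩⟩
    · omega
    · exact split_two (by omega) g h2 hd hns ht hX hY
    have hW : ∀ (φ : Dual F V) (v : V), φ v = 1 → finrank F (LinearMap.ker φ) + 1 = finrank F V := fun φ v hv =>
      Module.Dual.finrank_ker_add_one_of_ne_zero (f := φ) (fun h => by simp [h] at hv)
    rcases eq_or_lt_of_le h3 with h3' | h4
    · obtain ⟨v, φ, hv, hgv, hφX, hYv, hX1, hY1, hns1, ht1⟩ :=
        exists_step_three hq g h3'.symm hd hns hr hX hY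
      have := hW φ v hv
      exact split_step g v φ hv hgv hφX hYv (ih _ _ (by omega) ((det_schur v φ hv g hgv).trans hd)
        (Or.inr ⟨hns1, Or.inl ⟨by omega, ht1⟩⟩) _ _ hX1 hY1)
    · obtain ⟨v, φ, hv, hgv, hφX, hYv, hns1, hr4, hnext⟩ := exists_step g hd hns
        (by rw [if_neg (by omega)]; exact hr) (Or.inl ⟨by omega, by omega⟩) X hX Y hY
      obtain ⟨-, hX1, hY1⟩ := hnext (Or.inl ⟨by omega, by omega⟩)
      have := hW φ v hv
      exact split_step g v φ hv hgv hφX hYv (ih _ _ (by omega) ((det_schur v φ hv g hgv).trans hd)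
        (Or.inr ⟨hns1, Or.inr ⟨by omega, hr4 (by omega)⟩⟩) _ _ hX1 hY1)

end Cfsg.Agent.Thompson.UnipPair
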